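import Mathlib

/-!
Two generators of the alternating group of degree six and the orders of its elements.
-/

set_option autoImplicit false

namespace Cfsg.Agent.H97.SpEven.AltSix

open Equiv

/-- An involution. -/
def gA : Perm (Fin 6) := swap 0 1 * swap 2 3

/-- An element of order four. -/
def gB : Perm (Fin 6) := swap 0 1 * swap 1 2 * swap 2 4 * swap 3 5

/-- Value of a word. -/
def wd : List Bool → Perm (Fin 6)
  | [] => 1
  | c :: t => (if c then gB else gA) * wd t

def tab0 : Fin 6 → List Bool :=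
  ![[], [false], [true, false], [false, true, false], [true, true, false], [true, false, true, false]]

def tab1 : Fin 6 → List Bool :=
  ![[], [], [true, false, true, true, true], [false, true], [true, true, true, false], [false, true, false, true]]

def tab2 : Fin 6 → List Bool :=
  ![[], [], [], [true, false, true, true, false, true, true, true, false],
    [false, true, true, false, true, true, true, false, true, false, true],
    [false, true, false, true, true, false, true, true, true]]

def tab3 : Fin 6 → List Bool :=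
  ![[], [], [], [], [true, true, false, true, true, true, false, true, false, true, false],
    [true, false, true, false, true, true, false, true, true]]

def step (tab : Fin 6 → List Bool) (k : Fin 6) (g : Perm (Fin 6)) : Perm (Fin 6) :=
  (wd (tab (g k)))⁻¹ * g

def red (g : Perm (Fin 6)) : Perm (Fin 6) := step tab3 3 (step tab2 2 (step tab1 1 (step tab0 0 g)))

theorem red_eq : ∀ g : Perm (Fin 6), Perm.sign g = 1 → red g = 1 := by decide +kernel

theorem orders : ∀ g : Perm (Fin 6), Perm.sign g = 1 → g ^ 4 = 1 ∨ g ^ 3 = 1 ∨ g ^ 5 = 1 := by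
  decide +kernel

theorem wd_mem (C : Subgroup (Perm (Fin 6))) (ha : gA ∈ C) (hb : gB ∈ C) : ∀ w, wd w ∈ C
  | [] => C.one_mem
  | c :: t => C.mul_mem (by cases c <;> simp [ha, hb]) (wd_mem C ha hb t)

theorem mem_of_gens (C : Subgroup (Perm (Fin 6))) (ha : gA ∈ C) (hb : gB ∈ C) {g : Perm (Fin 6)}
    (hg : Perm.sign g = 1) : g ∈ C := by
  have key : ∀ (tab : Fin 6 → List Bool) (k : Fin 6) (h : Perm (Fin 6)), step tab k h ∈ C → h ∈ C :=
    fun tab k h hs => by
      have := C.mul_mem (wd_mem C ha hb (tab (h k))) hs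
      rwa [step, ← mul_assoc, mul_inv_cancel, one_mul] at this
  have h : red g ∈ C := red_eq g hg ▸ C.one_mem
  exact key _ _ _ (key _ _ _ (key _ _ _ (key _ _ _ h)))

/-- The first generator in the group. -/
def aA : alternatingGroup (Fin 6) := ⟨gA, by rw [Equiv.Perm.mem_alternatingGroup]; decide +kernel⟩

/-- The second generator in the group. -/
def bA : alternatingGroup (Fin 6) := ⟨gB, by rw [Equiv.Perm.mem_alternatingGroup]; decide +kernel⟩

theorem eq_top {C : Subgroup (alternatingGroup (Fin 6))} (ha : aA ∈ C) (hb : bA ∈ C) : C = ⊤ := by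
  refine eq_top_iff.mpr fun g _ => ?_
  obtain ⟨x, hx, hxg⟩ := mem_of_gens (C.map (alternatingGroup (Fin 6)).subtype) ⟨aA, ha, rfl⟩
    ⟨bA, hb, rfl⟩ (Equiv.Perm.mem_alternatingGroup.mp g.2)
  exact (Subtype.ext hxg : x = g) ▸ hx

theorem facts : aA * aA = 1 ∧ aA ≠ 1 ∧ bA ^ 4 = 1 ∧ (aA * bA) ^ 5 = 1 ∧ aA * bA ≠ 1 := by
  refine ⟨Subtype.ext ?_, fun h => ?_, Subtype.ext ?_, Subtype.ext ?_, fun h => ?_⟩
  · show gA * gA = 1; decide +kernel
  · have h' : gA = 1 := congrArg Subtype.val h
    revert h'; decide +kernel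
  · show gB ^ 4 = 1; decide +kernel
  · show (gA * gB) ^ 5 = 1; decide +kernel
  · have h' : gA * gB = 1 := congrArg Subtype.val h
    revert h'; decide +kernel

theorem conj_of_order_five {g : alternatingGroup (Fin 6)} (h1 : g ≠ 1) (h5 : g ^ 5 = 1) :
    ∃ k : alternatingGroup (Fin 6), ∃ i : ℕ, k * g * k⁻¹ ∈ Subgroup.zpowers (aA * bA) ∧
      (k * g * k⁻¹) ^ i = aA * bA := by
  haveI : Fact (Nat.Prime 5) := ⟨by norm_num⟩
  have hc : orderOf (aA * bA) = 5 := orderOf_eq_prime facts.2.2.2.1 facts.2.2.2.2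
  have hg : orderOf g = 5 := orderOf_eq_prime h5 h1
  have hf : (Nat.card (alternatingGroup (Fin 6))).factorization 5 = 1 := by
    rw [nat_card_alternatingGroup, Nat.card_eq_fintype_card, Fintype.card_fin]
    rw [show Nat.factorial 6 / 2 = 5 * 72 by decide]
    rw [Nat.factorization_mul (by norm_num) (by norm_num), Finsupp.add_apply,
      Nat.Prime.factorization_self (by norm_num), Nat.factorization_eq_zero_of_not_dvd (by decide)]
  let S₁ : Sylow 5 (alternatingGroup (Fin 6)) :=
    Sylow.ofCard (Subgroup.zpowers g) (by rw [Nat.card_zpowers, hg, hf, pow_one])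
  let S₂ : Sylow 5 (alternatingGroup (Fin 6)) :=
    Sylow.ofCard (Subgroup.zpowers (aA * bA)) (by rw [Nat.card_zpowers, hc, hf, pow_one])
  obtain ⟨k, hk⟩ := MulAction.exists_smul_eq (alternatingGroup (Fin 6)) S₁ S₂
  have h1' : k * g * k⁻¹ ∈ ((k • S₁ : Sylow 5 (alternatingGroup (Fin 6))) : Subgroup _) := by
    rw [Sylow.coe_subgroup_smul]
    exact ⟨g, Subgroup.mem_zpowers g, rfl⟩
  rw [hk] at h1'
  have hne : k * g * k⁻¹ ≠ 1 := by rwa [ne_eq, conj_eq_one_iff]
  have hmem : k * g * k⁻¹ ∈ Subgroup.zpowers (aA * bA) := h1'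
  have hK : Subgroup.zpowers (k * g * k⁻¹) = Subgroup.zpowers (aA * bA) :=
    Subgroup.eq_of_le_of_card_ge (Subgroup.zpowers_le.mpr hmem) (by
      rw [Nat.card_zpowers, Nat.card_zpowers, hc, ← MulAut.conj_apply, MulEquiv.orderOf_eq, hg])
  obtain ⟨i, hi⟩ := (mem_powers_iff_mem_zpowers (x := k * g * k⁻¹)).mpr (hK ▸ Subgroup.mem_zpowers (aA * bA))
  exact ⟨k, i, hmem, hi⟩

end Cfsg.Agent.H97.SpEven.AltSix
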