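import Cfsg.Agent.H97.SpEven.Star

/-!
Traces and eigenvalues of elements of the symplectic group of dimension four in characteristic two.
-/

set_option autoImplicit false
set_option linter.unusedSectionVars false
set_option linter.unusedSimpArgs false
set_option linter.style.haveILetI false

namespace Cfsg.Agent.H97.SpEven

open Matrix Polynomial
open Cfsg.Lie (altForm4 star4)

variable {F : Type*} [Field F] [CharP F 2]

local notation "M4" => Matrix (Fin 4) (Fin 4) F
local notation "G4" => GL (Fin 4) F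

theorem det_sq_form : (suzukiForm F) * suzukiForm F = 1 := by
  ext i j; fin_cases i <;> fin_cases j <;> simp [suzukiForm]

theorem inv_eq_sp {g : G4} (hg : g ∈ Lie.Sp4 F) :
    ((g⁻¹ : G4) : M4) = suzukiForm F * (g : M4)ᵀ * suzukiForm F := by
  have h1 : (suzukiForm F * (g : M4)ᵀ * suzukiForm F) * (g : M4) = 1 := by
    rw [Matrix.mul_assoc, Matrix.mul_assoc, ← Matrix.mul_assoc (g : M4)ᵀ, Suzuki.mem_Sp4_iff.mp hg, det_sq_form]
  calc ((g⁻¹ : G4) : M4) = (suzukiForm F * (g : M4)ᵀ * suzukiForm F) * (g : M4) * ((g⁻¹ : G4) : M4) := by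
        rw [h1, Matrix.one_mul]
    _ = _ := by rw [Matrix.mul_assoc, ← Units.val_mul, mul_inv_cancel, Units.val_one, Matrix.mul_one]

theorem trace_inv {g : G4} (hg : g ∈ Lie.Sp4 F) : ((g⁻¹ : G4) : M4).trace = (g : M4).trace := by
  rw [inv_eq_sp hg, Matrix.mul_assoc, Matrix.trace_mul_comm, Matrix.mul_assoc, det_sq_form,
    Matrix.mul_one, Matrix.trace_transpose]

theorem trace_sq (A : M4) : (A * A).trace = A.trace ^ 2 := by
  simp [Matrix.trace, Matrix.mul_apply, Fin.sum_univ_four]
  linear_combination (norm := skip) (0 : F) * two0 (F := F)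
  ring_nf
  simp [two0]

theorem trace_pow_two (g : G4) (k : ℕ) : ((g ^ 2 ^ k : G4) : M4).trace = (g : M4).trace ^ 2 ^ k := by
  induction k with
  | zero => simp
  | succ k ih =>
    rw [pow_succ, pow_mul, pow_two, Units.val_mul, trace_sq, ih, ← pow_mul]

theorem det_smul_one_sub {R : Type*} [CommRing R] (c : R) (A : Matrix (Fin 4) (Fin 4) R) :
    (c • 1 - A).det = c ^ 4 - A.trace * c ^ 3 +
      ((A 0 0 * A 1 1 - A 0 1 * A 1 0) + (A 0 0 * A 2 2 - A 0 2 * A 2 0) + (A 0 0 * A 3 3 - A 0 3 * A 3 0) +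
       (A 1 1 * A 2 2 - A 1 2 * A 2 1) + (A 1 1 * A 3 3 - A 1 3 * A 3 1) +
       (A 2 2 * A 3 3 - A 2 3 * A 3 2)) * c ^ 2 - A.adjugate.trace * c + A.det := by
  simp [Matrix.trace, Fin.sum_univ_four, Matrix.adjugate_fin_succ_eq_det_submatrix, Matrix.det_succ_row_zero,
    Fin.sum_univ_succ, Matrix.one_apply, Fin.succAbove]
  ring

theorem adjugate_trace {h : G4} (hh : h ∈ Lie.Sp4 F) :
    (h : M4).adjugate.trace = (h : M4).trace ∧ (h : M4).det = 1 := by
  have hdet : (h : M4).det = 1 := by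
    have h1 := congrArg Matrix.det (Suzuki.mem_Sp4_iff.mp hh)
    rw [Matrix.det_mul, Matrix.det_mul, Matrix.det_transpose] at h1
    have hJd : (suzukiForm F).det ≠ 0 := fun h0 => by
      have := congrArg Matrix.det (det_sq_form (F := F))
      rw [Matrix.det_mul, h0, mul_zero, Matrix.det_one] at this
      exact zero_ne_one this
    have h3 : (h : M4).det * (h : M4).det = 1 := mul_right_cancel₀ hJd (by linear_combination h1)
    have h4 : ((h : M4).det + 1) * ((h : M4).det + 1) = 0 := by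
      linear_combination h3 + ((h : M4).det + 1) * two0 (F := F)
    exact CharTwo.add_eq_zero.mp (mul_self_eq_zero.mp h4)
  refine ⟨?_, hdet⟩
  have hadj : (h : M4).adjugate = ((h⁻¹ : G4) : M4) := by
    calc (h : M4).adjugate = ((h⁻¹ : G4) : M4) * ((h : M4) * (h : M4).adjugate) := by
          rw [← Matrix.mul_assoc, ← Units.val_mul, inv_mul_cancel, Units.val_one, Matrix.one_mul]
      _ = _ := by rw [Matrix.mul_adjugate, hdet, one_smul, Matrix.mul_one]
  rw [hadj, trace_inv hh]

theorem det_smul_add {h : G4} (hh : h ∈ Lie.Sp4 F) (d : F) :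
    (1 + d • (h : M4)).det = 1 + d * (h : M4).trace + d ^ 2 * (star4 (h : M4)).trace +
      d ^ 3 * (h : M4).trace + d ^ 4 := by
  obtain ⟨hadj, hdet⟩ := adjugate_trace hh
  rw [trace_star hh, add_comm (h : M4) 1, det_one_add, det_one_add, hadj, hdet, Matrix.trace_smul,
    Matrix.adjugate_smul, Matrix.trace_smul, Matrix.det_smul, hadj, hdet]
  simp only [Matrix.smul_apply, smul_eq_mul, Fintype.card_fin]
  linear_combination (norm := skip) (0 : F) * two0 (F := F)
  ring_nf
  simp [two0]

/-- Cayley-Hamilton for a symplectic matrix. -/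
theorem cayley_sp {h : G4} (hh : h ∈ Lie.Sp4 F) :
    (h : M4) ^ 4 + (h : M4).trace • (h : M4) ^ 3 + (star4 (h : M4)).trace • (h : M4) ^ 2 +
      (h : M4).trace • (h : M4) + 1 = 0 := by
  obtain ⟨hadj, hdet⟩ := adjugate_trace hh
  have he := det_smul_add hh 1
  rw [one_smul, det_one_add, hadj, hdet] at he
  have hcp : (h : M4).charpoly = X ^ 4 + C (h : M4).trace * X ^ 3 + C (star4 (h : M4)).trace * X ^ 2 +
      C (h : M4).trace * X + C 1 := by
    have e : charmatrix (h : M4) = (X : F[X]) • 1 - (h : M4).map C := by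
      rw [charmatrix, Matrix.scalar_apply, Matrix.smul_one_eq_diagonal]; rfl
    have ha : ((h : M4).map (C : F → F[X])).adjugate.trace = C (h : M4).trace := by
      rw [← RingHom.mapMatrix_apply, ← RingHom.map_adjugate, RingHom.mapMatrix_apply, ← hadj]
      exact (AddMonoidHom.map_trace (C : F →+* F[X]).toAddMonoidHom _).symm
    have ht : ((h : M4).map (C : F → F[X])).trace = C (h : M4).trace :=
      (AddMonoidHom.map_trace (C : F →+* F[X]).toAddMonoidHom _).symm
    have hd : ((h : M4).map (C : F → F[X])).det = C 1 := by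
      rw [← RingHom.mapMatrix_apply, ← RingHom.map_det, hdet]
    rw [Matrix.charpoly, e, det_smul_one_sub, ha, ht, hd]
    simp only [Matrix.map_apply, ← map_mul, ← map_sub, ← map_add]
    have hval : (star4 (h : M4)).trace = (h : M4) 0 0 * (h : M4) 1 1 - (h : M4) 0 1 * (h : M4) 1 0 +
        ((h : M4) 0 0 * (h : M4) 2 2 - (h : M4) 0 2 * (h : M4) 2 0) +
        ((h : M4) 0 0 * (h : M4) 3 3 - (h : M4) 0 3 * (h : M4) 3 0) +
        ((h : M4) 1 1 * (h : M4) 2 2 - (h : M4) 1 2 * (h : M4) 2 1) +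
        ((h : M4) 1 1 * (h : M4) 3 3 - (h : M4) 1 3 * (h : M4) 3 1) +
        ((h : M4) 2 2 * (h : M4) 3 3 - (h : M4) 2 3 * (h : M4) 3 2) := by
      linear_combination -he
    rw [← hval]
    haveI : CharP F[X] 2 := inferInstance
    simp only [CharTwo.sub_eq_add]
  have := Matrix.aeval_self_charpoly (h : M4)
  rw [hcp] at this
  simpa [Algebra.smul_def] using this

theorem trace_four {g : G4} (hg : g ^ 4 = 1) : (g : M4).trace = 0 := by
  have h := trace_pow_two g 2
  rw [show (2 : ℕ) ^ 2 = 4 from rfl, hg, Units.val_one, Matrix.trace_one, Fintype.card_fin] at h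
  refine eq_zero_of_pow_eq_zero (n := 4) (h.symm.trans ?_)
  push_cast
  linear_combination 2 * two0 (F := F)

theorem trace_three {g : G4} (hg : g ∈ Lie.Sp4 F) (h3 : g ^ 3 = 1) :
    (g : M4).trace = 0 ∨ (g : M4).trace = 1 := by
  have h2 : g * g = g⁻¹ := eq_inv_of_mul_eq_one_left (by rw [← h3, pow_succ, pow_two])
  have h := trace_sq (g : M4)
  rw [← Units.val_mul, h2, trace_inv hg] at h
  rcases eq_or_ne (g : M4).trace 0 with h0 | h0
  · exact Or.inl h0
  · exact Or.inr (mul_left_cancel₀ h0 (by rw [mul_one, ← sq]; exact h.symm))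

/-- An element of order five without fixed vectors. -/
theorem trace_five (hq : ∃ c : F, c ≠ 0 ∧ c ≠ 1) {g : G4} (hg : g ∈ Lie.Sp4 F) (h5 : g ^ 5 = 1)
    (hfix : ∀ v : Fin 4 → F, (g : M4) *ᵥ v = v → v = 0) : (g : M4).trace = 0 ∨ (g : M4).trace = 1 := by
  by_cases ht : (g : M4).trace = 1
  · exact Or.inr ht
  left
  set x := (g : M4) with hx
  have h5' : x ^ 5 = 1 := by rw [hx, ← Units.val_pow_eq_pow_val, h5, Units.val_one]
  have hphi : x ^ 4 + x ^ 3 + x ^ 2 + x + 1 = 0 := by
    refine Matrix.ext_of_mulVec_single fun i => ?_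
    rw [zero_mulVec]
    refine hfix _ (add_eq_zero_vec ?_)
    rw [mulVec_mulVec, ← add_mulVec]
    have : x * (x ^ 4 + x ^ 3 + x ^ 2 + x + 1) + (x ^ 4 + x ^ 3 + x ^ 2 + x + 1) =
        x ^ 5 + (x ^ 4 + x ^ 4) + (x ^ 3 + x ^ 3) + (x ^ 2 + x ^ 2) + (x + x) + 1 := by noncomm_ring
    rw [this, h5', CharTwo.add_self_eq_zero, CharTwo.add_self_eq_zero, CharTwo.add_self_eq_zero,
      CharTwo.add_self_eq_zero, add_zero, add_zero, add_zero, add_zero, CharTwo.add_self_eq_zero, zero_mulVec]
  set t := x.trace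
  set e := (star4 x).trace with he
  have hch := cayley_sp hg
  rw [← hx] at hch
  have hcomb : x * ((t + 1) • x ^ 2 + (e + 1) • x + (t + 1) • (1 : M4)) = 0 := by
    have : x * ((t + 1) • x ^ 2 + (e + 1) • x + (t + 1) • (1 : M4)) =
        (x ^ 4 + t • x ^ 3 + e • x ^ 2 + t • x + 1) + (x ^ 4 + x ^ 3 + x ^ 2 + x + 1) -
          ((x ^ 4 + 1) + (x ^ 4 + 1)) + 0 := by
      simp only [mul_add, Matrix.mul_smul, add_smul, one_smul, mul_one, ← pow_succ', pow_one, ← pow_two]
      abel
    rw [this, hch, hphi]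
    simp only [CharTwo.add_self_eq_zero, sub_zero, add_zero]
  have hcomb' : (t + 1) • x ^ 2 + (e + 1) • x + (t + 1) • (1 : M4) = 0 := by
    have := congrArg (fun A : M4 => ((g⁻¹ : G4) : M4) * A) hcomb
    simpa [← Matrix.mul_assoc, hx, ← Units.val_mul] using this
  have ht1 : t + 1 ≠ 0 := fun h => ht (CharTwo.add_eq_zero.mp h)
  set s := (e + 1) / (t + 1)
  have hquad : x ^ 2 + s • x + 1 = 0 := by
    have := congrArg (fun A : M4 => (t + 1)⁻¹ • A) hcomb'
    simpa [smul_add, smul_smul, ht1, s, div_eq_inv_mul] using this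
  obtain ⟨c, hc0, hc1⟩ := hq
  have hdet : (1 + c • x).det ^ 2 = (1 + c * s + c ^ 2) ^ 4 := by
    have hinv : ((g⁻¹ : G4) : M4) = x + s • 1 := by
      have h1 : x * (x + s • 1) = 1 := by
        rw [mul_add, Matrix.mul_smul, mul_one, ← pow_two]
        exact CharTwo.add_eq_zero.mp hquad
      calc ((g⁻¹ : G4) : M4) = ((g⁻¹ : G4) : M4) * (x * (x + s • 1)) := by rw [h1, mul_one]
        _ = _ := by rw [← mul_assoc, hx, ← Units.val_mul, inv_mul_cancel, Units.val_one, one_mul]
    have h2 : (1 + c • x) * (1 + c • ((g⁻¹ : G4) : M4)) = (1 + c * s + c ^ 2) • (1 : M4) := by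
      have hgg : x * ((g⁻¹ : G4) : M4) = 1 := by
        rw [hx, ← Units.val_mul, mul_inv_cancel, Units.val_one]
      rw [add_mul, mul_add, mul_add, Matrix.smul_mul, Matrix.smul_mul, Matrix.mul_smul, Matrix.mul_smul,
        hgg, one_mul, one_mul, mul_one, hinv, smul_smul, smul_add, smul_smul, add_smul, add_smul, one_smul, sq]
      rw [show (1 : M4) + (c • x + (c * s) • 1) + (c • x + (c * c) • 1) =
        (1 : M4) + (c * s) • (1 : M4) + (c * c) • (1 : M4) + (c • x + c • x) by abel,
        CharTwo.add_self_eq_zero, add_zero]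
    have hdinv : (1 + c • ((g⁻¹ : G4) : M4)).det = (1 + c • x).det := by
      have e1 : (1 : M4) + c • ((g⁻¹ : G4) : M4) = suzukiForm F * (1 + c • x)ᵀ * suzukiForm F := by
        rw [inv_eq_sp hg, Matrix.transpose_add, Matrix.transpose_one, Matrix.transpose_smul, mul_add, add_mul,
          mul_one, det_sq_form, Matrix.mul_smul, Matrix.smul_mul]
      have hJ := congrArg Matrix.det (det_sq_form (F := F))
      rw [Matrix.det_mul, Matrix.det_one] at hJ
      rw [e1, Matrix.det_mul, Matrix.det_mul, Matrix.det_transpose, mul_comm, ← mul_assoc, hJ, one_mul]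
    have h3 := congrArg Matrix.det h2
    rw [Matrix.det_mul, hdinv, Matrix.det_smul, Matrix.det_one, mul_one, Fintype.card_fin, ← sq] at h3
    exact h3
  have hd := det_smul_add hg c
  have h1 : (1 + c • x).det = (1 + c * s + c ^ 2) ^ 2 :=
    CharTwo.sq_inj.mp (by rw [hdet, ← pow_mul])
  -- the value at one
  have hdet1 : (1 + (1 : F) • x).det = s ^ 2 := by
    have hsq : ((1 : M4) + (1 : F) • x) * (1 + (1 : F) • x) = s • x := by
      rw [one_smul, add_mul, mul_add, mul_add, one_mul, one_mul, mul_one, ← pow_two]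
      have hx2 : x ^ 2 = s • x + 1 := CharTwo.add_eq_zero.mp (by rw [← add_assoc]; exact hquad)
      rw [hx2, show (1 : M4) + x + (x + (s • x + 1)) = s • x + (1 + 1) + (x + x) by abel,
        CharTwo.add_self_eq_zero, CharTwo.add_self_eq_zero, add_zero, add_zero]
    have h3 := congrArg Matrix.det hsq
    rw [Matrix.det_mul, Matrix.det_smul, Fintype.card_fin, hx, (adjugate_trace hg).2, mul_one, ← hx] at h3
    exact CharTwo.sq_inj.mp (by rw [sq, h3, ← pow_mul])
  have he1 := det_smul_add hg 1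
  rw [← hx, hdet1] at he1
  rw [← hx, h1] at hd
  have key : c * (1 + c ^ 2) * t = 0 := by
    linear_combination (norm := skip) hd + c ^ 2 * he1
    simp only [show t = x.trace from rfl]
    ring_nf
    simp [two0]
  refine (mul_eq_zero.mp key).resolve_left (mul_ne_zero hc0 fun h => hc1 ?_)
  exact CharTwo.sq_inj.mp (by rw [one_pow]; exact (CharTwo.add_eq_zero.mp h).symm)

/-- An element of prime order at least seven conjugate to its square. -/
theorem no_big_prime {g : G4} (hg : g ∈ Lie.Sp4 F) {p : ℕ} (hp : p.Prime) (h7 : 7 ≤ p) (hgp : g ^ p = 1)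
    (hg1 : g ≠ 1) {k : G4} (hk : k * g * k⁻¹ = g ^ 2) : False := by
  classical
  let K := AlgebraicClosure F
  haveI : Fact (Nat.Prime p) := ⟨hp⟩
  let φ := algebraMap F K
  set A : Matrix (Fin 4) (Fin 4) K := (g : M4).map φ with hA
  let Φ : M4 →+* Matrix (Fin 4) (Fin 4) K := φ.mapMatrix
  have hΦ : Φ (g : M4) = A := rfl
  have hAp : A ^ p = 1 := by
    rw [← hΦ, ← map_pow, ← Units.val_pow_eq_pow_val, hgp, Units.val_one, map_one]
  have hA1 : A ≠ 1 := fun h => hg1 (Units.ext (by
    rw [Units.val_one]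
    exact Matrix.map_injective φ.injective (show (g : M4).map φ = (1 : M4).map φ by
      rw [← hA, h, Matrix.map_one _ (map_zero _) (map_one _)])))
  have hA2 : (A ^ 2).charpoly = A.charpoly := by
    have h : (g : M4).charpoly = ((g ^ 2 : G4) : M4).charpoly := by
      rw [← hk, Units.val_mul, Units.val_mul, Matrix.coe_units_inv, Matrix.charpoly_units_conj]
    rw [← hΦ, ← map_pow, ← Units.val_pow_eq_pow_val]
    show (((g ^ 2 : G4) : M4).map φ).charpoly = ((g : M4).map φ).charpoly
    rw [Matrix.charpoly_map, Matrix.charpoly_map, h]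
  have hAi : (A ^ (p - 1)).charpoly = A.charpoly := by
    have hi : g ^ (p - 1) = g⁻¹ := eq_inv_of_mul_eq_one_left (by
      rw [← pow_succ, Nat.sub_add_cancel hp.one_le, hgp])
    rw [← hΦ, ← map_pow, ← Units.val_pow_eq_pow_val, hi]
    show (((g⁻¹ : G4) : M4).map φ).charpoly = ((g : M4).map φ).charpoly
    rw [Matrix.charpoly_map, Matrix.charpoly_map]
    refine congrArg (Polynomial.map φ) ?_
    let Ju : G4 := ⟨suzukiForm F, suzukiForm F, det_sq_form, det_sq_form⟩
    have : ((g⁻¹ : G4) : M4) = (Ju : M4) * (g : M4)ᵀ * ((Ju⁻¹ : G4) : M4) := inv_eq_sp hg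
    rw [this, Matrix.coe_units_inv, Matrix.charpoly_units_conj, Matrix.charpoly_transpose]
  have hspec : ∀ μ : K, μ ∈ spectrum K A → μ ^ 2 ∈ spectrum K A ∧ μ ^ (p - 1) ∈ spectrum K A ∧ μ ^ p = 1 := by
    intro μ hμ
    refine ⟨?_, ?_, ?_⟩
    · have := spectrum.pow_mem_pow A 2 hμ
      rwa [Matrix.mem_spectrum_iff_isRoot_charpoly, hA2, ← Matrix.mem_spectrum_iff_isRoot_charpoly] at this
    · have := spectrum.pow_mem_pow A (p - 1) hμ
      rwa [Matrix.mem_spectrum_iff_isRoot_charpoly, hAi, ← Matrix.mem_spectrum_iff_isRoot_charpoly] at this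
    · have := spectrum.pow_mem_pow A p hμ
      rw [hAp, spectrum.one_eq] at this
      exact this
  -- a nontrivial eigenvalue
  obtain ⟨μ, hμ, hμ1⟩ : ∃ μ ∈ spectrum K A, μ ≠ 1 := by
    by_contra hcon
    push Not at hcon
    have hroots : A.charpoly.roots = Multiset.replicate 4 1 := by
      refine Multiset.eq_replicate.mpr ⟨?_, fun r hr => hcon r ?_⟩
      · rw [← (IsAlgClosed.splits A.charpoly).natDegree_eq_card_roots, Matrix.charpoly_natDegree_eq_dim,
          Fintype.card_fin]
      · rw [Matrix.mem_spectrum_iff_isRoot_charpoly]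
        exact (Polynomial.mem_roots (Matrix.charpoly_monic A).ne_zero).mp hr
    have hcp : A.charpoly = (X - C 1) ^ 4 := by
      conv_lhs => rw [(IsAlgClosed.splits A.charpoly).eq_prod_roots_of_monic (Matrix.charpoly_monic A),
        hroots, Multiset.map_replicate, Multiset.prod_replicate]
    have h := Matrix.aeval_self_charpoly A
    rw [hcp] at h
    simp at h
    haveI : CharP K 2 := charP_of_injective_algebraMap φ.injective 2
    have h4 : A ^ 4 = 1 := by
      have h' := sub_pow_char_pow_of_commute 2 2 (Commute.one_right A)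
      rw [show (2 : ℕ) ^ 2 = 4 from rfl, h, one_pow] at h'
      exact sub_eq_zero.mp h'.symm
    refine hA1 ?_
    have hcop : Nat.Coprime 4 p := by
      refine ((Nat.coprime_primes Nat.prime_two hp).mpr (by omega)).pow_left 2
    obtain ⟨a, b, hab⟩ : ∃ a b : ℕ, a * 4 = b * p + 1 := by
      obtain ⟨a, ha⟩ := Nat.exists_mul_mod_eq_one_of_coprime hcop (by omega)
      exact ⟨a, 4 * a / p, by have := Nat.div_add_mod (4 * a) p; rw [ha.2] at this; linarith⟩
    calc A = A ^ (b * p + 1) := by rw [pow_succ, mul_comm b, pow_mul, hAp, one_pow, one_mul]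
      _ = 1 := by rw [← hab, mul_comm a, pow_mul, h4, one_pow]
  obtain ⟨h2, hi, hμp⟩ := hspec μ hμ
  obtain ⟨h4, hi2, -⟩ := hspec _ h2
  have hμ0 : μ ≠ 0 := fun h => by rw [h, zero_pow hp.ne_zero] at hμp; exact zero_ne_one hμp
  have hord : orderOf μ = p := orderOf_eq_prime hμp hμ1
  have hinj : ∀ i j : ℕ, i < p → j < p → μ ^ i = μ ^ j → i = j := fun i j hi hj h =>
    pow_injOn_Iio_orderOf (by simpa [hord] using hi) (by simpa [hord] using hj) h
  have hmem : ∀ j ∈ ({1, 2, 4, p - 1, p - 2} : Finset ℕ), j < p ∧ μ ^ j ∈ A.charpoly.roots.toFinset := by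
    intro j hj
    rw [Multiset.mem_toFinset, Polynomial.mem_roots (Matrix.charpoly_monic A).ne_zero,
      ← Matrix.mem_spectrum_iff_isRoot_charpoly]
    simp only [Finset.mem_insert, Finset.mem_singleton] at hj
    rcases hj with rfl | rfl | rfl | rfl | rfl
    · exact ⟨by omega, by rwa [pow_one]⟩
    · exact ⟨by omega, h2⟩
    · refine ⟨by omega, ?_⟩
      show μ ^ (2 * 2) ∈ _
      rw [pow_mul]
      exact h4
    · exact ⟨by omega, hi⟩
    · refine ⟨by omega, ?_⟩
      rwa [show μ ^ (p - 2) = (μ ^ 2) ^ (p - 1) by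
        rw [← pow_mul, show 2 * (p - 1) = p + (p - 2) by omega, pow_add, hμp, one_mul]]
  have hle := Finset.card_le_card_of_injOn (s := ({1, 2, 4, p - 1, p - 2} : Finset ℕ)) (fun j => μ ^ j)
    (fun j hj => (hmem j hj).2) (fun i hi' j hj' h => hinj i j (hmem i hi').1 (hmem j hj').1 h)
  have h5 : ({1, 2, 4, p - 1, p - 2} : Finset ℕ).card = 5 := by
    rw [Finset.card_insert_of_notMem, Finset.card_insert_of_notMem, Finset.card_insert_of_notMem,
      Finset.card_insert_of_notMem, Finset.card_singleton] <;> simp <;> omega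
  have h4' : A.charpoly.roots.toFinset.card ≤ 4 := by
    refine (Multiset.toFinset_card_le _).trans ((Polynomial.card_roots' _).trans ?_)
    rw [Matrix.charpoly_natDegree_eq_dim, Fintype.card_fin]
  omega

end Cfsg.Agent.H97.SpEven
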