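import Cfsg.Agent.H97.SpEven.Involution
import Cfsg.Agent.H97.SpEven.AltSixGen
import Cfsg.Agent.H97.SpEven.Eigen

/-!
The alternating group of degree six in dimension four, involutions of the third type: the traces are zero or one.
-/

set_option autoImplicit false
set_option linter.unusedSectionVars false
set_option linter.unusedSimpArgs false
set_option linter.style.haveILetI false

namespace Cfsg.Agent.H97.SpEven

open Matrix AltSix
open Cfsg.Lie (altForm4)
open Cfsg.Geo (matrixSet ActsIrreducibly)

variable {F : Type*} [Field F] [CharP F 2]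

local notation "V4" => (Fin 4 → F)
local notation "M4" => Matrix (Fin 4) (Fin 4) F
local notation "G4" => GL (Fin 4) F

/-- The moving map. -/
def mv (g : G4) : V4 →ₗ[F] V4 := ((g : M4) + 1).mulVecLin

theorem mv_apply (g : G4) (x : V4) : mv g x = (g : M4) *ᵥ x + x := by
  rw [mv, Matrix.mulVecLin_apply, add_mulVec, one_mulVec]

/-- Scott's inequality for three elements with product one. -/
theorem scott {a b c : G4} (habc : a * b * c = 1) (hfix : ∀ x : V4, (a : M4) *ᵥ x = x → (b : M4) *ᵥ x = x → x = 0)
    (htop : LinearMap.range (mv a) ⊔ LinearMap.range (mv b) = ⊤) :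
    8 ≤ Module.finrank F (LinearMap.range (mv a)) + Module.finrank F (LinearMap.range (mv b)) +
      Module.finrank F (LinearMap.range (mv c)) := by
  set A := LinearMap.range (mv a)
  set B := LinearMap.range (mv b)
  set C := LinearMap.range (mv c)
  let Φ : V4 →ₗ[F] (A × B) × C := ((mv a).rangeRestrict.prod (mv b).rangeRestrict).prod (mv c).rangeRestrict
  let Ψ : (A × B) × C →ₗ[F] V4 :=
    (A.subtype.coprod ((a : M4).mulVecLin ∘ₗ B.subtype)).coprod (((a : M4) * (b : M4)).mulVecLin ∘ₗ C.subtype)
  have hΨ : ∀ p : (A × B) × C, Ψ p = (p.1.1 : V4) + (a : M4) *ᵥ (p.1.2 : V4) + ((a : M4) * (b : M4)) *ᵥ (p.2 : V4) :=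
    fun p => rfl
  have hcomp : LinearMap.range Φ ≤ LinearMap.ker Ψ := by
    rintro _ ⟨x, rfl⟩
    rw [LinearMap.mem_ker, hΨ]
    show mv a x + (a : M4) *ᵥ (mv b x) + ((a : M4) * (b : M4)) *ᵥ (mv c x) = 0
    have h1 : ((a : M4) * (b : M4)) *ᵥ ((c : M4) *ᵥ x) = x := by
      rw [mulVec_mulVec, ← Units.val_mul, ← Units.val_mul, habc, Units.val_one, one_mulVec]
    rw [mv_apply, mv_apply, mv_apply, mulVec_add, mulVec_add, mulVec_mulVec, h1]
    rw [show (a : M4) *ᵥ x + x + (((a : M4) * (b : M4)) *ᵥ x + (a : M4) *ᵥ x) + (x + ((a : M4) * (b : M4)) *ᵥ x) =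
      ((a : M4) *ᵥ x + (a : M4) *ᵥ x) + (x + x) + (((a : M4) * (b : M4)) *ᵥ x + ((a : M4) * (b : M4)) *ᵥ x) by abel,
      add_self_vec, add_self_vec, zero_add, zero_add, add_self_vec]
  have hinj : Function.Injective Φ := by
    rw [injective_iff_map_eq_zero]
    intro x hx
    have h1 : mv a x = 0 := congrArg (fun p : (A × B) × C => (p.1.1 : V4)) hx
    have h2 : mv b x = 0 := congrArg (fun p : (A × B) × C => (p.1.2 : V4)) hx
    rw [mv_apply] at h1 h2
    exact hfix x (add_eq_zero_vec h1) (add_eq_zero_vec h2)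
  have hsurj : LinearMap.range Ψ = ⊤ := by
    refine eq_top_iff.mpr (htop.symm.le.trans (sup_le ?_ ?_))
    · intro z hz
      exact ⟨((⟨z, hz⟩, 0), 0), by simp [hΨ]⟩
    · intro z hz
      refine ⟨((⟨mv a z, z, rfl⟩, ⟨z, hz⟩), 0), ?_⟩
      simp only [hΨ, mv_apply, ZeroMemClass.coe_zero, mulVec_zero, add_zero]
      rw [add_comm ((a : M4) *ᵥ z), add_assoc, add_self_vec, add_zero]
  have e1 := LinearMap.finrank_range_of_inj hinj
  have e2 := Ψ.finrank_range_add_finrank_ker
  have e3 := Submodule.finrank_mono hcomp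
  rw [hsurj, finrank_top, Module.finrank_prod, Module.finrank_prod] at e2
  simp only [Module.finrank_fintype_fun_eq_card, Fintype.card_fin] at e1 e2
  omega

theorem range_mv (g : G4) : Module.finrank F (LinearMap.range (mv g)) + Module.finrank F (LinearMap.ker (mv g)) = 4 := by
  rw [(mv g).finrank_range_add_finrank_ker]; simp

/-- The traces are zero or one. -/
theorem alt_six_traces (hq : ∃ c : F, c ≠ 0 ∧ c ≠ 1) {ρ : alternatingGroup (Fin 6) →* G4} (hinj : Function.Injective ρ)
    (hsp : ∀ g, ρ g ∈ Lie.Sp4 F) (irr : ActsIrreducibly (matrixSet ρ.range))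
    (hc2 : ∀ g, g ≠ 1 → g * g = 1 → IsC2 (ρ g)) :
    ∀ g, (ρ g : M4).trace = 0 ∨ (ρ g : M4).trace = 1 := by
  obtain ⟨haa, ha1, hb4, hc5, hc1⟩ := AltSix.facts
  set a := ρ aA
  set b := ρ bA
  set c := ρ (aA * bA)
  have hgen : ∀ (S : Set V4), (∀ x ∈ S, (a : M4) *ᵥ x ∈ S) → (∀ x ∈ S, (b : M4) *ᵥ x ∈ S) →
      ∀ g, ∀ x ∈ S, (ρ g : M4) *ᵥ x ∈ S := by
    intro S ha hb
    let H : Submonoid (alternatingGroup (Fin 6)) :=
      { carrier := {g | ∀ x ∈ S, (ρ g : M4) *ᵥ x ∈ S}
        one_mem' := fun x hx => by rwa [map_one, Units.val_one, one_mulVec]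
        mul_mem' := fun {u w} hu hw x hx => by
          rw [map_mul, Units.val_mul, ← mulVec_mulVec]; exact hu _ (hw x hx) }
    have hle : Subgroup.closure ({aA, bA} : Set (alternatingGroup (Fin 6))) = ⊤ :=
      AltSix.eq_top (Subgroup.subset_closure (by simp)) (Subgroup.subset_closure (by simp))
    intro g
    have hmem : g ∈ Submonoid.closure ({aA, bA} : Set (alternatingGroup (Fin 6))) := by
      rw [← Subgroup.closure_toSubmonoid_of_finite, hle]; trivial
    exact (Submonoid.closure_le.mpr (by rintro _ (rfl | rfl); exacts [ha, hb]) : _ ≤ H) hmem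
  have hab : a * b * c⁻¹ = 1 := by
    show ρ aA * ρ bA * (ρ (aA * bA))⁻¹ = 1
    rw [map_mul, mul_inv_cancel]
  have hfix : ∀ x : V4, (a : M4) *ᵥ x = x → (b : M4) *ᵥ x = x → x = 0 := by
    intro x hxa hxb
    by_contra hx
    rcases irr (Submodule.span F {x}) (by
      rintro _ ⟨_, ⟨g, rfl⟩, rfl⟩ _ ⟨w, hw, rfl⟩
      rw [Matrix.toLin'_apply]
      refine hgen {w | w ∈ Submodule.span F ({x} : Set V4)} ?_ ?_ g w hw <;>
      · intro v hv
        obtain ⟨k, rfl⟩ := Submodule.mem_span_singleton.mp hv
        simp only [Set.mem_ofPred_eq, mulVec_smul, hxa, hxb]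
        exact hv) with h | h
    · exact hx (by simpa using h)
    · have := congrArg (fun U : Submodule F V4 => Module.finrank F U) h
      rw [finrank_span_singleton hx, finrank_top] at this
      simp at this
  have ha2 : Module.finrank F (LinearMap.range (mv a)) = 2 := by
    have := range_mv a
    have h : Module.finrank F (LinearMap.ker (mv a)) = 2 := (hc2 aA ha1 haa).1
    omega
  have htop : LinearMap.range (mv a) ⊔ LinearMap.range (mv b) = ⊤ := by
    set U := LinearMap.range (mv a) ⊔ LinearMap.range (mv b)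
    refine (irr U ?_).resolve_left fun h => ?_
    · rintro _ ⟨_, ⟨g, rfl⟩, rfl⟩ _ ⟨w, hw, rfl⟩
      rw [Matrix.toLin'_apply]
      refine hgen (U : Set V4) ?_ ?_ g w hw
      · intro v hv
        have h1 : (a : M4) *ᵥ v + v ∈ U := Submodule.mem_sup_left ⟨v, mv_apply a v⟩
        have := U.sub_mem h1 hv
        rwa [add_sub_cancel_right] at this
      · intro v hv
        have h1 : (b : M4) *ᵥ v + v ∈ U := Submodule.mem_sup_right ⟨v, mv_apply b v⟩
        have := U.sub_mem h1 hv
        rwa [add_sub_cancel_right] at this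
    · have := Submodule.finrank_mono (show LinearMap.range (mv a) ≤ U from le_sup_left)
      rw [h, finrank_bot] at this
      omega
  have hb3 : Module.finrank F (LinearMap.range (mv b)) ≤ 3 := by
    have := range_mv b
    have hne : LinearMap.ker (mv b) ≠ ⊥ := by
      intro h
      have hinjb := LinearMap.ker_eq_bot.mp h
      have hb : b ^ 4 = 1 := by show ρ bA ^ 4 = 1; rw [← map_pow, hb4, map_one]
      have h4 : ((b : M4) + 1) ^ 4 = 0 := by
        have := add_pow_char_pow_of_commute 2 2 (Commute.one_right (b : M4))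
        rw [show (2 : ℕ) ^ 2 = 4 from rfl, ← Units.val_pow_eq_pow_val, hb, Units.val_one, one_pow,
          CharTwo.add_self_eq_zero] at this
        exact this
      have hi : Function.Injective (fun x : V4 => ((b : M4) + 1) *ᵥ x) := hinjb
      have := ((hi.comp hi).comp (hi.comp hi)) (a₁ := Pi.single 0 1) (a₂ := 0) (by
        simp only [Function.comp_apply, mulVec_zero, mulVec_mulVec]
        rw [show (((b : M4) + 1) * (((b : M4) + 1) * (((b : M4) + 1) * ((b : M4) + 1)))) = ((b : M4) + 1) ^ 4 by
          noncomm_ring, h4, zero_mulVec])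
      simpa using congrFun this 0
    have : 0 < Module.finrank F (LinearMap.ker (mv b)) := by
      by_contra h0
      exact hne (Submodule.finrank_eq_zero.mp (by omega))
    omega
  have hc : ∀ x : V4, (c : M4) *ᵥ x = x → x = 0 := by
    have hge := scott hab hfix htop
    have hc' : c ^ 5 = 1 := by show ρ (aA * bA) ^ 5 = 1; rw [← map_pow, hc5, map_one]
    have hker : LinearMap.ker (mv c⁻¹) = LinearMap.ker (mv c) := by
      ext x
      simp only [LinearMap.mem_ker, mv_apply]
      constructor <;> intro h <;> have h' := add_eq_zero_vec h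
      · conv_lhs => rw [← h']
        rw [mulVec_mulVec, ← Units.val_mul, mul_inv_cancel, Units.val_one, one_mulVec, h', add_self_vec]
      · conv_lhs => rw [← h']
        rw [mulVec_mulVec, ← Units.val_mul, inv_mul_cancel, Units.val_one, one_mulVec, h', add_self_vec]
    have hk1 : Module.finrank F (LinearMap.ker (mv c)) ≤ 1 := by
      have := range_mv c⁻¹
      rw [hker] at this
      omega
    intro k hk
    by_contra hk0
    have hkm : k ∈ LinearMap.ker (mv c) := by rw [LinearMap.mem_ker, mv_apply, hk, add_self_vec]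
    have hspan : LinearMap.ker (mv c) = Submodule.span F {k} :=
      (Submodule.eq_of_le_of_finrank_le (Submodule.span_le.mpr (Set.singleton_subset_iff.mpr hkm))
        (by rw [finrank_span_singleton hk0]; exact hk1)).symm
    have hperp : ∀ x, altForm4 k (mv c x) = 0 := fun x => by
      rw [mv_apply, f_add_right]
      conv_lhs => arg 1; rw [← hk]
      rw [f_map (hsp _), CharTwo.add_self_eq_zero]
    have hdisj : LinearMap.range (mv c) ⊓ LinearMap.ker (mv c) = ⊥ := by
      rw [eq_bot_iff]
      rintro _ ⟨⟨y, rfl⟩, hy⟩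
      rw [SetLike.mem_coe, LinearMap.mem_ker, mv_apply] at hy
      have hcy := add_eq_zero_vec hy
      set k' := mv c y with hk'
      have hy' : (c : M4) *ᵥ y = y + k' := by rw [hk', mv_apply, add_left_comm, add_self_vec, add_zero]
      have hiter : ∀ n : ℕ, ((c ^ n : G4) : M4) *ᵥ y = y + (n : F) • k' := by
        intro n
        induction n with
        | zero => simp
        | succ n ih =>
          rw [pow_succ', Units.val_mul, ← mulVec_mulVec, ih, mulVec_add, mulVec_smul, hy', hcy, Nat.cast_succ,
            add_smul, one_smul]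
          abel
      have h5 := hiter 5
      rw [hc', Units.val_one, one_mulVec, show ((5 : ℕ) : F) = 1 by
        push_cast; linear_combination 2 * two0 (F := F), one_smul, left_eq_add] at h5
      rw [Submodule.mem_bot]; exact h5
    have htop' : LinearMap.range (mv c) ⊔ LinearMap.ker (mv c) = ⊤ := by
      apply Submodule.eq_top_of_finrank_eq
      have := Submodule.finrank_sup_add_finrank_inf_eq (LinearMap.range (mv c)) (LinearMap.ker (mv c))
      rw [hdisj, finrank_bot, add_zero] at this
      rw [this, range_mv]; simp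
    refine hk0 (f_nondeg fun z => ?_)
    have hz : z ∈ LinearMap.range (mv c) ⊔ LinearMap.ker (mv c) := htop' ▸ Submodule.mem_top
    obtain ⟨_, ⟨x, rfl⟩, w, hw, rfl⟩ := Submodule.mem_sup.mp hz
    rw [hspan, Submodule.mem_span_singleton] at hw
    obtain ⟨r, rfl⟩ := hw
    rw [f_add_right, hperp, f_smul_right, f_self, mul_zero, add_zero]
  intro g
  rcases AltSix.orders g (Equiv.Perm.mem_alternatingGroup.mp g.2) with h | h | h
  · left
    refine trace_four ?_
    rw [← map_pow, show g ^ 4 = 1 from Subtype.ext h, map_one]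
  · refine trace_three (hsp g) ?_
    rw [← map_pow, show g ^ 3 = 1 from Subtype.ext h, map_one]
  · have h5 : g ^ 5 = 1 := Subtype.ext h
    rcases eq_or_ne g 1 with rfl | hg
    · left; rw [map_one, Units.val_one, Matrix.trace_one, Fintype.card_fin]; push_cast
      linear_combination 2 * two0 (F := F)
    refine trace_five hq (hsp g) (by rw [← map_pow, h5, map_one]) fun v hv => ?_
    obtain ⟨k, i, -, hi⟩ := AltSix.conj_of_order_five hg h5
    have hw : (c : M4) *ᵥ ((ρ k : M4) *ᵥ v) = (ρ k : M4) *ᵥ v := by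
      show (ρ (aA * bA) : M4) *ᵥ _ = _
      rw [← hi, conj_pow, map_mul, map_mul, map_pow, Units.val_mul, Units.val_mul, ← mulVec_mulVec,
        ← mulVec_mulVec, mulVec_mulVec v ((ρ k⁻¹ : G4) : M4), ← Units.val_mul, ← map_mul, inv_mul_cancel,
        map_one, Units.val_one, one_mulVec]
      congr 1
      clear hi
      induction i with
      | zero => simp
      | succ n ih => rw [pow_succ, Units.val_mul, ← mulVec_mulVec, hv, ih]
    have := hc _ hw
    rw [← mulVec_inv (ρ k) v, this, mulVec_zero]

end Cfsg.Agent.H97.SpEven
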