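import Cfsg.Prelude.Def_Sz
import Cfsg.Prelude.Def_GeometricClasses
import Cfsg.Prelude.Def_LieExceptional
import Cfsg.Agent.Suzuki.Lie

/-!
The symplectic four-space in characteristic two: form, transvections and their conjugates.
-/

set_option autoImplicit false

namespace Cfsg.Agent.H97.SpEven

open Matrix
open Cfsg.Lie (altForm4)

variable {F : Type*} [Field F] [CharP F 2]

local notation "V4" => (Fin 4 → F)
local notation "M4" => Matrix (Fin 4) (Fin 4) F
local notation "G4" => GL (Fin 4) F

theorem f_add_left (u v w : V4) : altForm4 (u + v) w = altForm4 u w + altForm4 v w := by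
  simp [altForm4]; ring

theorem f_add_right (u v w : V4) : altForm4 u (v + w) = altForm4 u v + altForm4 u w := by
  simp [altForm4]; ring

theorem f_smul_left (c : F) (u v : V4) : altForm4 (c • u) v = c * altForm4 u v := by
  simp [altForm4]; ring

theorem f_smul_right (c : F) (u v : V4) : altForm4 u (c • v) = c * altForm4 u v := by
  simp [altForm4]; ring

theorem f_comm (u v : V4) : altForm4 u v = altForm4 v u := by
  simp [altForm4]; ring

theorem f_self (u : V4) : altForm4 u u = 0 := by
  simp only [altForm4]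
  linear_combination (u 0 * u 3 + u 1 * u 2) * CharTwo.two_eq_zero (R := F)

theorem f_zero_left (u : V4) : altForm4 0 u = 0 := by simp [altForm4]

theorem f_zero_right (u : V4) : altForm4 u 0 = 0 := by simp [altForm4]

theorem f_sub_left (u v w : V4) : altForm4 (u - v) w = altForm4 u w - altForm4 v w := by
  simp [altForm4]; ring

theorem f_nondeg {u : V4} (h : ∀ v, altForm4 u v = 0) : u = 0 := by
  funext i
  fin_cases i
  · simpa [altForm4] using h (Pi.single 3 1)
  · simpa [altForm4] using h (Pi.single 2 1)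
  · simpa [altForm4] using h (Pi.single 1 1)
  · simpa [altForm4] using h (Pi.single 0 1)

/-- The form against a fixed vector. -/
def altForm4Lin (u : V4) : V4 →ₗ[F] F where
  toFun v := altForm4 u v
  map_add' v w := f_add_right u v w
  map_smul' c v := f_smul_right c u v

theorem exists_pair {u : V4} (hu : u ≠ 0) : ∃ v, altForm4 u v ≠ 0 := by
  by_contra h
  push Not at h
  exact hu (f_nondeg h)

/-- A vector orthogonal to two orthogonal hyperbolic pairs. -/
theorem eq_zero_of_pairs {l y a w z : V4} (hly : altForm4 l y = 1) (haw : altForm4 a w = 1)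
    (hla : altForm4 l a = 0) (hlw : altForm4 l w = 0) (hya : altForm4 y a = 0) (hyw : altForm4 y w = 0)
    (h1 : altForm4 l z = 0) (h2 : altForm4 y z = 0) (h3 : altForm4 a z = 0) (h4 : altForm4 w z = 0) :
    z = 0 := by
  classical
  have hli : LinearIndependent F ![l, y, a, w] := by
    rw [Fintype.linearIndependent_iff]
    intro g hg
    have hF : ∀ u : V4, altForm4 u (g 0 • l + g 1 • y + g 2 • a + g 3 • w) = 0 := fun u => by
      simp [Fin.sum_univ_four] at hg
      rw [hg, f_zero_right]
    have kl := hF y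
    have ky := hF l
    have ka := hF w
    have kw := hF a
    simp only [f_add_right, f_smul_right, f_self, f_comm y l, hly, f_comm a l, f_comm w l, hla, hlw,
      f_comm a y, f_comm w y, hya, hyw, f_comm w a, haw, mul_zero, mul_one, add_zero, zero_add] at kl ky ka kw
    intro i
    fin_cases i
    · exact kl
    · exact ky
    · exact ka
    · exact kw
  have htop := hli.span_eq_top_of_card_eq_finrank (by simp)
  refine f_nondeg fun v => ?_
  have hv : v ∈ Submodule.span F (Set.range ![l, y, a, w]) := htop ▸ Submodule.mem_top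
  rw [Submodule.mem_span_range_iff_exists_fun] at hv
  obtain ⟨k, rfl⟩ := hv
  rw [f_comm]
  simp [Fin.sum_univ_four, f_add_left, f_add_right, f_smul_left, f_smul_right, f_comm z l, f_comm z y, f_comm z a, f_comm z w, h1, h2, h3, h4]

theorem f_eq_dot (u v : V4) : altForm4 u v = (suzukiForm F *ᵥ u) ⬝ᵥ v := by
  simp [altForm4, suzukiForm, dotProduct, Matrix.mulVec, Fin.sum_univ_four]
  ring

theorem add_self_vec (u : V4) : u + u = 0 := funext fun i => CharTwo.add_self_eq_zero (u i)

theorem sub_eq_add_vec (u v : V4) : u - v = u + v := funext fun i => CharTwo.sub_eq_add (u i) (v i)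

theorem add_eq_zero_vec {u v : V4} (h : u + v = 0) : u = v := by
  rw [← sub_eq_add_vec] at h
  exact sub_eq_zero.mp h

/-- The form is preserved by a member of the symplectic group. -/
theorem f_map {g : G4} (hg : g ∈ Lie.Sp4 F) (u v : V4) :
    altForm4 ((g : M4) *ᵥ u) ((g : M4) *ᵥ v) = altForm4 u v := hg u v

omit [CharP F 2] in
theorem mulVec_inv (g : G4) (u : V4) : ((g⁻¹ : G4) : M4) *ᵥ ((g : M4) *ᵥ u) = u := by
  rw [mulVec_mulVec, ← Units.val_mul, inv_mul_cancel, Units.val_one, one_mulVec]

omit [CharP F 2] in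
theorem mulVec_inv' (g : G4) (u : V4) : (g : M4) *ᵥ (((g⁻¹ : G4) : M4) *ᵥ u) = u := by
  rw [mulVec_mulVec, ← Units.val_mul, mul_inv_cancel, Units.val_one, one_mulVec]

omit [CharP F 2] in
theorem mulVec_ne_zero (g : G4) {u : V4} (hu : u ≠ 0) : (g : M4) *ᵥ u ≠ 0 := fun h => hu (by
  rw [← mulVec_inv g u, h, mulVec_zero])

omit [CharP F 2] in
theorem mulVec_injective (g : G4) : Function.Injective fun u : V4 => (g : M4) *ᵥ u :=
  Function.LeftInverse.injective (g := fun u => ((g⁻¹ : G4) : M4) *ᵥ u) (mulVec_inv g)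

omit [CharP F 2] in
theorem gl_ext {g h : G4} (hgh : ∀ x : V4, (g : M4) *ᵥ x = (h : M4) *ᵥ x) : g = h :=
  Units.ext (Matrix.ext_of_mulVec_single fun i => hgh _)

theorem f_map_inv {g : G4} (hg : g ∈ Lie.Sp4 F) (u v : V4) :
    altForm4 u ((g : M4) *ᵥ v) = altForm4 (((g⁻¹ : G4) : M4) *ᵥ u) v := by
  conv_lhs => rw [← mulVec_inv' g u]
  exact f_map hg _ _

/-! ### Transvections -/

/-- The matrix of `x ↦ x + f(v, x) v`. -/
def tvMat (v : V4) : M4 := 1 + vecMulVec v (suzukiForm F *ᵥ v)

theorem tvMat_mulVec (v x : V4) : tvMat v *ᵥ x = x + altForm4 v x • v := by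
  rw [tvMat, add_mulVec, one_mulVec, vecMulVec_mulVec, op_smul_eq_smul, ← f_eq_dot]

theorem tvMat_mul_self (v : V4) : tvMat v * tvMat v = 1 := by
  refine Matrix.ext_of_mulVec_single fun i => ?_
  rw [← mulVec_mulVec, tvMat_mulVec, tvMat_mulVec, one_mulVec, f_add_right, f_smul_right, f_self,
    mul_zero, add_zero, add_assoc, add_self_vec, add_zero]

/-- The transvection with vector `v`. -/
def tv (v : V4) : G4 := ⟨tvMat v, tvMat v, tvMat_mul_self v, tvMat_mul_self v⟩

theorem tv_apply (v x : V4) : (tv v : M4) *ᵥ x = x + altForm4 v x • v := tvMat_mulVec v x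

theorem tv_mul_self (v : V4) : tv v * tv v = 1 := Units.ext (tvMat_mul_self v)

theorem tv_inv (v : V4) : (tv v)⁻¹ = tv v := inv_eq_of_mul_eq_one_right (tv_mul_self v)

theorem tv_zero : tv (0 : V4) = 1 := by
  refine gl_ext fun x => ?_
  simp [tv_apply]

theorem tv_mem (v : V4) : tv v ∈ Lie.Sp4 F := by
  intro x y
  show altForm4 ((tv v : M4) *ᵥ x) ((tv v : M4) *ᵥ y) = altForm4 x y
  rw [tv_apply, tv_apply, f_add_left, f_add_right, f_add_right, f_smul_left, f_smul_left, f_smul_right,
    f_smul_right, f_self, f_comm x v]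
  linear_combination (altForm4 v x * altForm4 v y) * CharTwo.two_eq_zero (R := F)

theorem tv_fix {v x : V4} (h : altForm4 v x = 0) : (tv v : M4) *ᵥ x = x := by
  rw [tv_apply, h, zero_smul, add_zero]

theorem tv_conj {g : G4} (hg : g ∈ Lie.Sp4 F) (v : V4) : g * tv v * g⁻¹ = tv ((g : M4) *ᵥ v) := by
  refine gl_ext fun x => ?_
  rw [Units.val_mul, Units.val_mul, ← mulVec_mulVec, ← mulVec_mulVec, tv_apply, tv_apply, mulVec_add,
    mulVec_smul, mulVec_inv', f_map_inv ((Lie.Sp4 F).inv_mem hg), inv_inv]

theorem tv_add_smul (v : V4) (a b : F) : tv (a • v) * tv (b • v) = tv ((a + b) • v) := by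
  refine gl_ext fun x => ?_
  rw [Units.val_mul, ← mulVec_mulVec, tv_apply, tv_apply, tv_apply]
  simp only [f_smul_left, f_smul_right, f_add_right, f_self, mul_zero, add_zero, smul_smul,
    add_assoc, ← add_smul]
  congr 2
  linear_combination (-(a * b * altForm4 v x)) * CharTwo.two_eq_zero (R := F)

theorem tv_injective : Function.Injective (tv : V4 → G4) := by
  intro u v h
  have key : ∀ x, altForm4 u x • u = altForm4 v x • v := fun x => by
    have := congrArg (fun g : G4 => (g : M4) *ᵥ x) h
    simpa [tv_apply] using this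
  by_cases hv : v = 0
  · subst hv
    by_contra hu
    obtain ⟨x, hx⟩ := exists_pair hu
    have := key x
    rw [f_zero_left, zero_smul, smul_eq_zero] at this
    tauto
  · obtain ⟨x, hx⟩ := exists_pair hv
    have hk := key x
    have hne : altForm4 u x ≠ 0 := fun h0 => by
      rw [h0, zero_smul, eq_comm, smul_eq_zero] at hk
      tauto
    obtain ⟨c, rfl⟩ : ∃ c : F, u = c • v := ⟨(altForm4 u x)⁻¹ * altForm4 v x, by
      rw [← smul_smul, ← hk, smul_smul, inv_mul_cancel₀ hne, one_smul]⟩
    rw [f_smul_left, smul_smul] at hk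
    have h1 : c * altForm4 v x * c = altForm4 v x := smul_left_injective F hv hk
    have h2 : c * c = 1 := mul_right_cancel₀ hx (by linear_combination h1)
    have h3 : c = 1 := by
      have : (c + 1) * (c + 1) = 0 := by
        linear_combination h2 + (c + 1) * CharTwo.two_eq_zero (R := F)
      exact CharTwo.add_eq_zero.mp (mul_self_eq_zero.mp this)
    rw [h3, one_smul]

theorem tv_ne_one {v : V4} (hv : v ≠ 0) : tv v ≠ 1 := fun h =>
  hv (tv_injective (h.trans tv_zero.symm))

theorem tv_commute_iff {u v : V4} (hu : u ≠ 0) (hv : v ≠ 0) :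
    tv u * tv v = tv v * tv u ↔ altForm4 u v = 0 := by
  constructor
  · intro h
    have h1 : tv u * tv v * (tv u)⁻¹ = tv v := by rw [h, mul_inv_cancel_right]
    rw [tv_conj (tv_mem u), tv_apply] at h1
    have h2 := tv_injective h1
    rw [add_eq_left, smul_eq_zero] at h2
    exact h2.resolve_right hu
  · intro h
    have h1 := tv_conj (tv_mem u) v
    rw [tv_fix h] at h1
    exact mul_inv_eq_iff_eq_mul.mp h1

end Cfsg.Agent.H97.SpEven
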