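import Cfsg.Agent.H97.SpEven.Basic
import Cfsg.Agent.Symplectic.Std
import Cfsg.Agent.Symplectic.Order

/-!
From the symplectic group on sum-indexed vectors to the one on four indices, in characteristic two.
-/

set_option autoImplicit false
set_option linter.unusedSectionVars false

namespace Cfsg.Agent.H97.SpEven

open Matrix
open Cfsg.Lie (altForm4)
open Cfsg.Geo (matrixSet ActsAbsolutelyIrreducibly RealisableOver IsNondegenerateQuadraticForm FixesQuadForm)

variable {F : Type*} [Field F]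

local notation "ι4" => (Fin 2 ⊕ Fin 2)
local notation "V4" => (Fin 4 → F)
local notation "G4" => GL (Fin 4) F

/-- The labelling of the symplectic basis. -/
def sumToFour : Fin 2 ⊕ Fin 2 ≃ Fin 4 where
  toFun := Sum.elim ![0, 1] ![3, 2]
  invFun := ![Sum.inl 0, Sum.inl 1, Sum.inr 1, Sum.inr 0]
  left_inv x := by rcases x with i | i <;> fin_cases i <;> rfl
  right_inv x := by fin_cases x <;> rfl

/-- Relabelling of matrices. -/
noncomputable def toG4 : GL (Fin 2 ⊕ Fin 2) F ≃* GL (Fin 4) F :=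
  Units.mapEquiv (Matrix.reindexAlgEquiv F F sumToFour).toMulEquiv

/-- Relabelling of vectors. -/
noncomputable def toV4 : (Fin 2 ⊕ Fin 2 → F) ≃ₗ[F] (Fin 4 → F) := LinearEquiv.funCongrLeft F F sumToFour.symm

theorem toV4_apply (u : ι4 → F) (i : Fin 4) : toV4 u i = u (sumToFour.symm i) := rfl

theorem toG4_val (g : GL ι4 F) :
    (toG4 g : Matrix (Fin 4) (Fin 4) F) = reindex sumToFour sumToFour (g : Matrix ι4 ι4 F) := rfl

theorem reindex_mulVec (s : Matrix ι4 ι4 F) (u : ι4 → F) :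
    reindex sumToFour sumToFour s *ᵥ toV4 u = toV4 (s *ᵥ u) := by
  funext i
  rw [toV4_apply]
  simp only [Matrix.mulVec, dotProduct, reindex_apply, submatrix_apply, toV4_apply]
  exact Fintype.sum_equiv sumToFour.symm _ _ fun j => rfl

theorem toG4_mulVec (g : GL ι4 F) (u : ι4 → F) :
    (toG4 g : Matrix (Fin 4) (Fin 4) F) *ᵥ toV4 u = toV4 ((g : Matrix ι4 ι4 F) *ᵥ u) :=
  reindex_mulVec _ _

theorem altForm4_toV4 [CharP F 2] (u v : ι4 → F) : altForm4 (toV4 u) (toV4 v) = Cfsg.sympForm 2 F u v := by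
  rw [Symplectic.sympForm_eq]
  simp only [altForm4, toV4_apply, Fin.sum_univ_two, CharTwo.sub_eq_add]
  show u (Sum.inl 0) * v (Sum.inr 0) + u (Sum.inl 1) * v (Sum.inr 1) + u (Sum.inr 1) * v (Sum.inl 1) +
    u (Sum.inr 0) * v (Sum.inl 0) = _
  ring

theorem toG4_mem [CharP F 2] {g : GL ι4 F} : toG4 g ∈ Lie.Sp4 F ↔ g ∈ Cfsg.spGL 2 F := by
  constructor
  · intro h u v
    have := h (toV4 u) (toV4 v)
    simp only [Units.coeHom_apply] at this
    rw [toG4_mulVec, toG4_mulVec, altForm4_toV4, altForm4_toV4] at this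
    exact this
  · intro h x y
    obtain ⟨u, rfl⟩ := toV4.surjective x
    obtain ⟨v, rfl⟩ := toV4.surjective y
    simp only [Units.coeHom_apply]
    rw [toG4_mulVec, toG4_mulVec, altForm4_toV4, altForm4_toV4]
    exact h u v

theorem mem_matrixSet_toG4 {P : Subgroup (GL ι4 F)} {s : Matrix ι4 ι4 F} (hs : s ∈ matrixSet P) :
    reindex sumToFour sumToFour s ∈ matrixSet (P.map (toG4 (F := F)).toMonoidHom) := by
  obtain ⟨g, hg, rfl⟩ := hs
  exact ⟨toG4 g, ⟨g, hg, rfl⟩, rfl⟩

theorem exists_of_mem_matrixSet {P : Subgroup (GL ι4 F)} {s : Matrix (Fin 4) (Fin 4) F}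
    (hs : s ∈ matrixSet (P.map (toG4 (F := F)).toMonoidHom)) :
    ∃ t ∈ matrixSet P, s = reindex sumToFour sumToFour t := by
  obtain ⟨g, ⟨g', hg', rfl⟩, rfl⟩ := hs
  exact ⟨_, ⟨g', hg', rfl⟩, rfl⟩

theorem absIrr_toG4 {P : Subgroup (GL ι4 F)} (h : ActsAbsolutelyIrreducibly (matrixSet P)) :
    ActsAbsolutelyIrreducibly (matrixSet (P.map (toG4 (F := F)).toMonoidHom)) := by
  refine ⟨fun W hW => ?_, fun M hM => ?_⟩
  · rcases h.1 (W.comap (toV4 (F := F)).toLinearMap) (fun s hs => by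
      rintro _ ⟨u, hu, rfl⟩
      show toV4 (Matrix.toLin' s u) ∈ W
      rw [Matrix.toLin'_apply, ← reindex_mulVec]
      exact hW _ (mem_matrixSet_toG4 hs) ⟨toV4 u, hu, Matrix.toLin'_apply _ _⟩) with h0 | h0
    · left
      rw [← Submodule.map_comap_eq_of_surjective (f := (toV4 (F := F)).toLinearMap) toV4.surjective W, h0,
        Submodule.map_bot]
    · right
      rw [← Submodule.map_comap_eq_of_surjective (f := (toV4 (F := F)).toLinearMap) toV4.surjective W, h0,
        Submodule.map_top, LinearMap.range_eq_top]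
      exact toV4.surjective
  · obtain ⟨c, hc⟩ := h.2 ((Matrix.reindexAlgEquiv F F sumToFour).symm M) fun s hs => by
      apply (Matrix.reindexAlgEquiv F F sumToFour).injective
      rw [map_mul, map_mul, AlgEquiv.apply_symm_apply]
      exact hM _ (mem_matrixSet_toG4 hs)
    refine ⟨c, ?_⟩
    have := congrArg (Matrix.reindexAlgEquiv F F sumToFour) hc
    rwa [AlgEquiv.apply_symm_apply, map_smul, map_one] at this

theorem not_realisable_toG4 {P : Subgroup (GL ι4 F)} {F₀ : Subfield F}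
    (h : ¬ RealisableOver F₀ (matrixSet P)) :
    ¬ RealisableOver F₀ (matrixSet (P.map (toG4 (F := F)).toMonoidHom)) := by
  rintro ⟨B, hB⟩
  refine h ⟨toG4.symm B, fun s hs i j => ?_⟩
  have := hB _ (mem_matrixSet_toG4 hs) (sumToFour i) (sumToFour j)
  obtain ⟨B', rfl⟩ := (toG4 (F := F)).surjective B
  rw [MulEquiv.symm_apply_apply]
  rw [← map_inv, toG4_val, toG4_val, reindex_apply, reindex_apply, reindex_apply, submatrix_mul_equiv,
    submatrix_mul_equiv, submatrix_apply, Equiv.symm_apply_apply, Equiv.symm_apply_apply] at this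
  exact this

theorem no_quad_toG4 {P : Subgroup (GL ι4 F)}
    (h : ¬ ∃ Q : (ι4 → F) → F, IsNondegenerateQuadraticForm Q ∧ FixesQuadForm (matrixSet P) Q) :
    ¬ ∃ Q : V4 → F, IsNondegenerateQuadraticForm Q ∧
      FixesQuadForm (matrixSet (P.map (toG4 (F := F)).toMonoidHom)) Q := by
  rintro ⟨Q, hQ, hfix⟩
  refine h ⟨fun u => Q (toV4 u), ⟨fun c v => by simp only [map_smul]; exact hQ.smul c _, ?_, ?_⟩, ?_⟩
  · have hp : ∀ u v, QuadraticMap.polar (fun u => Q (toV4 u)) u v = QuadraticMap.polar Q (toV4 u) (toV4 v) :=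
      fun u v => by simp [QuadraticMap.polar]
    constructor
    · intro x y v; simp only [hp, map_add]; exact hQ.polar_bilinear.add_left _ _ _
    · intro c x v; simp only [hp, map_smul]; exact hQ.polar_bilinear.smul_left _ _ _
    · intro v x y; simp only [hp, map_add]; exact hQ.polar_bilinear.add_right _ _ _
    · intro c v x; simp only [hp, map_smul]; exact hQ.polar_bilinear.smul_right _ _ _
  · intro v hv
    have hv' : toV4 v ≠ 0 := fun h0 => hv (toV4.injective (h0.trans (map_zero _).symm))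
    obtain ⟨⟨x, hx⟩, ⟨y, hy⟩⟩ := hQ.nondegenerate _ hv'
    obtain ⟨a, rfl⟩ := toV4.surjective x
    obtain ⟨b, rfl⟩ := toV4.surjective y
    exact ⟨⟨a, by simpa [QuadraticMap.polar] using hx⟩, ⟨b, by simpa [QuadraticMap.polar] using hy⟩⟩
  · intro s hs v
    show Q (toV4 (s *ᵥ v)) = Q (toV4 v)
    rw [← reindex_mulVec]
    exact hfix _ (mem_matrixSet_toG4 hs) _

/-- The symplectic group of matrices inside the general linear group. -/
def symToGL (F : Type*) [Field F] : Matrix.symplecticGroup (Fin 2) F →* GL (Fin 2 ⊕ Fin 2) F :=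
  Units.map (Matrix.symplecticGroup (Fin 2) F).subtype |>.comp toUnits.toMonoidHom

theorem symToGL_val (x : Matrix.symplecticGroup (Fin 2) F) :
    (symToGL F x : Matrix ι4 ι4 F) = (x : Matrix ι4 ι4 F) := rfl

theorem range_symToGL : (symToGL F).range = Cfsg.spGL 2 F := by
  ext g
  constructor
  · rintro ⟨x, rfl⟩
    exact (Symplectic.mem_symplectic_iff_form _).mp x.2
  · intro hg
    exact ⟨⟨(g : Matrix ι4 ι4 F), (Symplectic.mem_symplectic_iff_form _).mpr hg⟩, Units.ext rfl⟩

theorem card_spGL [Fintype F] : Nat.card (Cfsg.spGL 2 F) =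
    Fintype.card F ^ 4 * ((Fintype.card F ^ 2 - 1) * (Fintype.card F ^ 4 - 1)) := by
  have h : Function.Injective (symToGL F) := fun a b hab =>
    Subtype.ext (congrArg (fun g : GL ι4 F => (g : Matrix ι4 ι4 F)) hab)
  rw [← range_symToGL, ← Nat.card_congr (MonoidHom.ofInjective h).toEquiv, Symplectic.card_sp]
  simp [Finset.prod_range_succ]

/-- A group containing all transvections is the whole symplectic group. -/
theorem spGL_le_of_tv [CharP F 2] [Finite F] {P : Subgroup (GL ι4 F)}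
    (h : ∀ v : V4, v ≠ 0 → tv v ∈ P.map (toG4 (F := F)).toMonoidHom) : Cfsg.spGL 2 F ≤ P := by
  have h' : ∀ v : V4, tv v ∈ P.map (toG4 (F := F)).toMonoidHom := fun v => by
    by_cases hv : v = 0
    · rw [hv, tv_zero]; exact one_mem _
    · exact h v hv
  rw [← range_symToGL, MonoidHom.range_eq_map, ← Symplectic.closure_TSet 2 F, MonoidHom.map_closure,
    Subgroup.closure_le]
  rintro _ ⟨_, ⟨w, c, rfl⟩, rfl⟩
  obtain ⟨a, ha⟩ : ∃ a : F, a ^ 2 = c := by
    have : Fintype F := Fintype.ofFinite F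
    exact (bijective_frobenius F 2).2 c
  obtain ⟨g, hg, hgv⟩ := h' (toV4 (a • w))
  have : g = symToGL F (Symplectic.T w c) := by
    apply (toG4 (F := F)).injective
    refine (show toG4 g = tv (toV4 (a • w)) from hgv).trans (gl_ext fun x => ?_)
    obtain ⟨u, rfl⟩ := toV4.surjective x
    rw [toG4_mulVec, symToGL_val, Symplectic.T_mulVec, tv_apply, altForm4_toV4, map_add, map_smul, map_smul,
      ← ha, smul_smul]
    congr 2
    rw [← altForm4_toV4, ← altForm4_toV4, map_smul, f_smul_left, f_comm]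
    ring
  exact this ▸ hg

theorem scalars_disjoint [CharP F 2] {P : Subgroup (GL ι4 F)} (hP : P ≤ Cfsg.spGL 2 F) :
    (Cfsg.Geo.scalars ι4 F).subgroupOf P = ⊥ := by
  rw [eq_bot_iff]
  rintro ⟨g, hgP⟩ hg
  obtain ⟨c, hc⟩ := (Cfsg.Geo.mem_scalars_iff g).mp (Subgroup.mem_subgroupOf.mp hg)
  have hf := hP hgP (Pi.single (Sum.inl 0) 1) (Pi.single (Sum.inr 0) 1)
  simp only [Units.coeHom_apply] at hf
  rw [hc] at hf
  simp only [Symplectic.sympForm_eq, Matrix.smul_mulVec, Matrix.one_mulVec, Fin.sum_univ_two] at hf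
  simp [CharTwo.neg_eq] at hf
  have hc1 : (c : F) = 1 := by
    have h2 : ((c : F) + 1) ^ 2 = 0 := by
      linear_combination hf + ((c : F) + 1) * CharTwo.two_eq_zero (R := F)
    have := pow_eq_zero_iff (two_ne_zero) |>.mp h2
    rwa [CharTwo.add_eq_zero] at this
  refine Subgroup.mem_bot.mpr (Subtype.ext (Units.ext ?_))
  show (g : Matrix ι4 ι4 F) = 1
  rw [hc, hc1, one_smul]

end Cfsg.Agent.H97.SpEven
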