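import Cfsg.Agent.H97.SpEven.Plane
import Cfsg.Agent.Linear.Mitchell.Tv.PairSL2

/-!
An additive map from a field of characteristic two to a ring preserving inverses is multiplicative on powers;
some identities of SL_2.
-/

set_option autoImplicit false
set_option linter.unusedSimpArgs false

namespace Cfsg.Agent.H97.SpEven

open Matrix Cfsg.Agent.Linear Cfsg.Agent.Linear.Dickson

variable {E : Type*} [Field E] [CharP E 2]

/-- Hua: powers are preserved. -/
theorem hua_pow {R : Type*} [Ring R] (h2 : ∀ r : R, r + r = 0) (φ : E → R)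
    (hadd : ∀ a b, φ (a + b) = φ a + φ b) (h1 : φ 1 = 1) (hinv : ∀ a, a ≠ 0 → φ a * φ a⁻¹ = 1)
    (x : E) (n : ℕ) : φ (x ^ n) = φ x ^ n := by
  have h0 : φ 0 = 0 := by simpa using hadd 0 0
  have hinv' : ∀ a, a ≠ 0 → φ a⁻¹ * φ a = 1 := fun a ha => by
    have := hinv a⁻¹ (inv_ne_zero ha); rwa [inv_inv] at this
  have key : ∀ a b : E, φ (a ^ 2 * b) = φ a * φ b * φ a := by
    intro a b
    rcases eq_or_ne a 0 with rfl | ha
    · rw [zero_pow two_ne_zero, zero_mul, h0, zero_mul, zero_mul]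
    rcases eq_or_ne b 0 with rfl | hb
    · rw [mul_zero, h0, mul_zero, zero_mul]
    by_cases hab : b⁻¹ + a = 0
    · have hb' : b = a⁻¹ := by rw [← CharTwo.add_eq_zero.mp hab, inv_inv]
      rw [hb', hinv a ha, one_mul, sq, mul_assoc, mul_inv_cancel₀ ha, mul_one]
    have hab1 : a * b + 1 ≠ 0 := by
      intro h
      refine hab ?_
      have : a * b = 1 := CharTwo.add_eq_zero.mp h
      rw [eq_inv_of_mul_eq_one_left this]
      exact CharTwo.add_self_eq_zero _
    set s := a⁻¹ + (b⁻¹ + a)⁻¹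
    have hs : s * (a + a ^ 2 * b) = 1 := by
      simp only [s]
      have hd : (1 : E) + a * b ≠ 0 := by rwa [add_comm]
      field_simp
      linear_combination (a * b) * CharTwo.two_eq_zero (R := E)
    have hs0 : a + a ^ 2 * b ≠ 0 := fun h => by rw [h, mul_zero] at hs; exact zero_ne_one hs
    have hsi : s = (a + a ^ 2 * b)⁻¹ := eq_inv_of_mul_eq_one_left hs
    have e1 : φ s * (φ a + φ a * φ b * φ a) = 1 := by
      have k1 : φ a⁻¹ * (φ a + φ a * φ b * φ a) = 1 + φ b * φ a := by
        rw [mul_add, hinv' a ha, ← mul_assoc, ← mul_assoc, hinv' a ha, one_mul]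
      have k2 : φ (b⁻¹ + a) * (φ b * φ a) = φ a + φ a * φ b * φ a := by
        rw [hadd, add_mul, ← mul_assoc, ← mul_assoc, hinv' b hb, one_mul]
      have k3 : φ (b⁻¹ + a)⁻¹ * (φ a + φ a * φ b * φ a) = φ b * φ a := by
        rw [← k2, ← mul_assoc, hinv' _ hab, one_mul]
      rw [show φ s = φ a⁻¹ + φ (b⁻¹ + a)⁻¹ from hadd _ _, add_mul, k1, k3, add_assoc, h2, add_zero]
    have e2 : φ (a + a ^ 2 * b) * φ s = 1 := by rw [hsi]; exact hinv _ hs0
    have e3 : φ (a + a ^ 2 * b) = φ a + φ a * φ b * φ a := left_inv_eq_right_inv e2 e1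
    rw [hadd] at e3
    exact add_left_cancel e3
  induction n using Nat.strong_induction_on with
  | _ n ih =>
    rcases n with _ | _ | n
    · rw [pow_zero, pow_zero, h1]
    · rw [pow_one, pow_one]
    · rw [show x ^ (n + 2) = x ^ 2 * x ^ n by ring, key, ih n (by omega), ← pow_succ' (φ x) n, ← pow_succ]

local notation "S2" => Matrix.SpecialLinearGroup (Fin 2) E
local notation "M2" => Matrix (Fin 2) (Fin 2) E

/-- The exchanging element. -/
noncomputable def swSL (x : E) : S2 := upSL x * loSL x⁻¹ * upSL x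

theorem swSL_coe {x : E} (hx : x ≠ 0) : ((swSL x : S2) : M2) = !![0, x; x⁻¹, 0] := by
  have h2 := CharTwo.two_eq_zero (R := E)
  ext i j
  rw [swSL]
  fin_cases i <;> fin_cases j <;>
    simp [Matrix.mul_apply, Fin.sum_univ_two, upSL_coe, loSL_coe, hx, CharTwo.add_self_eq_zero]

theorem swSL_mul_self {x : E} (hx : x ≠ 0) : swSL x * swSL x = 1 := by
  apply SL_ext_two <;> simp [SL_mul_entries, swSL_coe hx, hx]

theorem swSL_up {x : E} (hx : x ≠ 0) (z : E) :
    swSL x * upSL z * swSL x = loSL (z / x ^ 2) := by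
  apply SL_ext_two <;> simp [SL_mul_entries, swSL_coe hx, upSL_coe, loSL_coe, hx]
  field_simp

theorem swSL_lo {x : E} (hx : x ≠ 0) (z : E) :
    swSL x * loSL z * swSL x = upSL (x ^ 2 * z) := by
  apply SL_ext_two <;> simp [SL_mul_entries, swSL_coe hx, upSL_coe, loSL_coe, hx]
  ring

theorem closure_up_lo (H : Subgroup S2) (hu : ∀ x, upSL x ∈ H) (hl : ∀ x, loSL x ∈ H) : H = ⊤ := by
  have key : ∀ g : S2, (g : M2) 1 0 ≠ 0 → g ∈ H := by
    intro g hc
    have e : g = upSL (((g : M2) 0 0 - 1) / (g : M2) 1 0) * loSL ((g : M2) 1 0) *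
        upSL (((g : M2) 1 1 - 1) / (g : M2) 1 0) := by
      have hd := SL_det_two g
      apply SL_ext_two <;> simp [SL_mul_entries, upSL_coe, loSL_coe] <;> field_simp <;>
        first | linear_combination hd | linear_combination -hd | ring
    rw [e]
    exact H.mul_mem (H.mul_mem (hu _) (hl _)) (hu _)
  refine eq_top_iff.mpr fun g _ => ?_
  by_cases hc : (g : M2) 1 0 = 0
  · have hd := SL_det_two g
    have h11 : (g : M2) 1 1 ≠ 0 := fun h => by rw [hc, h] at hd; simp at hd
    have := H.mul_mem (key (g * loSL 1) (by simp [SL_mul_entries, loSL_coe, hc, h11])) (H.inv_mem (hl 1))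
    rwa [mul_inv_cancel_right] at this
  · exact key g hc

end Cfsg.Agent.H97.SpEven
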