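import Cfsg.Agent.H97.SpEven.Star

/-!
The involutions of the symplectic four-space in characteristic two.
-/

set_option autoImplicit false
set_option linter.unusedSectionVars false
set_option linter.unusedSimpArgs false
set_option linter.unnecessarySimpa false
set_option linter.style.haveILetI false

namespace Cfsg.Agent.H97.SpEven

open Matrix
open Cfsg.Lie (altForm4 star4 pairOf)

variable {F : Type*} [Field F] [CharP F 2]

local notation "V4" => (Fin 4 → F)
local notation "M4" => Matrix (Fin 4) (Fin 4) F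
local notation "G4" => GL (Fin 4) F

theorem vec_eq (y : V4) : y = y 0 • Pi.single 0 (1 : F) + y 1 • Pi.single 1 (1 : F) +
    y 2 • Pi.single 2 (1 : F) + y 3 • Pi.single 3 (1 : F) := by
  funext i; fin_cases i <;> simp

/-- A root element and its dual. -/
theorem star_root (t : M4) (p₀ p₁ p₂ p₃ r : F) (hr : r ^ 2 = p₀ * p₃ + p₁ * p₂)
    (ht : t = 1 + !![r, p₁, p₀, 0; p₂, r, 0, p₀; p₃, 0, r, p₁; 0, p₃, p₂, r]) :
    star4 t = tvMat ![p₀, p₁, p₂, p₃] := by
  subst ht
  ext i j
  fin_cases i <;> fin_cases j <;>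
    simp [star4, pairOf, tvMat, suzukiForm, vecMulVec, Matrix.mulVec, dotProduct, Fin.sum_univ_four,
      Matrix.one_apply, CharTwo.sub_eq_add]
  all_goals first
    | ring1
    | (linear_combination (norm := (ring_nf; simp [two0])) hr)

/-- An involution of the third type. -/
def IsC2 (t : G4) : Prop :=
  Module.finrank F (LinearMap.ker ((t : M4) + 1).mulVecLin) = 2 ∧
    (∀ x : V4, ((t : M4) + 1) *ᵥ (((t : M4) + 1) *ᵥ x) = 0) ∧
    ∃ δ : V4, δ ≠ 0 ∧ ((t : M4) + 1) *ᵥ δ = 0 ∧
      (∀ x : V4, altForm4 δ x = 0 → ∃ c : F, ((t : M4) + 1) *ᵥ x = c • δ) ∧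
      ∀ g ∈ Lie.Sp4 F, g * t = t * g → g ^ 4 = 1 ∧ (g : M4) *ᵥ δ = δ

/-- Involutions: transvections, duals of transvections, or with a centraliser of exponent four. -/
theorem involution_cases [Finite F] {t : G4} (ht : t ∈ Lie.Sp4 F) (h1 : t ≠ 1) (h2 : t * t = 1) :
    (∃ v : V4, v ≠ 0 ∧ t = tv v) ∨ (∃ p : V4, p ≠ 0 ∧ star4 (t : M4) = tvMat p) ∨
      IsC2 t := by
  classical
  haveI : Fintype F := Fintype.ofFinite F
  set N : M4 := (t : M4) + 1
  have hMM : (t : M4) * (t : M4) = 1 := by rw [← Units.val_mul, h2, Units.val_one]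
  have hN : ∀ x, N *ᵥ x = (t : M4) *ᵥ x + x := fun x => by
    simp only [N, add_mulVec, one_mulVec]
  have hNN : ∀ x, N *ᵥ (N *ᵥ x) = 0 := fun x => by
    rw [hN, hN, mulVec_add, mulVec_mulVec, hMM, one_mulVec, add_comm x, add_self_vec]
  have hsym : ∀ x y, altForm4 (N *ᵥ x) y = altForm4 x (N *ᵥ y) := fun x y => by
    rw [hN, hN, f_add_left, f_add_right, f_map_inv ht, inv_eq_of_mul_eq_one_right h2]
  have hII : ∀ x y, altForm4 (N *ᵥ x) (N *ᵥ y) = 0 := fun x y => by
    rw [hsym, hNN, f_zero_right]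
  have hQadd : ∀ x y, altForm4 (N *ᵥ (x + y)) (x + y) = altForm4 (N *ᵥ x) x + altForm4 (N *ᵥ y) y := fun x y => by
    rw [mulVec_add, f_add_left, f_add_right, f_add_right, hsym y x, f_comm y (N *ᵥ x)]
    linear_combination (altForm4 (N *ᵥ x) y) * two0 (F := F)
  have hQsmul : ∀ (c : F) x, altForm4 (N *ᵥ (c • x)) (c • x) = c ^ 2 * altForm4 (N *ᵥ x) x := fun c x => by
    rw [mulVec_smul, f_smul_left, f_smul_right]; ring
  obtain ⟨δ, hδ⟩ : ∃ δ : V4, ∀ x, altForm4 (N *ᵥ x) x = altForm4 δ x ^ 2 := by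
    choose s hs using fun i : Fin 4 =>
      exists_sqrt (altForm4 (N *ᵥ Pi.single i (1 : F)) (Pi.single i (1 : F)))
    refine ⟨![s 3, s 2, s 1, s 0], fun x => ?_⟩
    conv_lhs => rw [vec_eq x]
    rw [hQadd, hQadd, hQadd, hQsmul, hQsmul, hQsmul, hQsmul, ← hs, ← hs, ← hs, ← hs]
    simp [altForm4]
    linear_combination (norm := skip) (0 : F) * two0 (F := F)
    ring_nf
    simp [two0]
  by_cases hδ0 : δ = 0
  · -- the dual of a transvection
    right; left
    have hd : ∀ i, N (3 - i) i = 0 := fun i => by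
      have := hδ (Pi.single i (1 : F))
      rw [hδ0, f_zero_left, zero_pow two_ne_zero, col_eq] at this
      fin_cases i <;> simpa [altForm4] using this
    have hs : ∀ i j, N (3 - i) j = N (3 - j) i := fun i j => by
      have := hsym (Pi.single j (1 : F)) (Pi.single i (1 : F))
      rw [col_eq, col_eq] at this
      fin_cases i <;> fin_cases j <;> simpa [altForm4] using this
    have d0 := hd 0
    have d1 := hd 1
    have d2 := hd 2
    have d3 := hd 3
    have s01 := hs 0 1
    have s02 := hs 0 2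
    have s03 := hs 0 3
    have s12 := hs 1 2
    have s13 := hs 1 3
    have s23 := hs 2 3
    simp at d0 d1 d2 d3 s01 s02 s03 s12 s13 s23
    have hsq : ∀ i, (N * N) i i = 0 := fun i => by
      have := congrFun (hNN (Pi.single i (1 : F))) i
      rw [mulVec_mulVec, col_eq] at this
      exact this
    have q0 := hsq 0
    have q1 := hsq 1
    simp [Matrix.mul_apply, Fin.sum_univ_four, d0, d1, d2, d3, s01, s02, s03, s12, s13, s23] at q0 q1
    have hrr : N 1 1 = N 0 0 := sq_inj (by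
      linear_combination (norm := skip) q0 + q1
      ring_nf
      simp [s01, s02, s03, s12, s13, s23, two0])
    have hT : (t : M4) = 1 + !![N 0 0, N 0 1, N 0 2, 0; N 1 0, N 0 0, 0, N 0 2;
        N 2 0, 0, N 0 0, N 0 1; 0, N 2 0, N 1 0, N 0 0] := by
      have e : (t : M4) = 1 + N := by
        simp only [N]
        rw [add_left_comm, ← CharTwo.sub_eq_add (1 : M4), sub_self, add_zero]
      conv_lhs => rw [e]
      congr 1
      ext i j
      fin_cases i <;> fin_cases j <;>
        simp [d0, d1, d2, d3, s01, s02, s03, s12, s13, s23, hrr]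
    have hr : N 0 0 ^ 2 = N 0 2 * N 2 0 + N 0 1 * N 1 0 := by
      linear_combination (norm := skip) q0
      ring_nf
      simp [s01, s02, s03, s12, s13, s23, two0]
    refine ⟨![N 0 2, N 0 1, N 1 0, N 2 0], fun h0 => h1 ?_, star_root _ _ _ _ _ _ hr hT⟩
    have e0 := congrFun h0 0
    have e1 := congrFun h0 1
    have e2 := congrFun h0 2
    have e3 := congrFun h0 3
    simp at e0 e1 e2 e3
    rw [e0, e1, e2, e3] at hT hr
    have e4 : N 0 0 = 0 := eq_zero_of_pow_eq_zero (n := 2) (by rw [hr]; ring)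
    refine Units.ext (hT.trans ?_)
    rw [e4, Units.val_one, add_eq_left]
    ext i j; fin_cases i <;> fin_cases j <;> rfl
  -- the remaining ones
  set L := N.mulVecLin
  set I := LinearMap.range L
  set K := LinearMap.ker L
  have hIK : I ≤ K := by
    rintro _ ⟨x, rfl⟩
    exact hNN x
  have hdim : Module.finrank F I + Module.finrank F K = 4 := by
    rw [L.finrank_range_add_finrank_ker]; simp
  have hle : Module.finrank F I ≤ Module.finrank F K := Submodule.finrank_mono hIK
  by_cases hI1 : Module.finrank F I ≤ 1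
  · left
    obtain ⟨b, hb⟩ := _root_.finrank_le_one_iff.mp hI1
    choose φ hφ using fun x => hb ⟨N *ᵥ x, x, rfl⟩
    have hφ' : ∀ x, N *ᵥ x = φ x • (b : V4) := fun x => (congrArg Subtype.val (hφ x)).symm
    have hb0 : (b : V4) ≠ 0 := fun h0 => h1 (gl_ext fun x => by
      have := hφ' x
      rw [h0, smul_zero, hN] at this
      rw [add_eq_zero_vec this, Units.val_one, one_mulVec])
    obtain ⟨y, hy⟩ := exists_pair hb0
    set c := φ y / altForm4 (b : V4) y
    have hc : ∀ x, φ x = c * altForm4 (b : V4) x := fun x => by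
      have := hsym x y
      rw [hφ', hφ', f_smul_left, f_smul_right, f_comm x] at this
      simp only [c]
      field_simp
      linear_combination this
    obtain ⟨s, hs⟩ := exists_sqrt c
    have e : t = tv (s • (b : V4)) := gl_ext fun x => by
      rw [tv_apply, f_smul_left, smul_smul, show s * altForm4 (b : V4) x * s = φ x by rw [hc, ← hs]; ring,
        ← hφ', hN, add_comm ((t : M4) *ᵥ x), ← add_assoc, add_self_vec, zero_add]
    exact ⟨_, fun h0 => h1 (by rw [e, h0, tv_zero]), e⟩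
  right; right
  have hKI : K = I := (Submodule.eq_of_le_of_finrank_le hIK (by omega)).symm
  have hδI : δ ∈ I := by
    rw [← hKI]
    refine LinearMap.mem_ker.mpr (f_nondeg fun z => ?_)
    show altForm4 (N *ᵥ δ) z = 0
    rw [hsym]
    refine eq_zero_of_pow_eq_zero (n := 2) ?_
    rw [← hδ, hNN, f_zero_left]
  obtain ⟨z₁, hz₁ : N *ᵥ z₁ = δ⟩ := hδI
  obtain ⟨b, hbI, hb⟩ : ∃ b ∈ I, b ∉ Submodule.span F {δ} := by
    by_contra hcon
    push Not at hcon
    have := Submodule.finrank_mono (show I ≤ Submodule.span F {δ} from hcon)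
    rw [finrank_span_singleton hδ0] at this
    omega
  have hspan : ∀ w ∈ I, ∃ p q : F, w = p • b + q • δ := by
    have hli : LinearIndependent F ![b, δ] := by
      rw [LinearIndependent.pair_iff]
      intro p q h
      by_cases hp : p = 0
      · rw [hp, zero_smul, zero_add, smul_eq_zero] at h
        exact ⟨hp, h.resolve_right hδ0⟩
      · refine absurd (Submodule.mem_span_singleton.mpr ⟨p⁻¹ * q, ?_⟩) hb
        rw [← smul_smul, ← add_eq_zero_vec h, smul_smul, inv_mul_cancel₀ hp, one_smul]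
    have hle' : Submodule.span F (Set.range ![b, δ]) ≤ I := by
      rw [Submodule.span_le]
      rintro _ ⟨i, rfl⟩
      fin_cases i
      · exact hbI
      · exact ⟨z₁, hz₁⟩
    have heq := Submodule.eq_of_le_of_finrank_le hle' (by rw [finrank_span_eq_card hli]; simp; omega)
    intro w hw
    rw [← heq, Matrix.range_cons, Matrix.range_cons, Matrix.range_empty, Set.union_empty,
      Set.singleton_union, Submodule.mem_span_pair] at hw
    obtain ⟨p, q, h⟩ := hw
    exact ⟨p, q, h.symm⟩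
  obtain ⟨z, hz : N *ᵥ z = b⟩ := hbI
  have hIperp : ∀ k, N *ᵥ k = 0 → ∀ x, altForm4 (N *ᵥ x) k = 0 := fun k hk x => by
    rw [hsym, hk, f_zero_right]
  have hA : altForm4 b z₁ = altForm4 δ z := by rw [← hz, hsym, hz₁, f_comm]
  have he : altForm4 δ z₁ = 0 := by
    by_contra hne
    set s := altForm4 δ z / altForm4 δ z₁
    refine hb (Submodule.mem_span_singleton.mpr ⟨s, ?_⟩)
    refine (add_eq_zero_vec (f_nondeg fun y => ?_))
    have hzero : altForm4 δ (z + s • z₁) = 0 := by
      rw [f_add_right, f_smul_right, div_mul_cancel₀ _ hne, CharTwo.add_self_eq_zero]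
    have hN' : N *ᵥ (z + s • z₁) = s • δ + b := by
      rw [mulVec_add, mulVec_smul, hz, hz₁, add_comm]
    obtain ⟨p, q, hpq⟩ := hspan (N *ᵥ y) ⟨y, rfl⟩
    have hk : N *ᵥ (y + (p • (z + s • z₁) + (q + p * s) • z₁)) = 0 := by
      rw [mulVec_add, mulVec_add, mulVec_smul, mulVec_smul, hN', hz₁, hpq, smul_add, smul_smul,
        add_smul]
      rw [show p • b + q • δ + ((p * s) • δ + p • b + (q • δ + (p * s) • δ)) =
        (p • b + p • b) + (q • δ + q • δ) + ((p * s) • δ + (p * s) • δ) by abel]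
      simp [add_self_vec]
    have h0 := hIperp _ hk (z + s • z₁)
    rw [f_add_right, f_add_right, f_smul_right, f_smul_right, hδ, hzero, hsym (z + s • z₁) z₁,
      hz₁, f_comm (z + s • z₁) δ, hzero, zero_pow two_ne_zero, mul_zero, mul_zero, add_zero,
      add_zero, hN'] at h0
    exact h0
  have hAne : altForm4 b z₁ ≠ 0 := by
    intro h0
    refine hδ0 (f_nondeg fun y => ?_)
    obtain ⟨p, q, hpq⟩ := hspan (N *ᵥ y) ⟨y, rfl⟩
    rw [← hz₁, hsym, hpq, f_add_right, f_smul_right, f_smul_right, f_comm z₁ b, f_comm z₁ δ, h0, he,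
      mul_zero, mul_zero, add_zero]
  refine ⟨?_, hNN, δ, hδ0, by rw [← hz₁]; exact hNN z₁, fun x hx => ?_, fun g hg hgt => ?_⟩
  · show Module.finrank F K = 2
    omega
  · obtain ⟨p, q, hpq⟩ := hspan (N *ᵥ x) ⟨x, rfl⟩
    refine ⟨q, ?_⟩
    have h0 : altForm4 (N *ᵥ x) z₁ = 0 := by rw [hsym, hz₁, f_comm, hx]
    rw [hpq, f_add_left, f_smul_left, f_smul_left, he, mul_zero, add_zero] at h0
    rw [hpq, (mul_eq_zero.mp h0).resolve_right hAne, zero_smul, zero_add]
  have hgN : ∀ x, (g : M4) *ᵥ (N *ᵥ x) = N *ᵥ ((g : M4) *ᵥ x) := fun x => by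
    rw [hN, hN, mulVec_add, mulVec_mulVec, mulVec_mulVec, ← Units.val_mul, ← Units.val_mul, hgt]
  have hgδ : (g : M4) *ᵥ δ = δ := by
    refine add_eq_zero_vec (f_nondeg fun y => ?_)
    obtain ⟨x, rfl⟩ : ∃ x, (g : M4) *ᵥ x = y := ⟨_, mulVec_inv' g y⟩
    rw [f_add_left, f_map hg]
    have : altForm4 δ ((g : M4) *ᵥ x) ^ 2 = altForm4 δ x ^ 2 := by
      rw [← hδ, ← hδ, ← hgN, f_map hg]
    rw [sq_inj this, CharTwo.add_self_eq_zero]
  refine ⟨?_, hgδ⟩
  obtain ⟨α, β, hgb⟩ := hspan ((g : M4) *ᵥ b) ⟨(g : M4) *ᵥ z, show N *ᵥ _ = _ by rw [← hgN, hz]⟩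
  have hα : α = 1 := by
    have hk : N *ᵥ ((g : M4) *ᵥ z₁ + z₁) = 0 := by
      rw [mulVec_add, ← hgN, hz₁, hgδ, add_self_vec]
    have h0 := hIperp _ hk ((g : M4) *ᵥ z)
    rw [← hgN, hz, f_add_right, f_map hg, hgb, f_add_left, f_smul_left, f_smul_left, he, mul_zero,
      add_zero] at h0
    refine mul_right_cancel₀ hAne ?_
    rw [one_mul]
    exact (CharTwo.add_eq_zero.mp h0).symm
  subst hα
  rw [one_smul] at hgb
  set D : M4 := (g : M4) + 1
  have hD : ∀ x, D *ᵥ x = (g : M4) *ᵥ x + x := fun x => by simp only [D, add_mulVec, one_mulVec]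
  have hDD : ∀ w, N *ᵥ w = 0 → D *ᵥ (D *ᵥ w) = 0 := by
    intro w hw
    obtain ⟨p, q, rfl⟩ := hspan w (hKI ▸ (LinearMap.mem_ker.mpr hw : w ∈ K))
    have e1 : D *ᵥ (p • b + q • δ) = (p * β) • δ := by
      rw [hD, mulVec_add, mulVec_smul, mulVec_smul, hgb, hgδ, smul_add, smul_smul]
      rw [show p • b + (p * β) • δ + q • δ + (p • b + q • δ) =
        (p • b + p • b) + (q • δ + q • δ) + (p * β) • δ by abel, add_self_vec, add_self_vec, zero_add,
        zero_add]
    rw [e1, mulVec_smul, hD, hgδ, add_self_vec, smul_zero]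
  have hDN : ∀ x, N *ᵥ (D *ᵥ x) = D *ᵥ (N *ᵥ x) := fun x => by
    rw [hD, hD, mulVec_add, hgN]
  refine Units.ext ?_
  rw [Units.val_pow_eq_pow_val, Units.val_one]
  have h4 : D ^ 4 = 0 := by
    refine Matrix.ext_of_mulVec_single fun i => ?_
    rw [zero_mulVec, pow_succ', pow_succ', pow_succ', pow_one, ← mulVec_mulVec, ← mulVec_mulVec,
      ← mulVec_mulVec]
    exact hDD _ (by rw [hDN, hDN]; exact hDD _ (hNN _))
  have h5 : D ^ 4 = (g : M4) ^ 4 + 1 := by
    have := add_pow_char_pow_of_commute 2 2 (Commute.one_right (g : M4))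
    simpa [D] using this
  rw [h5] at h4
  rw [← CharTwo.sub_eq_add, sub_eq_zero] at h4
  exact h4

end Cfsg.Agent.H97.SpEven
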