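import Cfsg.Agent.Linear.Dickson.Main
import Cfsg.Agent.Linear.Dickson.SolubilizerUni

/-!
A subgroup of SL_2 in characteristic two with upper parameters a subfield: the lower parameter is in it.
-/

set_option autoImplicit false
set_option linter.unusedSectionVars false
set_option linter.style.haveILetI false

namespace Cfsg.Agent.H97.SpEven

open Matrix Cfsg.Agent.Linear Cfsg.Agent.Linear.Dickson

variable {F : Type*} [Field F] [Fintype F] [CharP F 2]

local notation "M2" => Matrix (Fin 2) (Fin 2) F
local notation "S2" => Matrix.SpecialLinearGroup (Fin 2) F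
local notation "P2" => Matrix.ProjectiveSpecialLinearGroup (Fin 2) F

theorem sq_inj {x y : F} (h : x ^ 2 = y ^ 2) : x = y := by
  have : (x + y) ^ 2 = 0 := by
    linear_combination h + (x * y + y ^ 2) * CharTwo.two_eq_zero (R := F)
  exact CharTwo.add_eq_zero.mp (eq_zero_of_pow_eq_zero this)

theorem mem_of_sq_mem (A : Subfield F) {x : F} (h : x ^ 2 ∈ A) : x ∈ A := by
  have hf : Function.Injective fun y : A => y ^ 2 := fun y z e =>
    Subtype.ext (sq_inj (congrArg Subtype.val e))
  obtain ⟨y, hy⟩ := (Finite.injective_iff_surjective.mp hf) ⟨_, h⟩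
  rw [show x = y from (sq_inj (congrArg Subtype.val hy)).symm]
  exact y.2

theorem exists_sqrt (x : F) : ∃ y : F, y ^ 2 = x :=
  (Finite.injective_iff_surjective.mp fun _ _ e => sq_inj e) x

theorem proj_inj : Function.Injective (proj : S2 → P2) := fun x y h => by
  rcases proj_eq_iff.mp h with e | e
  · exact e.symm
  · rw [e]
    exact Subtype.ext (by ext i j; simp [CharTwo.neg_eq])

theorem upSL_ne_one {x : F} (hx : x ≠ 0) : (upSL x : S2) ≠ 1 := fun h => hx (by
  simpa [upSL_coe] using congrArg (fun z : S2 => (z : M2) 0 1) h)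

theorem loSL_ne_one {x : F} (hx : x ≠ 0) : (loSL x : S2) ≠ 1 := fun h => hx (by
  simpa [loSL_coe] using congrArg (fun z : S2 => (z : M2) 1 0) h)

theorem loSL_mul_self (x : F) : (loSL x : S2) * loSL x = 1 := by
  apply SL_ext_two <;> simp [SL_mul_entries, loSL_coe, CharTwo.add_self_eq_zero]

theorem upSL_mul_self (x : F) : (upSL x : S2) * upSL x = 1 := by
  rw [← upSL_add, CharTwo.add_self_eq_zero, upSL_zero]

theorem trace_up_lo (x y : F) : ((upSL x * loSL y : S2) : M2).trace = x * y := by
  rw [Matrix.trace_fin_two]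
  simp [SL_mul_entries, upSL_coe, loSL_coe]
  linear_combination CharTwo.two_eq_zero (R := F)

/-- No element of order four. -/
theorem sq_eq_one_of_fourth {g : S2} (h : g ^ 4 = 1) : g ^ 2 = 1 := by
  set t := (g : M2).trace with ht
  have h2 : ((g ^ 2 : S2) : M2) = t • (g : M2) - 1 := by
    rw [Matrix.SpecialLinearGroup.coe_pow, sq, SL_sq_eq]
  have h4 : ((g ^ 4 : S2) : M2) = (t ^ 2) • ((g ^ 2 : S2) : M2) + 1 := by
    rw [show (4 : ℕ) = 2 + 2 from rfl, pow_add, Matrix.SpecialLinearGroup.coe_mul, h2]
    simp only [sub_mul, mul_sub, Matrix.smul_mul, Matrix.mul_smul, one_mul, mul_one, smul_smul]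
    rw [show (g : M2) * (g : M2) = t • (g : M2) - 1 by rw [SL_sq_eq]]
    ext i j
    simp [smul_sub]
    linear_combination (-(t * (g : M2) i j)) * CharTwo.two_eq_zero (R := F)
  rw [h, Matrix.SpecialLinearGroup.coe_one] at h4
  have h0 : (t ^ 2) • ((g ^ 2 : S2) : M2) = 0 := by simpa using h4.symm
  rcases smul_eq_zero.mp h0 with e | e
  · rw [eq_zero_of_pow_eq_zero e, zero_smul, zero_sub] at h2
    exact Subtype.ext (by rw [h2]; ext i j; simp [CharTwo.neg_eq])
  · exfalso
    have := (g ^ 2 : S2).2
    rw [e, Matrix.det_zero] at this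
    exact zero_ne_one this

theorem perm_four_exists_order_four : ∃ σ : Equiv.Perm (Fin 4), σ ^ 4 = 1 ∧ σ ^ 2 ≠ 1 :=
  ⟨finRotate 4, by decide, by decide⟩

theorem alt_four_involutions_commute : ∀ x y : alternatingGroup (Fin 4), x * x = 1 → y * y = 1 →
    x * y = y * x := by decide

theorem alt_five_orders : ∀ x : alternatingGroup (Fin 5),
    x ^ 2 = 1 ∨ x ^ 3 = 1 ∨ x ^ 5 = 1 := by decide +kernel

theorem scHom_inj {K : Type*} [Field K] (ι : K →+* F) (w : Fˣ) :
    Function.Injective (scHom ι w) := fun x y h => by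
  have hm := congrArg (fun z : S2 => (z : M2)) h
  have hw : (w : F) ≠ 0 := w.ne_zero
  apply SL_ext_two <;> apply ι.injective
  · simpa [scHom_coe, scMat] using congrFun (congrFun hm 0) 0
  · simpa [scHom_coe, scMat, hw] using congrFun (congrFun hm 0) 1
  · simpa [scHom_coe, scMat, hw] using congrFun (congrFun hm 1) 0
  · simpa [scHom_coe, scMat] using congrFun (congrFun hm 1) 1

/-- A subfield with more than two elements has a member other than zero and one. -/
theorem exists_other (A : Subfield F) (h : 2 < Nat.card A) : ∃ x ∈ A, x ≠ 0 ∧ x ≠ 1 := by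
  classical
  by_contra hcon
  push Not at hcon
  let f : A → Bool := fun z => decide ((z : F) = 0)
  have hf : Function.Injective f := fun z w e => by
    apply Subtype.ext
    have e' : ((z : F) = 0) ↔ ((w : F) = 0) := decide_eq_decide.mp e
    by_cases hz : (z : F) = 0
    · rw [hz, e'.mp hz]
    · rw [hcon _ z.2 hz, hcon _ w.2 (mt e'.mpr hz)]
  have h2 := Nat.card_le_card_of_injective f hf
  rw [Nat.card_eq_fintype_card (α := Bool), Fintype.card_bool] at h2
  omega

/-- If the upper parameters form a subfield with more than two elements, the lower one lies in it. -/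
theorem mem_subfield (L : Subgroup S2) (A : Subfield F) (hA : ∀ x, upSL x ∈ L ↔ x ∈ A)
    (hcard : 2 < Nat.card A) {c : F} (hc : c ≠ 0) (hlo : loSL c ∈ L) : c ∈ A := by
  haveI : Fact (Nat.Prime 2) := ⟨Nat.prime_two⟩
  set H := L.map proj with hH
  have hu1 : upSL (1 : F) ∈ L := (hA 1).mpr A.one_mem
  let e : L ≃* H := L.equivMapOfInjective proj proj_inj
  rcases shape (F := F) 2 H with h | h | h | h | h | h
  · obtain ⟨g, hg⟩ := h
    obtain ⟨G, rfl⟩ := proj_surjective g
    have key : ∀ y ∈ L, ((G * y * G⁻¹ : S2) : M2) 1 0 = 0 := fun y hy => by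
      have := hg _ (Subgroup.mem_map_of_mem proj hy)
      rwa [← map_inv, ← map_mul, ← map_mul, mem_borel_proj] at this
    obtain ⟨i00, i11, i01, i10⟩ := SL_inv_entries G
    have h1 := key _ hu1
    have h2 := key _ hlo
    simp [SL_mul_entries, upSL_coe, i00, i11, i01, i10] at h1
    simp [SL_mul_entries, loSL_coe, i00, i11, i01, i10] at h2
    have hd := SL_det_two G
    have g10 : (G : M2) 1 0 = 0 := by
      refine eq_zero_of_pow_eq_zero (n := 2) ?_
      linear_combination -h1
    rw [g10] at h2 hd
    have g11 : (G : M2) 1 1 = 0 := by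
      have : c * (G : M2) 1 1 ^ 2 = 0 := by linear_combination h2
      exact eq_zero_of_pow_eq_zero ((mul_eq_zero.mp this).resolve_left hc)
    rw [g11] at hd
    simp at hd
  · exfalso
    obtain ⟨a, ha, hHa⟩ := h
    obtain ⟨x, hxA, hx0, hx1⟩ := exists_other A hcard
    have key : ∀ y : S2, y ∈ L → y ≠ 1 → y * y = 1 → IsUni (proj y) → proj y * a * (proj y)⁻¹ = a⁻¹ := by
      intro y hy hy1 _ hu
      have hn := Subgroup.mem_normalizer_iff.mp (hHa (Subgroup.mem_map_of_mem proj hy))
      rcases normalizer_cases ha hn with h' | ⟨-, h'⟩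
      · exact absurd h' (not_mem_cen_of_isUni ha (fun e => hy1 (proj_inj (e.trans (map_one _).symm))) hu)
      · exact h' a (mem_cen_self a)
    have hx1' : x + 1 ≠ 0 := fun h => hx1 (CharTwo.add_eq_zero.mp h)
    have k1 := key _ ((hA x).mpr hxA) (upSL_ne_one hx0) (upSL_mul_self x) (isUni_proj_upSL x)
    have k2 := key _ hu1 (upSL_ne_one one_ne_zero) (upSL_mul_self 1) (isUni_proj_upSL 1)
    have k3 := key _ ((hA (x + 1)).mpr (A.add_mem hxA A.one_mem)) (upSL_ne_one hx1')
      (upSL_mul_self _) (isUni_proj_upSL _)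
    rw [upSL_add, map_mul] at k3
    have k4 : proj (upSL x) * proj (upSL (1 : F)) * a * (proj (upSL x) * proj (upSL (1 : F)))⁻¹ = a := by
      have e1 : proj (upSL x) * proj (upSL (1 : F)) * a * (proj (upSL x) * proj (upSL (1 : F)))⁻¹ =
          proj (upSL x) * (proj (upSL (1 : F)) * a * (proj (upSL (1 : F)))⁻¹) * (proj (upSL x))⁻¹ := by
        group
      rw [e1, k2, show proj (upSL x) * a⁻¹ * (proj (upSL x))⁻¹ =
        (proj (upSL x) * a * (proj (upSL x))⁻¹)⁻¹ by group, k1, inv_inv]
    rw [k4] at k3
    -- an element equal to its inverse is of unipotent type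
    obtain ⟨z, rfl⟩ := proj_surjective a
    have hz : z * z = 1 := by
      refine proj_inj ?_
      rw [map_mul, map_one]
      nth_rw 1 [k3]
      exact inv_mul_cancel _
    refine ha (isUni_proj.mpr ?_)
    have := congrArg (fun y : S2 => (y : M2)) hz
    rw [Matrix.SpecialLinearGroup.coe_mul, SL_sq_eq, Matrix.SpecialLinearGroup.coe_one] at this
    have ht : (z : M2).trace • (z : M2) = 0 := by
      ext i j
      have := congrFun (congrFun this i) j
      simp [-mul_eq_zero] at this ⊢
      linear_combination this + (1 : M2) i j * CharTwo.two_eq_zero (R := F)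
    rcases smul_eq_zero.mp ht with e | e
    · rw [e]; linear_combination (-2 : F) * CharTwo.two_eq_zero (R := F)
    · exact absurd (congrArg Matrix.det e) (by rw [z.2, Matrix.det_zero]; exact one_ne_zero)
  · exfalso
    obtain ⟨f⟩ := h
    let φ := e.trans f
    have := alt_four_involutions_commute (φ ⟨_, hu1⟩) (φ ⟨_, hlo⟩)
      (by rw [← map_mul, ← map_one φ]; exact congrArg φ (Subtype.ext (upSL_mul_self 1)))
      (by rw [← map_mul, ← map_one φ]; exact congrArg φ (Subtype.ext (loSL_mul_self c)))
    rw [← map_mul, ← map_mul] at this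
    have h2 := congrArg (fun z : L => ((z : S2) : M2) 0 0) (φ.injective this)
    simp [SL_mul_entries, upSL_coe, loSL_coe] at h2
    exact hc h2
  · exfalso
    obtain ⟨f⟩ := h
    obtain ⟨σ, h4, h2⟩ := perm_four_exists_order_four
    let y : L := (e.trans f).symm σ
    have hy : (y : S2) ^ 4 = 1 := by
      rw [← Subgroup.coe_pow, ← map_pow, h4, map_one]; rfl
    refine h2 ((e.trans f).symm.injective ?_)
    rw [map_pow, map_one]
    exact Subtype.ext (by rw [Subgroup.coe_pow]; exact sq_eq_one_of_fourth hy)
  · obtain ⟨f⟩ := h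
    let φ := e.trans f
    -- the field has four elements
    let U : A →+ Additive L :=
      { toFun := fun z => Additive.ofMul ⟨upSL (z : F), (hA _).mpr z.2⟩
        map_zero' := by simp [upSL_zero]
        map_add' := fun z w => congrArg Additive.ofMul (Subtype.ext (upSL_add (z : F) (w : F))) }
    have hUinj : Function.Injective U := fun z w h => by
      have h1 : upSL (z : F) = upSL (w : F) := congrArg (fun y : Additive L => ((Additive.toMul y : L) : S2)) h
      exact Subtype.ext (by simpa [upSL_coe] using congrArg (fun y : S2 => (y : M2) 0 1) h1)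
    have hdvd : Nat.card A ∣ 60 := by
      have h1 := AddSubgroup.card_dvd_of_injective U hUinj
      rwa [Nat.card_congr Additive.toMul, Nat.card_congr φ.toEquiv,
        show Nat.card (alternatingGroup (Fin 5)) = 60 by
          rw [Nat.card_eq_fintype_card]; decide +kernel] at h1
    have hA4 : Nat.card A = 4 := by
      haveI : Fintype A := Fintype.ofFinite A
      haveI : CharP A 2 := (RingHom.charP_iff A.subtype A.subtype.injective 2).mpr inferInstance
      obtain ⟨n, -, hn⟩ := FiniteField.card A 2
      have hc2 : Nat.card A = 2 ^ (n : ℕ) := Nat.card_eq_fintype_card.trans hn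
      rw [hc2] at hdvd hcard ⊢
      obtain h | h | h : (n : ℕ) = 1 ∨ (n : ℕ) = 2 ∨ 3 ≤ (n : ℕ) := by
        have h0 : 0 < (n : ℕ) := n.pos
        omega
      · rw [h] at hcard; norm_num at hcard
      · rw [h]; norm_num
      · exfalso
        have : 2 ^ 3 ∣ 60 := (pow_dvd_pow 2 h).trans hdvd
        omega
    have hm : upSL (1 : F) * loSL c ∈ L := L.mul_mem hu1 hlo
    have htr : ((upSL (1 : F) * loSL c : S2) : M2).trace = c := by rw [trace_up_lo, one_mul]
    have hne : proj (upSL (1 : F) * loSL c) ≠ 1 := fun h1 => by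
      have := proj_inj (h1.trans (map_one _).symm)
      rw [this, Matrix.SpecialLinearGroup.coe_one, Matrix.trace_one] at htr
      apply hc
      rw [← htr, Fintype.card_fin]
      simpa using CharTwo.two_eq_zero (R := F)
    have hpow : ∀ n : ℕ, φ ⟨_, hm⟩ ^ n = 1 → proj (upSL (1 : F) * loSL c) ^ n = 1 := fun n hn => by
      rw [← map_pow φ, MulEquiv.map_eq_one_iff] at hn
      rw [← map_pow, ← map_one proj]
      exact congrArg proj (congrArg Subtype.val hn)
    rcases alt_five_orders (φ ⟨_, hm⟩) with h2 | h3 | h5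
    · exact absurd (htr ▸ trace_eq_zero_of_sq hne (hpow 2 h2)) hc
    · have := htr ▸ trace_sq_eq_one_of_cube hne (hpow 3 h3)
      rw [show c = 1 from sq_inj (by rw [this, one_pow])]
      exact A.one_mem
    · -- a root of x^2 + x + 1
      have hroot : c ^ 2 + c + 1 = 0 := by
        rcases htr ▸ trace_of_fifth hne (hpow 5 h5) with h | h
        · linear_combination h + (c + 1) * CharTwo.two_eq_zero (R := F)
        · linear_combination h + CharTwo.two_eq_zero (R := F)
      obtain ⟨w, hwA, hw0, hw1⟩ := exists_other A hcard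
      haveI : Fintype A := Fintype.ofFinite A
      have h3 := FiniteField.pow_card_sub_one_eq_one (⟨w, hwA⟩ : A) (fun e => hw0 (congrArg Subtype.val e))
      rw [← Nat.card_eq_fintype_card, hA4] at h3
      have h3' : w ^ 3 = 1 := congrArg Subtype.val h3
      have hwroot : w ^ 2 + w + 1 = 0 := by
        have : (w + 1) * (w ^ 2 + w + 1) = 0 := by
          linear_combination h3' + (w ^ 2 + w + 1) * CharTwo.two_eq_zero (R := F)
        exact (mul_eq_zero.mp this).resolve_left fun h => hw1 (CharTwo.add_eq_zero.mp h)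
      have hprod : (c + w) * (c + w + 1) = 0 := by
        linear_combination hroot + hwroot + (c * w - 1) * CharTwo.two_eq_zero (R := F)
      rcases mul_eq_zero.mp hprod with h | h
      · rw [CharTwo.add_eq_zero.mp h]; exact hwA
      · have : c = w + 1 := CharTwo.add_eq_zero.mp (by linear_combination h)
        rw [this]; exact A.add_mem hwA A.one_mem
  · -- a conjugate of a scaled copy over a subfield
    obtain ⟨K, iK, iK', ι, g, w, hh⟩ := h
    obtain ⟨G, rfl⟩ := proj_surjective g
    have hK : ∀ y ∈ L, ∃ k : Matrix.SpecialLinearGroup (Fin 2) K, y = G * scHom ι w k * G⁻¹ := by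
      have main : H = (pslSub ι w).map (MulAut.conj (proj G)).toMonoidHom := by
        rcases hh with h | ⟨lam, ν, hν, -, h⟩
        · exact h
        · rw [h, pglSub, sup_eq_left.mpr]
          haveI : CharP K 2 := (RingHom.charP_iff ι ι.injective 2).mpr inferInstance
          obtain ⟨r, hr⟩ := exists_sqrt (F := K) (ν : K)
          have hlam : ι r = (lam : F) := sq_inj (by rw [← map_pow, hr, hν])
          have hr0 : r ≠ 0 := fun h0 => by rw [h0, map_zero] at hlam; exact lam.ne_zero hlam.symm
          rw [Subgroup.zpowers_le]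
          refine ⟨dSL (Units.mk0 r hr0), congrArg proj (Subtype.ext ?_)⟩
          rw [scHom_coe, dSL_coe, dSL_coe]
          ext i j
          fin_cases i <;> fin_cases j <;> simp [scMat, hlam]
      intro y hy
      have : proj y ∈ H := Subgroup.mem_map_of_mem proj hy
      rw [main] at this
      obtain ⟨z, ⟨k, rfl⟩, hz⟩ := this
      refine ⟨k, proj_inj ?_⟩
      rw [← hz]
      simp
    have htr : ∀ y ∈ L, ∃ r : K, ι r = (y : M2).trace := fun y hy => by
      obtain ⟨k, rfl⟩ := hK y hy
      refine ⟨(k : Matrix (Fin 2) (Fin 2) K).trace, ?_⟩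
      rw [Matrix.SpecialLinearGroup.coe_mul, Matrix.SpecialLinearGroup.coe_mul, Matrix.trace_mul_cycle,
        ← Matrix.SpecialLinearGroup.coe_mul, inv_mul_cancel, Matrix.SpecialLinearGroup.coe_one, one_mul,
        scHom_coe]
      simp [scMat, Matrix.trace_fin_two]
    have hxc : ∀ x ∈ A, ∃ r : K, ι r = x * c := fun x hx => by
      obtain ⟨r, hr⟩ := htr _ (L.mul_mem ((hA x).mpr hx) hlo)
      exact ⟨r, by rw [hr, trace_up_lo]⟩
    obtain ⟨rc, hrc⟩ := hxc 1 A.one_mem
    rw [one_mul] at hrc
    have hle : ∀ x ∈ A, x ∈ ι.fieldRange := fun x hx => by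
      obtain ⟨r, hr⟩ := hxc x hx
      exact ⟨r / rc, by rw [map_div₀, hr, hrc, mul_div_assoc, div_self hc, mul_one]⟩
    -- an abelian group with as many elements as the subfield centralises the involution
    have hsub : ∀ k : Matrix.SpecialLinearGroup (Fin 2) K, G * scHom ι w k * G⁻¹ ∈ L := fun k => by
      have : proj (G * scHom ι w k * G⁻¹) ∈ H := by
        have hle' : (pslSub ι w).map (MulAut.conj (proj G)).toMonoidHom ≤ H := by
          rcases hh with h | ⟨lam, ν, -, -, h⟩
          · rw [h]
          · rw [h]; exact Subgroup.map_mono (pslSub_le_pglSub ι w lam)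
        exact hle' ⟨proj (scHom ι w k), ⟨k, rfl⟩, by simp⟩
      obtain ⟨y, hy, he⟩ := this
      exact proj_inj he ▸ hy
    obtain ⟨k1, hk1⟩ := hK _ hu1
    haveI : CharP K 2 := (RingHom.charP_iff ι ι.injective 2).mpr inferInstance
    have hk1ne : k1 ≠ 1 := fun h => upSL_ne_one (F := F) one_ne_zero (by rw [hk1, h, map_one]; group)
    have hk1sq : k1 * k1 = 1 := by
      have e1 : scHom ι w (k1 * k1) = 1 := by
        rw [map_mul]
        have h := upSL_mul_self (1 : F)
        rw [hk1] at h
        calc scHom ι w k1 * scHom ι w k1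
            = G⁻¹ * (G * scHom ι w k1 * G⁻¹ * (G * scHom ι w k1 * G⁻¹)) * G := by group
          _ = 1 := by rw [h]; group
      exact scHom_inj ι w (e1.trans (map_one _).symm)
    have hns : ¬ IsScalarTwo (k1 : Matrix (Fin 2) (Fin 2) K) := fun h => by
      rw [isScalarTwo_SL_iff] at h
      rcases h with h | h
      · exact hk1ne h
      · exact hk1ne (by rw [h]; exact Subtype.ext (by ext i j; simp [CharTwo.neg_eq]))
    have htr2 : (k1 : Matrix (Fin 2) (Fin 2) K).trace = 2 := by
      have := congrArg (fun z : Matrix.SpecialLinearGroup (Fin 2) K => (z : Matrix (Fin 2) (Fin 2) K)) hk1sq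
      rw [Matrix.SpecialLinearGroup.coe_mul, SL_sq_eq, Matrix.SpecialLinearGroup.coe_one] at this
      refine Eq.trans ?_ (CharTwo.two_eq_zero (R := K)).symm
      refine coeff_eq_zero hns (b := 0) ?_
      rw [zero_smul, sub_zero]
      refine isScalarTwo_iff.mpr ⟨0, ?_⟩
      ext i j
      have hij := congrFun (congrFun this i) j
      simp [-mul_eq_zero] at hij ⊢
      linear_combination hij + (1 : Matrix (Fin 2) (Fin 2) K) i j * CharTwo.two_eq_zero (R := K)
    obtain ⟨b, -, hb⟩ := exists_conj_upSL hns htr2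
    obtain ⟨h, hh'⟩ := isConj_iff.mp hb
    have hcomm : ∀ r : K, ∃ x ∈ A, G * scHom ι w (h * upSL r * h⁻¹) * G⁻¹ = upSL x := fun r => by
      set y := G * scHom ι w (h * upSL r * h⁻¹) * G⁻¹ with hy
      have hc' : y * upSL (1 : F) = upSL (1 : F) * y := by
        rw [hk1, ← hh', hy]
        calc G * scHom ι w (h * upSL r * h⁻¹) * G⁻¹ * (G * scHom ι w (h * upSL b * h⁻¹) * G⁻¹)
            = G * scHom ι w (h * (upSL r * upSL b) * h⁻¹) * G⁻¹ := by simp only [map_mul, map_inv]; group
          _ = G * scHom ι w (h * (upSL b * upSL r) * h⁻¹) * G⁻¹ := by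
              rw [← upSL_add, ← upSL_add, add_comm]
          _ = _ := by simp only [map_mul, map_inv]; group
      have h10 : (y : M2) 1 0 = 0 := by
        have := congrArg (fun z : S2 => (z : M2) 0 0) hc'
        simpa [SL_mul_entries, upSL_coe] using this
      have h00 : (y : M2) 0 0 = (y : M2) 1 1 := by
        have := congrArg (fun z : S2 => (z : M2) 0 1) hc'
        simp [SL_mul_entries, upSL_coe] at this
        linear_combination this
      have hd := SL_det_two y
      rw [h10, mul_zero, sub_zero, ← h00] at hd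
      have h1 : (y : M2) 0 0 = 1 := sq_inj (by rw [sq, hd, one_pow])
      have he : y = upSL ((y : M2) 0 1) := by
        apply SL_ext_two <;> simp [upSL_coe, h10, h1, ← h00]
      exact ⟨_, (hA _).mp (he ▸ hsub _), he⟩
    choose X hX hXe using hcomm
    let ψ : K → A := fun r => ⟨X r, hX r⟩
    have hψ : Function.Injective ψ := fun r r' he => by
      have h1 : X r = X r' := congrArg Subtype.val he
      have h2 := hXe r
      rw [h1, ← hXe r'] at h2
      have h3 := mul_left_cancel (mul_right_cancel h2)
      have h5 : upSL r = upSL r' := mul_left_cancel (mul_right_cancel (scHom_inj ι w h3))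
      simpa [upSL_coe] using congrArg (fun z : Matrix.SpecialLinearGroup (Fin 2) K => (z : Matrix (Fin 2) (Fin 2) K) 0 1) h5
    let χ : A → ι.fieldRange := fun z => ⟨z, hle _ z.2⟩
    have hχ : Function.Injective χ := fun z z' he => Subtype.ext (congrArg (fun v : ι.fieldRange => (v : F)) he)
    have hcardK : Nat.card ι.fieldRange ≤ Nat.card A := by
      calc Nat.card ι.fieldRange = Nat.card K := (Nat.card_congr (Equiv.ofInjective ι ι.injective)).symm
        _ ≤ Nat.card A := Nat.card_le_card_of_injective ψ hψ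
    obtain ⟨z, hz⟩ := (hχ.bijective_of_nat_card_le hcardK).2 ⟨c, rc, hrc⟩
    rw [show c = (z : F) from (congrArg (fun v : ι.fieldRange => (v : F)) hz).symm]
    exact z.2

end Cfsg.Agent.H97.SpEven
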