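import Cfsg.Agent.H97.SpEven.Basic
import Cfsg.Agent.H97.SpEven.Plane

/-!
Transvection vectors of a group: swaps, the scalar field, connectedness.
-/

set_option autoImplicit false
set_option linter.unusedSectionVars false
set_option linter.style.haveILetI false

namespace Cfsg.Agent.H97.SpEven

open Matrix Cfsg.Agent.Linear Cfsg.Agent.Linear.Dickson
open Cfsg.Lie (altForm4)
open Cfsg.Geo (matrixSet ActsIrreducibly)

variable {F : Type*} [Field F] [CharP F 2]

local notation "V4" => (Fin 4 → F)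
local notation "M4" => Matrix (Fin 4) (Fin 4) F
local notation "G4" => GL (Fin 4) F
local notation "S2" => Matrix.SpecialLinearGroup (Fin 2) F
local notation "M2" => Matrix (Fin 2) (Fin 2) F

/-- The vectors of the transvections in `P`. -/
def Dset (P : Subgroup G4) : Set V4 := {v | v ≠ 0 ∧ tv v ∈ P}

/-- A symplectic group with irreducible action generated by its transvections. -/
structure Setting (P : Subgroup G4) : Prop where
  sp : P ≤ Lie.Sp4 F
  irr : ActsIrreducibly (matrixSet P)
  ne : (Dset P).Nonempty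
  gen : P ≤ Subgroup.closure (tv '' Dset P)

theorem Setting.of_simple {P : Subgroup G4} [IsSimpleGroup P] (sp : P ≤ Lie.Sp4 F)
    (irr : ActsIrreducibly (matrixSet P)) (ne : (Dset P).Nonempty) : Setting P := by
  refine ⟨sp, irr, ne, ?_⟩
  set N := Subgroup.closure (tv '' Dset P)
  have hNP : N ≤ P := (Subgroup.closure_le P).mpr fun _ ⟨v, hv, e⟩ => e ▸ hv.2
  have hn : (N.subgroupOf P).Normal := by
    refine ⟨fun x hx g => ?_⟩
    rw [Subgroup.mem_subgroupOf] at hx ⊢
    simp only [Subgroup.coe_mul, Subgroup.coe_inv]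
    have hle : N ≤ N.comap (MulAut.conj (g : G4)).toMonoidHom := by
      refine (Subgroup.closure_le _).mpr ?_
      rintro _ ⟨v, hv, rfl⟩
      show (g : G4) * tv v * (g : G4)⁻¹ ∈ N
      rw [tv_conj (sp g.2)]
      refine Subgroup.subset_closure ⟨_, ⟨mulVec_ne_zero _ hv.1, ?_⟩, rfl⟩
      rw [← tv_conj (sp g.2)]
      exact P.mul_mem (P.mul_mem g.2 hv.2) (P.inv_mem g.2)
    exact hle hx
  rcases hn.eq_bot_or_eq_top with h | h
  · exfalso
    obtain ⟨v, hv⟩ := ne
    have : (⟨tv v, hv.2⟩ : P) ∈ N.subgroupOf P := Subgroup.mem_subgroupOf.mpr (Subgroup.subset_closure ⟨v, hv, rfl⟩)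
    rw [h, Subgroup.mem_bot] at this
    exact tv_ne_one hv.1 (congrArg Subtype.val this)
  · exact Subgroup.subgroupOf_eq_top.mp h

variable {P : Subgroup (GL (Fin 4) F)} (hS : Setting P)

theorem Dset_map (hsp : P ≤ Lie.Sp4 F) {g : G4} (hg : g ∈ P) {v : V4} (hv : v ∈ Dset P) :
    (g : M4) *ᵥ v ∈ Dset P :=
  ⟨mulVec_ne_zero g hv.1, tv_conj (hsp hg) v ▸ P.mul_mem (P.mul_mem hg hv.2) (P.inv_mem hg)⟩

theorem Dset_tv_apply (hsp : P ≤ Lie.Sp4 F) {u v : V4} (hu : u ∈ Dset P) (hv : v ∈ Dset P) :
    v + altForm4 u v • u ∈ Dset P := by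
  have := Dset_map hsp hu.2 hv
  rwa [tv_apply] at this

include hS in
/-- A non-empty part of the vectors orthogonal to its complement spans. -/
theorem Setting.span_eq_top (S : Set V4) (hSD : S ⊆ Dset P) (hne : S.Nonempty)
    (hperp : ∀ u ∈ Dset P, u ∉ S → ∀ s ∈ S, altForm4 u s = 0) : Submodule.span F S = ⊤ := by
  set U := Submodule.span F S
  have key : ∀ g ∈ P, ∀ x ∈ U, (g : M4) *ᵥ x ∈ U := by
    let K : Subgroup G4 :=
      { carrier := {g | (∀ x ∈ U, (g : M4) *ᵥ x ∈ U) ∧ ∀ x ∈ U, ((g⁻¹ : G4) : M4) *ᵥ x ∈ U}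
        one_mem' := by simp
        mul_mem' := fun {a b} ha hb => ⟨fun x hx => by
            rw [Units.val_mul, ← mulVec_mulVec]; exact ha.1 _ (hb.1 x hx), fun x hx => by
            rw [_root_.mul_inv_rev, Units.val_mul, ← mulVec_mulVec]; exact hb.2 _ (ha.2 x hx)⟩
        inv_mem' := fun {a} ha => ⟨ha.2, by rw [inv_inv]; exact ha.1⟩ }
    suffices h : Subgroup.closure (tv '' Dset P) ≤ K from fun g hg => (h (hS.gen hg)).1
    refine (Subgroup.closure_le _).mpr ?_
    rintro _ ⟨u, hu, rfl⟩
    have h1 : ∀ x ∈ U, (tv u : M4) *ᵥ x ∈ U := by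
      intro x hx
      rw [tv_apply]
      refine U.add_mem hx ?_
      by_cases huS : u ∈ S
      · exact U.smul_mem _ (Submodule.subset_span huS)
      · have : altForm4 u x = 0 := by
          induction hx using Submodule.span_induction with
          | mem y hy => exact hperp u hu huS y hy
          | zero => exact f_zero_right u
          | add y z _ _ hy hz => rw [f_add_right, hy, hz, add_zero]
          | smul c y _ hy => rw [f_smul_right, hy, mul_zero]
        rw [this, zero_smul]
        exact U.zero_mem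
    exact ⟨h1, by rw [tv_inv]; exact h1⟩
  refine (hS.irr U ?_).resolve_left fun h => ?_
  · rintro _ ⟨g, hg, rfl⟩ _ ⟨x, hx, rfl⟩
    rw [Matrix.toLin'_apply]
    exact key g hg x hx
  · obtain ⟨s, hs⟩ := hne
    have hsU : s ∈ U := Submodule.subset_span hs
    rw [h, Submodule.mem_bot] at hsU
    exact (hSD hs).1 hsU

include hS in
theorem Setting.span_Dset : Submodule.span F (Dset P) = ⊤ :=
  hS.span_eq_top (Dset P) le_rfl hS.ne fun u hu h => absurd hu h

theorem eq_zero_of_perp_span {S : Set V4} (h : Submodule.span F S = ⊤) {u : V4}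
    (hu : ∀ s ∈ S, altForm4 u s = 0) : u = 0 := by
  refine f_nondeg fun x => ?_
  have hx : x ∈ Submodule.span F S := h ▸ Submodule.mem_top
  induction hx using Submodule.span_induction with
  | mem y hy => exact hu y hy
  | zero => exact f_zero_right u
  | add y z _ _ hy hz => rw [f_add_right, hy, hz, add_zero]
  | smul c y _ hy => rw [f_smul_right, hy, mul_zero]

include hS in
/-- A property passing along non-orthogonal pairs holds everywhere. -/
theorem Setting.connected (p : V4 → Prop) {d₀ : V4} (h0 : d₀ ∈ Dset P) (hp0 : p d₀)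
    (hstep : ∀ d ∈ Dset P, ∀ e ∈ Dset P, altForm4 d e ≠ 0 → p d → p e) : ∀ d ∈ Dset P, p d := by
  by_contra hcon
  push Not at hcon
  obtain ⟨e, he, hpe⟩ := hcon
  set S := {d | d ∈ Dset P ∧ p d}
  have hperp : ∀ u ∈ Dset P, u ∉ S → ∀ s ∈ S, altForm4 u s = 0 := fun u hu huS s hs => by
    by_contra hne
    exact huS ⟨hu, hstep s hs.1 u hu (by rwa [f_comm]) hs.2⟩
  have htop := hS.span_eq_top S (fun d hd => hd.1) ⟨d₀, h0, hp0⟩ hperp
  exact he.1 (eq_zero_of_perp_span htop fun s hs => hperp e he (fun h => hpe h.2) s hs)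

/-! ### Swaps -/

theorem eq_self_of_conj_tv {z : G4} (hz : z ∈ Lie.Sp4 F) {d : V4} (h : z * tv d = tv d * z) :
    (z : M4) *ᵥ d = d := tv_injective (by rw [← tv_conj hz, h, mul_inv_cancel_right])

/-- Two non-orthogonal transvections: a member of the group they generate exchanges the vectors. -/
theorem exists_swap [Finite F] {d e : V4} (hde : altForm4 d e ≠ 0) :
    ∃ g ∈ Subgroup.closure ({tv d, tv e} : Set G4), (g : M4) *ᵥ d = e ∧ (g : M4) *ᵥ e = d := by
  set a := tv d with ha
  set b := tv e with hb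
  set C := Subgroup.closure ({a, b} : Set G4)
  have haC : a ∈ C := Subgroup.subset_closure (Set.mem_insert _ _)
  have hbC : b ∈ C := Subgroup.subset_closure (Set.mem_insert_of_mem _ rfl)
  have hCsp : C ≤ Lie.Sp4 F := (Subgroup.closure_le _).mpr (by
    rintro x (rfl | rfl) <;> exact tv_mem _)
  have ha2 : a * a = 1 := tv_mul_self d
  have hb2 : b * b = 1 := tv_mul_self e
  have hconj : ∀ k : ℕ, a * (a * b) ^ k * a = ((a * b) ^ k)⁻¹ := fun k => by
    have h1 : a * (a * b) * a⁻¹ = (a * b)⁻¹ := by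
      rw [_root_.mul_inv_rev, inv_eq_of_mul_eq_one_right hb2, ← mul_assoc, ha2, one_mul]
    rw [← inv_pow, ← h1, conj_pow, inv_eq_of_mul_eq_one_right ha2]
  have hfix : ∀ x, altForm4 d x = 0 → altForm4 e x = 0 → ∀ g ∈ C, (g : M4) *ᵥ x = x := by
    intro x hx1 hx2
    let K : Subgroup G4 :=
      { carrier := {g | (g : M4) *ᵥ x = x}
        one_mem' := by simp
        mul_mem' := fun {p q} hp hq => by
          show ((p * q : G4) : M4) *ᵥ x = x
          rw [Units.val_mul, ← mulVec_mulVec, hq, hp]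
        inv_mem' := fun {p} hp => by
          show ((p⁻¹ : G4) : M4) *ᵥ x = x
          conv_lhs => rw [← (hp : (p : M4) *ᵥ x = x)]
          exact mulVec_inv p x }
    have : C ≤ K := (Subgroup.closure_le _).mpr (by
      rintro g (rfl | rfl)
      · exact tv_fix hx1
      · exact tv_fix hx2)
    exact fun g hg => this hg
  have hodd : Odd (orderOf (a * b)) := by
    rw [← Nat.not_even_iff_odd]
    rintro ⟨k, hk⟩
    have hpos : 0 < orderOf (a * b) := orderOf_pos _
    have hzC : (a * b) ^ k ∈ C := C.pow_mem (C.mul_mem haC hbC) k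
    have hz2 : ((a * b) ^ k)⁻¹ = (a * b) ^ k :=
      inv_eq_of_mul_eq_one_right (by rw [← pow_add, ← hk, pow_orderOf_eq_one])
    have hza : (a * b) ^ k * a = a * (a * b) ^ k := by
      have h := hconj k
      rw [hz2] at h
      calc (a * b) ^ k * a = a * (a * b) ^ k * a * a := by rw [h]
        _ = a * (a * b) ^ k := by rw [mul_assoc, ha2, mul_one]
    have hzb : (a * b) ^ k * b = b * (a * b) ^ k := by
      have hb' : b = a * (a * b) := by rw [← mul_assoc, ha2, one_mul]
      calc (a * b) ^ k * b = (a * b) ^ k * a * (a * b) := by rw [mul_assoc, ← hb']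
        _ = a * ((a * b) * (a * b) ^ k) := by rw [hza, mul_assoc, (Commute.self_pow (a * b) k).eq]
        _ = b * (a * b) ^ k := by rw [← mul_assoc, ← hb']
    have hd := eq_self_of_conj_tv (hCsp hzC) hza
    have he := eq_self_of_conj_tv (hCsp hzC) hzb
    have hz1 : (a * b) ^ k = 1 := gl_ext fun x => by
      set α := altForm4 e x / altForm4 d e
      set β := altForm4 d x / altForm4 d e
      have hx0 : (((a * b) ^ k : G4) : M4) *ᵥ (x + α • d + β • e) = x + α • d + β • e := by
        refine hfix _ ?_ ?_ _ hzC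
        · rw [f_add_right, f_add_right, f_smul_right, f_smul_right, f_self, mul_zero, add_zero,
            div_mul_cancel₀ _ hde]
          exact CharTwo.add_self_eq_zero _
        · rw [f_add_right, f_add_right, f_smul_right, f_smul_right, f_self, mul_zero, add_zero,
            f_comm e d, div_mul_cancel₀ _ hde]
          exact CharTwo.add_self_eq_zero _
      rw [mulVec_add, mulVec_add, mulVec_smul, mulVec_smul, hd, he, add_left_inj, add_left_inj] at hx0
      rw [hx0, Units.val_one, one_mulVec]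
    have := orderOf_dvd_of_pow_eq_one hz1
    have := Nat.le_of_dvd (by omega) this
    omega
  obtain ⟨k, hk⟩ := hodd
  set g := (a * b) ^ k * a with hg
  have hgC : g ∈ C := C.mul_mem (C.pow_mem (C.mul_mem haC hbC) k) haC
  have hg2 : g * g = 1 := by
    rw [hg, mul_assoc, ← mul_assoc a, hconj, mul_inv_cancel]
  have hgab : g * a * g⁻¹ = b := by
    rw [inv_eq_of_mul_eq_one_right hg2, hg]
    calc (a * b) ^ k * a * a * ((a * b) ^ k * a)
        = (a * b) ^ (k + k) * a := by rw [mul_assoc ((a * b) ^ k) a a, ha2, mul_one, ← mul_assoc, pow_add]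
      _ = (a * b)⁻¹ * a := by
          congr 1
          refine eq_inv_of_mul_eq_one_left ?_
          rw [← pow_succ, show k + k + 1 = orderOf (a * b) by omega, pow_orderOf_eq_one]
      _ = b := by
          rw [_root_.mul_inv_rev, inv_eq_of_mul_eq_one_right hb2, mul_assoc,
            inv_mul_cancel, mul_one]
  have h1 : (g : M4) *ᵥ d = e := tv_injective (by rw [← tv_conj (hCsp hgC), hgab])
  refine ⟨g, hgC, h1, ?_⟩
  conv_lhs => rw [← h1]
  rw [mulVec_mulVec, ← Units.val_mul, hg2, Units.val_one, one_mulVec]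

theorem exists_swap_mem [Finite F] {d e : V4} (hd : d ∈ Dset P) (he : e ∈ Dset P)
    (hde : altForm4 d e ≠ 0) : ∃ g ∈ P, (g : M4) *ᵥ d = e ∧ (g : M4) *ᵥ e = d := by
  obtain ⟨g, hg, h⟩ := exists_swap hde
  exact ⟨g, (Subgroup.closure_le P).mpr (by rintro x (rfl | rfl); exacts [hd.2, he.2]) hg, h⟩

/-! ### The scalar field -/

/-- The scalars at a vector. -/
def scal (P : Subgroup G4) (d : V4) : AddSubgroup F where
  carrier := {c | tv (c • d) ∈ P}
  zero_mem' := by simp [tv_zero, P.one_mem]
  add_mem' {a b} ha hb := by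
    show tv ((a + b) • d) ∈ P
    rw [← tv_add_smul]
    exact P.mul_mem ha hb
  neg_mem' {a} ha := by simpa [CharTwo.neg_eq] using ha

theorem mem_scal {d : V4} {c : F} : c ∈ scal P d ↔ tv (c • d) ∈ P := Iff.rfl

theorem scal_one {d : V4} (hd : d ∈ Dset P) : (1 : F) ∈ scal P d := by
  rw [mem_scal, one_smul]; exact hd.2

theorem scal_conj (hsp : P ≤ Lie.Sp4 F) {g : G4} (hg : g ∈ P) {d : V4} {c : F} (h : c ∈ scal P d) :
    c ∈ scal P ((g : M4) *ᵥ d) := by
  rw [mem_scal, ← mulVec_smul, ← tv_conj (hsp hg)]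
  exact P.mul_mem (P.mul_mem hg h) (P.inv_mem hg)

variable [Finite F]

include hS in
theorem Setting.scal_eq {d e : V4} (hd : d ∈ Dset P) (he : e ∈ Dset P) : scal P d = scal P e := by
  have step : ∀ u ∈ Dset P, ∀ v ∈ Dset P, altForm4 u v ≠ 0 → scal P u = scal P v := by
    intro u hu v hv huv
    obtain ⟨g, hg, h1, h2⟩ := exists_swap_mem hu hv huv
    ext c
    exact ⟨fun h => h1 ▸ scal_conj hS.sp hg h, fun h => h2 ▸ scal_conj hS.sp hg h⟩
  exact (hS.connected (fun x => scal P d = scal P x) hd rfl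
    (fun u hu v hv huv h => h.trans (step u hu v hv huv)) e he)

include hS in
theorem Setting.exists_nonorth {d : V4} (hd : d ∈ Dset P) : ∃ e ∈ Dset P, altForm4 d e ≠ 0 := by
  by_contra h
  push Not at h
  exact hd.1 (eq_zero_of_perp_span hS.span_Dset h)

/-- The scalar field. -/
noncomputable def Setting.field {d : V4} (hd : d ∈ Dset P) : Subfield F where
  carrier := scal P d
  zero_mem' := (scal P d).zero_mem
  one_mem' := scal_one hd
  add_mem' := (scal P d).add_mem
  neg_mem' := (scal P d).neg_mem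
  mul_mem' {a b} ha hb := by
    rcases eq_or_ne b 0 with rfl | hb0
    · rw [mul_zero]; exact (scal P d).zero_mem
    have hbd : b • d ∈ Dset P := ⟨smul_ne_zero hb0 hd.1, hb⟩
    have h : a ∈ scal P (b • d) := by rwa [← hS.scal_eq hd hbd]
    rwa [SetLike.mem_coe, mem_scal, ← smul_smul]
  inv_mem' := fun a ha => by
    rcases eq_or_ne a 0 with rfl | ha0
    · rw [_root_.inv_zero]; exact (scal P d).zero_mem
    have had : a • d ∈ Dset P := ⟨smul_ne_zero ha0 hd.1, ha⟩
    rw [SetLike.mem_coe, hS.scal_eq hd had, mem_scal, smul_smul, inv_mul_cancel₀ ha0, one_smul]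
    exact hd.2

theorem Setting.mem_field {d : V4} (hd : d ∈ Dset P) {c : F} :
    c ∈ hS.field hd ↔ tv (c • d) ∈ P := Iff.rfl

/-! ### The plane of two vectors -/

/-- A two by two matrix acting on the plane of a hyperbolic pair. -/
def planeMat (d e : V4) (M : M2) : M4 :=
  1 + (Matrix.of fun i j => ![d i, e i] j : Matrix (Fin 4) (Fin 2) F) * (M - 1) *
    (Matrix.of fun i j => ![(suzukiForm F *ᵥ e) j, (suzukiForm F *ᵥ d) j] i : Matrix (Fin 2) (Fin 4) F)

theorem planeMat_mul {d e : V4} (hde : altForm4 d e = 1) (M N : M2) :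
    planeMat d e (M * N) = planeMat d e M * planeMat d e N := by
  set B : Matrix (Fin 4) (Fin 2) F := Matrix.of fun i j => ![d i, e i] j with hB
  set C : Matrix (Fin 2) (Fin 4) F :=
    Matrix.of fun i j => ![(suzukiForm F *ᵥ e) j, (suzukiForm F *ᵥ d) j] i with hC
  have hCB : C * B = 1 := by
    ext i j
    have key : (C * B) i j = altForm4 (![e, d] i) (![d, e] j) := by
      rw [f_eq_dot, Matrix.mul_apply, dotProduct]
      refine Finset.sum_congr rfl fun k _ => ?_
      fin_cases i <;> fin_cases j <;> rfl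
    rw [key]
    fin_cases i <;> fin_cases j <;> simp [f_self, f_comm e d, hde]
  show 1 + B * (M * N - 1) * C = (1 + B * (M - 1) * C) * (1 + B * (N - 1) * C)
  have h2 : B * (M - 1) * C * (B * (N - 1) * C) = B * ((M - 1) * (N - 1)) * C := by
    calc B * (M - 1) * C * (B * (N - 1) * C) = B * (M - 1) * (C * B) * (N - 1) * C := by
          simp only [Matrix.mul_assoc]
      _ = B * ((M - 1) * (N - 1)) * C := by rw [hCB]; simp only [Matrix.mul_assoc, Matrix.one_mul]
  have h3 : M * N - 1 = (M - 1) + (N - 1) + (M - 1) * (N - 1) := by noncomm_ring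
  rw [add_mul, mul_add, mul_add, one_mul, mul_one, one_mul, h2, h3, Matrix.mul_add, Matrix.mul_add,
    Matrix.add_mul, Matrix.add_mul]
  abel

theorem planeMat_one (d e : V4) : planeMat d e (1 : M2) = 1 := by simp [planeMat]

/-- The embedding of the plane group. -/
def planeHom {d e : V4} (hde : altForm4 d e = 1) : S2 →* G4 where
  toFun g := ⟨planeMat d e g, planeMat d e ((g⁻¹ : S2) : M2),
    by rw [← planeMat_mul hde, ← Matrix.SpecialLinearGroup.coe_mul, mul_inv_cancel,
      Matrix.SpecialLinearGroup.coe_one, planeMat_one],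
    by rw [← planeMat_mul hde, ← Matrix.SpecialLinearGroup.coe_mul, inv_mul_cancel,
      Matrix.SpecialLinearGroup.coe_one, planeMat_one]⟩
  map_one' := Units.ext (planeMat_one d e)
  map_mul' g h := Units.ext (planeMat_mul hde g h)

theorem planeHom_up {d e : V4} (hde : altForm4 d e = 1) (x : F) :
    planeHom hde (upSL (x ^ 2)) = tv (x • d) := by
  refine gl_ext fun y => ?_
  show planeMat d e _ *ᵥ y = (tv (x • d) : M4) *ᵥ y
  rw [tv_apply, planeMat, add_mulVec, one_mulVec, f_eq_dot]
  congr 1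
  rw [← mulVec_mulVec, ← mulVec_mulVec]
  funext i
  simp [Matrix.mulVec, dotProduct, Fin.sum_univ_four, Fin.sum_univ_two, upSL_coe, suzukiForm,
    Matrix.sub_apply]
  ring

theorem planeHom_lo {d e : V4} (hde : altForm4 d e = 1) (x : F) :
    planeHom hde (loSL (x ^ 2)) = tv (x • e) := by
  refine gl_ext fun y => ?_
  show planeMat d e _ *ᵥ y = (tv (x • e) : M4) *ᵥ y
  rw [tv_apply, planeMat, add_mulVec, one_mulVec, f_eq_dot]
  congr 1
  rw [← mulVec_mulVec, ← mulVec_mulVec]
  funext i
  simp [Matrix.mulVec, dotProduct, Fin.sum_univ_four, Fin.sum_univ_two, loSL_coe, suzukiForm,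
    Matrix.sub_apply]
  ring

include hS in
/-- With more than two scalars the values of the form lie in the scalar field. -/
theorem Setting.form_mem_field {d e : V4} (hd : d ∈ Dset P) (he : e ∈ Dset P)
    (h3 : 2 < Nat.card (hS.field hd)) : altForm4 d e ∈ hS.field hd := by
  haveI : Fintype F := Fintype.ofFinite F
  set a := altForm4 d e with ha
  rcases eq_or_ne a 0 with h0 | h0
  · rw [h0]; exact (hS.field hd).zero_mem
  have h1 : altForm4 d (a⁻¹ • e) = 1 := by rw [f_smul_right, ← ha, inv_mul_cancel₀ h0]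
  refine mem_of_sq_mem _ (mem_subfield (P.comap (planeHom h1)) _ (fun x => ?_) h3 (pow_ne_zero 2 h0) ?_)
  · obtain ⟨y, rfl⟩ := exists_sqrt x
    rw [Subgroup.mem_comap, planeHom_up, ← hS.mem_field hd]
    exact ⟨fun h => (hS.field hd).pow_mem h 2, mem_of_sq_mem _⟩
  · rw [Subgroup.mem_comap, planeHom_lo, smul_smul, mul_inv_cancel₀ h0, one_smul]
    exact he.2

end Cfsg.Agent.H97.SpEven
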