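import Cfsg.Agent.H97.SpEven.Involution
import Cfsg.Agent.H97.SpEven.Hua

/-!
`SL₂` of a field of characteristic two acting on the symplectic four-space, involutions of the third type:
it fixes a quadratic form or is not absolutely irreducible.
-/

set_option autoImplicit false
set_option linter.unusedSectionVars false
set_option linter.unusedSimpArgs false

namespace Cfsg.Agent.H97.SpEven

open Matrix Cfsg.Agent.Linear Cfsg.Agent.Linear.Dickson
open Cfsg.Lie (altForm4)
open Cfsg.Geo (matrixSet ActsIrreducibly ActsAbsolutelyIrreducibly IsNondegenerateQuadraticForm FixesQuadForm)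

variable {F : Type*} [Field F] [CharP F 2] {E : Type*} [Field E] [CharP E 2]

local notation "V4" => (Fin 4 → F)
local notation "M4" => Matrix (Fin 4) (Fin 4) F
local notation "G4" => GL (Fin 4) F

/-- The representation data. -/
structure Rep (ρ : Matrix.SpecialLinearGroup (Fin 2) E →* GL (Fin 4) F) : Prop where
  sp : ∀ g, ρ g ∈ Lie.Sp4 F
  irr : ActsAbsolutelyIrreducibly (matrixSet ρ.range)
  c2 : ∀ x : E, x ≠ 0 → IsC2 (ρ (upSL x))

variable {ρ : Matrix.SpecialLinearGroup (Fin 2) E →* GL (Fin 4) F}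

theorem rep_two (g h : Matrix.SpecialLinearGroup (Fin 2) E) (v : V4) :
    (ρ g : M4) *ᵥ ((ρ h : M4) *ᵥ v) = (ρ (g * h) : M4) *ᵥ v := by
  rw [map_mul, Units.val_mul, mulVec_mulVec]

theorem rep_one (v : V4) : (ρ 1 : M4) *ᵥ v = v := by rw [map_one, Units.val_one, one_mulVec]

theorem up_sq (x : E) : upSL x * upSL x = 1 := by
  rw [← upSL_add, CharTwo.add_self_eq_zero, upSL_zero]

theorem swSL_conj_lo (x : E) : swSL (1 : E) * upSL x * swSL 1 = loSL x := by
  rw [swSL_up one_ne_zero, one_pow, div_one]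

theorem upSL_comm (x z : E) : upSL x * upSL z = upSL z * upSL x := by
  rw [← upSL_add, ← upSL_add, add_comm]

/-- A vector fixed by the upper elements and moved by the exchange into itself is fixed by everything. -/
theorem rep_closed (p : V4 → Prop) (hu : ∀ x v, p v → p ((ρ (upSL x) : M4) *ᵥ v))
    (hw : ∀ v, p v → p ((ρ (swSL 1) : M4) *ᵥ v)) : ∀ g v, p v → p ((ρ g : M4) *ᵥ v) := by
  intro g
  let H : Subgroup (Matrix.SpecialLinearGroup (Fin 2) E) :=
    { carrier := {g | (∀ v, p v → p ((ρ g : M4) *ᵥ v)) ∧ ∀ v, p v → p ((ρ g⁻¹ : M4) *ᵥ v)}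
      one_mem' := ⟨fun v hv => by rwa [rep_one], fun v hv => by rwa [inv_one, rep_one]⟩
      mul_mem' := fun {a b} ha hb => ⟨fun v hv => by rw [← rep_two]; exact ha.1 _ (hb.1 v hv),
        fun v hv => by rw [_root_.mul_inv_rev, ← rep_two]; exact hb.2 _ (ha.2 v hv)⟩
      inv_mem' := fun {a} ha => ⟨ha.2, by rw [inv_inv]; exact ha.1⟩ }
  have h1 : ∀ x, upSL x ∈ H := fun x => ⟨hu x, by
    rw [inv_eq_of_mul_eq_one_right (up_sq x)]; exact hu x⟩
  have hsw : swSL (1 : E) ∈ H := ⟨hw, by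
    rw [inv_eq_of_mul_eq_one_right (swSL_mul_self one_ne_zero)]; exact hw⟩
  have := closure_up_lo H h1 (fun x => swSL_conj_lo x ▸ H.mul_mem (H.mul_mem hsw (h1 x)) hsw)
  exact ((this ▸ Subgroup.mem_top g : g ∈ H)).1

theorem Rep.invariant (hρ : Rep ρ) (S : Submodule F V4)
    (hu : ∀ x, ∀ v ∈ S, (ρ (upSL x) : M4) *ᵥ v ∈ S) (hw : ∀ v ∈ S, (ρ (swSL 1) : M4) *ᵥ v ∈ S) :
    S = ⊥ ∨ S = ⊤ := by
  refine hρ.irr.1 S ?_
  rintro _ ⟨_, ⟨g, rfl⟩, rfl⟩ _ ⟨v, hv, rfl⟩
  rw [Matrix.toLin'_apply]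
  exact rep_closed (fun v => v ∈ S) hu hw g v hv

/-- The common fixed space of the upper elements. -/
def fixU (ρ : Matrix.SpecialLinearGroup (Fin 2) E →* GL (Fin 4) F) : Submodule F V4 where
  carrier := {v | ∀ x : E, (ρ (upSL x) : M4) *ᵥ v = v}
  zero_mem' x := mulVec_zero _
  add_mem' {a b} ha hb x := by rw [mulVec_add, ha x, hb x]
  smul_mem' c a ha x := by rw [mulVec_smul, ha x]

theorem mem_ker_iff (t : G4) (v : V4) :
    v ∈ LinearMap.ker ((t : M4) + 1).mulVecLin ↔ (t : M4) *ᵥ v = v := by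
  rw [LinearMap.mem_ker, Matrix.mulVecLin_apply, add_mulVec, one_mulVec]
  exact ⟨add_eq_zero_vec, fun h => by rw [h, add_self_vec]⟩

theorem Rep.fixU_le (hρ : Rep ρ) {x : E} :
    fixU ρ ≤ LinearMap.ker (((ρ (upSL x)) : M4) + 1).mulVecLin := fun v hv =>
  (mem_ker_iff _ _).mpr (hv x)

/-- The two-dimensional case: not absolutely irreducible. -/
theorem Rep.not_two [Fintype E] (hρ : Rep ρ) : Module.finrank F (fixU ρ) ≠ 2 := by
  intro h2
  classical
  set W := fixU ρ with hWdef
  set J : M4 := (ρ (swSL 1) : M4) with hJ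
  have hJJ : ∀ v, J *ᵥ (J *ᵥ v) = v := fun v => by
    rw [hJ, rep_two, swSL_mul_self one_ne_zero, rep_one]
  have hker : ∀ x : E, x ≠ 0 → ∀ v, (ρ (upSL x) : M4) *ᵥ v = v → v ∈ W := by
    intro x hx v hv
    obtain ⟨hdim, -, -⟩ := hρ.c2 x hx
    have heq := Submodule.eq_of_le_of_finrank_le (hρ.fixU_le (x := x)) (by rw [hdim, h2])
    show v ∈ fixU ρ
    rw [heq]
    exact (mem_ker_iff _ _).mpr hv
  have hmove : ∀ x v, (ρ (upSL x) : M4) *ᵥ v + v ∈ W := by
    intro x v
    rcases eq_or_ne x 0 with rfl | hx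
    · rw [upSL_zero, rep_one, add_self_vec]; exact W.zero_mem
    refine hker x hx _ ?_
    rw [mulVec_add, rep_two, up_sq, rep_one, add_comm]
  have hWW : ∀ v ∈ W, J *ᵥ v ∈ W → v = 0 := by
    intro v hv hv'
    have hbot := (hρ.invariant (Submodule.span F {v, J *ᵥ v}) (fun x w hw => ?_) (fun w hw => ?_))
    · rcases hbot with h | h
      · have : v ∈ Submodule.span F ({v, J *ᵥ v} : Set V4) := Submodule.subset_span (by simp)
        rwa [h, Submodule.mem_bot] at this
      · exfalso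
        have hle : Submodule.span F ({v, J *ᵥ v} : Set V4) ≤ W := by
          rw [Submodule.span_le]; rintro _ (rfl | rfl) <;> assumption
        rw [h, top_le_iff] at hle
        rw [hle, finrank_top] at h2
        simp at h2
    · obtain ⟨p, q, rfl⟩ := Submodule.mem_span_pair.mp hw
      rw [mulVec_add, mulVec_smul, mulVec_smul, hv x, hv' x]
      exact hw
    · obtain ⟨p, q, rfl⟩ := Submodule.mem_span_pair.mp hw
      rw [← hJ, mulVec_add, mulVec_smul, mulVec_smul, hJJ]
      exact Submodule.mem_span_pair.mpr ⟨q, p, add_comm _ _⟩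
  let Jl : V4 →ₗ[F] V4 := J.mulVecLin
  let S : E → (W →ₗ[F] W) := fun x =>
    LinearMap.codRestrict W ((((ρ (upSL x)) : M4) + 1).mulVecLin ∘ₗ Jl ∘ₗ W.subtype) fun w => by
      show (((ρ (upSL x)) : M4) + 1) *ᵥ (J *ᵥ (w : V4)) ∈ W
      rw [add_mulVec, one_mulVec]
      exact hmove x _
  have hSval : ∀ x (w : W), ((S x w : W) : V4) = (ρ (upSL x) : M4) *ᵥ (J *ᵥ (w : V4)) + J *ᵥ (w : V4) := by
    intro x w
    show (((ρ (upSL x)) : M4) + 1) *ᵥ (J *ᵥ (w : V4)) = _
    rw [add_mulVec, one_mulVec]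
  have huW : ∀ x, ∀ w : W, (ρ (upSL x) : M4) *ᵥ (J *ᵥ (w : V4)) = J *ᵥ (w : V4) + (S x w : V4) := fun x w => by
    rw [hSval, add_left_comm, add_self_vec, add_zero]
  have hlW : ∀ z : E, ∀ w : W, (ρ (loSL z) : M4) *ᵥ (w : V4) = (w : V4) + J *ᵥ (S z w : V4) := by
    intro z w
    rw [← swSL_conj_lo, ← rep_two, ← rep_two, ← hJ, huW, mulVec_add, hJJ]
  -- the exchanging elements
  have hinv : ∀ x : E, x ≠ 0 → ∀ w : W, (S x) ((S x⁻¹) w) = w ∧
      (ρ (swSL x) : M4) *ᵥ (w : V4) = J *ᵥ (S x⁻¹ w : V4) := by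
    intro x hx w
    have hval : (ρ (swSL x) : M4) *ᵥ (w : V4) =
        ((w : V4) + (S x (S x⁻¹ w) : V4)) + J *ᵥ (S x⁻¹ w : V4) := by
      rw [swSL, ← rep_two, ← rep_two, w.2 x, hlW, mulVec_add, w.2 x, huW]
      abel
    -- the exchange carries the fixed space of the upper to that of the lower elements
    have hW' : J *ᵥ ((ρ (swSL x) : M4) *ᵥ (w : V4)) ∈ W := by
      intro z
      rw [hJ, rep_two, rep_two, mul_assoc, show upSL z * (swSL 1 * swSL x) = swSL 1 * swSL x * upSL (x ^ 2 * z) by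
        rw [← swSL_lo hx, ← swSL_conj_lo]
        simp only [mul_assoc]
        rw [← mul_assoc (swSL x) (swSL x), swSL_mul_self hx, one_mul,
          ← mul_assoc (swSL (1 : E)) (swSL 1), swSL_mul_self one_ne_zero, one_mul],
        ← rep_two, w.2, rep_two]
    rw [hval, mulVec_add, hJJ] at hW'
    have hJm : J *ᵥ ((w : V4) + (S x (S x⁻¹ w) : V4)) ∈ W := by
      have := W.sub_mem hW' (S x⁻¹ w).2
      rwa [add_sub_cancel_right] at this
    have hzero := hWW _ (W.add_mem w.2 (S x (S x⁻¹ w)).2) hJm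
    exact ⟨Subtype.ext (add_eq_zero_vec hzero).symm, by rw [hval, hzero, zero_add]⟩
  have hS1 : S 1 = LinearMap.id := by
    refine LinearMap.ext fun w => ?_
    obtain ⟨-, h⟩ := hinv 1 one_ne_zero w
    rw [inv_one, ← hJ] at h
    have := congrArg (J *ᵥ ·) h
    simp only [hJJ] at this
    exact Subtype.ext this.symm
  have hSadd : ∀ a b, S (a + b) = S a + S b := by
    intro a b
    refine LinearMap.ext fun w => Subtype.ext ?_
    rw [LinearMap.add_apply, Submodule.coe_add, hSval (a + b), upSL_add, ← rep_two, huW b, mulVec_add,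
      huW a, (S b w).2 a]
    rw [show (J *ᵥ (w : V4) + (S a w : V4)) + (S b w : V4) + J *ᵥ (w : V4) =
      ((S a w : V4) + (S b w : V4)) + (J *ᵥ (w : V4) + J *ᵥ (w : V4)) by abel, add_self_vec, add_zero]
  have hpow : ∀ (x : E) (n : ℕ), S (x ^ n) = (S x) ^ n :=
    hua_pow (R := Module.End F W) (fun r => LinearMap.ext fun w => Subtype.ext (add_self_vec _)) S hSadd hS1
      (fun a ha => LinearMap.ext fun w => (hinv a ha w).1)
  -- any operator commuting with all is scalar
  have hscal : ∀ C : Module.End F W, (∀ x, C * S x = S x * C) → ∃ c : F, C = c • 1 := by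
    intro C hC
    let comb : (W × W) →ₗ[F] V4 := W.subtype.coprod (Jl ∘ₗ W.subtype)
    have hcomb : ∀ p : W × W, comb p = (p.1 : V4) + J *ᵥ (p.2 : V4) := fun p => rfl
    have hbij : Function.Bijective comb := by
      have hinj : Function.Injective comb := by
        rw [injective_iff_map_eq_zero]
        intro p hp
        rw [hcomb] at hp
        have e := add_eq_zero_vec hp
        have h0 := hWW (p.2 : V4) p.2.2 (e ▸ p.1.2)
        rw [h0, mulVec_zero] at e
        exact Prod.ext (Subtype.ext e) (Subtype.ext h0)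
      refine ⟨hinj, ?_⟩
      have hfr : Module.finrank F (W × W) = Module.finrank F V4 := by
        rw [Module.finrank_prod, h2]; simp
      exact (LinearMap.injective_iff_surjective_of_finrank_eq_finrank hfr).mp hinj
    let e := LinearEquiv.ofBijective comb hbij
    let L : V4 →ₗ[F] V4 := comb ∘ₗ (C.prodMap C) ∘ₗ e.symm.toLinearMap
    have hL : ∀ a b : W, L ((a : V4) + J *ᵥ (b : V4)) = (C a : V4) + J *ᵥ (C b : V4) := by
      intro a b
      have : e.symm ((a : V4) + J *ᵥ (b : V4)) = (a, b) := by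
        rw [LinearEquiv.symm_apply_eq]; rfl
      simp only [L, LinearMap.comp_apply, LinearEquiv.coe_coe, this]
      exact hcomb _
    have hcomm : ∀ g v, L ((ρ g : M4) *ᵥ v) = (ρ g : M4) *ᵥ L v := by
      intro g v
      let H : Subgroup (Matrix.SpecialLinearGroup (Fin 2) E) :=
        { carrier := {g | ∀ v, L ((ρ g : M4) *ᵥ v) = (ρ g : M4) *ᵥ L v}
          one_mem' := fun v => by rw [rep_one, rep_one]
          mul_mem' := fun {a b} ha hb v => by rw [← rep_two, ha, hb, rep_two]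
          inv_mem' := fun {a} ha v => by
            have := ha ((ρ a⁻¹ : M4) *ᵥ v)
            rw [rep_two, mul_inv_cancel, rep_one] at this
            conv_rhs => rw [this, rep_two, inv_mul_cancel, rep_one] }
      have hu : ∀ x, upSL x ∈ H := by
        intro x v
        obtain ⟨⟨a, b⟩, rfl⟩ := hbij.2 v
        have e1 : (ρ (upSL x) : M4) *ᵥ comb (a, b) = ((a + S x b : W) : V4) + J *ᵥ (b : V4) := by
          rw [hcomb, mulVec_add, a.2 x, huW, Submodule.coe_add]; abel
        rw [e1, hL, hcomb, hL, map_add, Submodule.coe_add, mulVec_add, (C a).2 x, huW,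
          ← Module.End.mul_apply, hC x, Module.End.mul_apply]
        abel
      have hsw : swSL (1 : E) ∈ H := by
        intro v
        obtain ⟨⟨a, b⟩, rfl⟩ := hbij.2 v
        rw [hcomb, hL, ← hJ, mulVec_add, mulVec_add, hJJ, hJJ, add_comm _ (b : V4),
          add_comm _ (C b : V4), hL]
      have htop := closure_up_lo H hu (fun x => swSL_conj_lo x ▸ H.mul_mem (H.mul_mem hsw (hu x)) hsw)
      exact (htop ▸ Subgroup.mem_top g : g ∈ H) v
    obtain ⟨c, hc⟩ := hρ.irr.2 (LinearMap.toMatrix' L) (by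
      rintro _ ⟨_, ⟨g, rfl⟩, rfl⟩
      refine Matrix.ext_of_mulVec_single fun i => ?_
      rw [← mulVec_mulVec, ← mulVec_mulVec, LinearMap.toMatrix'_mulVec, LinearMap.toMatrix'_mulVec]
      exact hcomm g _)
    refine ⟨c, LinearMap.ext fun a => Subtype.ext ?_⟩
    have h := hL a 0
    rw [map_zero, Submodule.coe_zero, mulVec_zero, add_zero, add_zero, ← LinearMap.toMatrix'_mulVec,
      hc, smul_mulVec, one_mulVec] at h
    rw [LinearMap.smul_apply, Module.End.one_apply, Submodule.coe_smul]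
    exact h.symm
  obtain ⟨ω, hω⟩ := IsCyclic.exists_generator (α := Eˣ)
  obtain ⟨μ, hμ⟩ := hscal (S (ω : E)) (fun x => by
    rcases eq_or_ne x 0 with rfl | hx
    · have h0 : S 0 = 0 := by
        refine LinearMap.ext fun v => ?_
        have := LinearMap.congr_fun (hSadd 0 0) v
        rw [add_zero, LinearMap.add_apply, left_eq_add] at this
        rwa [LinearMap.zero_apply]
      rw [h0, mul_zero, zero_mul]
    obtain ⟨n, hn⟩ := (mem_powers_iff_mem_zpowers (G := Eˣ)).mpr (hω (Units.mk0 x hx))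
    rw [show x = (ω : E) ^ n by rw [← Units.val_pow_eq_pow_val]; exact (congrArg Units.val hn).symm, hpow]
    exact (Commute.self_pow _ n).eq)
  have hall : ∀ (C : Module.End F W) x, C * S x = S x * C := by
    intro C x
    rcases eq_or_ne x 0 with rfl | hx
    · have h0 : S 0 = 0 := by
        refine LinearMap.ext fun v => ?_
        have := LinearMap.congr_fun (hSadd 0 0) v
        rw [add_zero, LinearMap.add_apply, left_eq_add] at this
        rwa [LinearMap.zero_apply]
      rw [h0, mul_zero, zero_mul]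
    obtain ⟨n, hn⟩ := (mem_powers_iff_mem_zpowers (G := Eˣ)).mpr (hω (Units.mk0 x hx))
    rw [show x = (ω : E) ^ n by rw [← Units.val_pow_eq_pow_val]; exact (congrArg Units.val hn).symm, hpow, hμ,
      smul_pow, one_pow, mul_smul_comm, smul_mul_assoc, mul_one, one_mul]
  let B := Module.finBasisOfFinrankEq F W h2
  obtain ⟨c, hc⟩ := hscal (B.constr F ![B 0, 0]) (fun x => hall _ x)
  have e0 := congrArg (fun C : Module.End F W => B.repr (C (B 0)) 0) hc
  have e1 := congrArg (fun C : Module.End F W => B.repr (C (B 1)) 1) hc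
  simp [Module.Basis.constr_basis] at e0 e1
  exact one_ne_zero (e0.trans e1.symm)

/-- Coordinates along a hyperbolic pair. -/
theorem pair_decomp {l y : V4} (hly : altForm4 l y = 1) (v : V4) :
    altForm4 l (v + (altForm4 v y • l + altForm4 v l • y)) = 0 ∧
      altForm4 y (v + (altForm4 v y • l + altForm4 v l • y)) = 0 := by
  simp [f_add_right, f_smul_right, f_self, hly, f_comm y l, f_comm l v, f_comm y v, CharTwo.add_self_eq_zero]

/-- The one-dimensional case: an invariant quadratic form. -/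
theorem Rep.quad [Fintype E] [Finite F] (hρ : Rep ρ) (h2 : Module.finrank F (fixU ρ) ≠ 2) :
    ∃ Q : V4 → F, IsNondegenerateQuadraticForm Q ∧ FixesQuadForm (matrixSet ρ.range) Q := by
  classical
  haveI : Fintype F := Fintype.ofFinite F
  set J : M4 := (ρ (swSL 1) : M4) with hJ
  have hJJ : ∀ v, J *ᵥ (J *ᵥ v) = v := fun v => by
    rw [hJ, rep_two, swSL_mul_self one_ne_zero, rep_one]
  have hf : ∀ g u v, altForm4 ((ρ g : M4) *ᵥ u) ((ρ g : M4) *ᵥ v) = altForm4 u v := fun g u v => f_map (hρ.sp g) u v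
  have hJf : ∀ u v, altForm4 (J *ᵥ u) (J *ᵥ v) = altForm4 u v := fun u v => hf _ u v
  -- the fixed line
  obtain ⟨hd1, -, δ, hδ0, -, -, hδc⟩ := hρ.c2 1 one_ne_zero
  have hδW : δ ∈ fixU ρ := fun x => (hδc _ (hρ.sp _) (by rw [← map_mul, ← map_mul, upSL_comm])).2
  have hone : fixU ρ = Submodule.span F {δ} := by
    refine (Submodule.eq_of_le_of_finrank_le ?_ ?_).symm
    · rw [Submodule.span_le, Set.singleton_subset_iff]; exact hδW
    · rw [finrank_span_singleton hδ0]
      have := Submodule.finrank_mono (hρ.fixU_le (x := 1))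
      rw [hd1] at this
      omega
  have hN : ∀ x v, altForm4 δ v = 0 → ∃ c : F, (ρ (upSL x) : M4) *ᵥ v = v + c • δ := by
    intro x v hv
    rcases eq_or_ne x 0 with rfl | hx
    · exact ⟨0, by rw [upSL_zero, rep_one, zero_smul, add_zero]⟩
    obtain ⟨-, -, δx, hδx0, -, hδxN, hδxc⟩ := hρ.c2 x hx
    have hmem : δx ∈ fixU ρ := fun z => (hδxc _ (hρ.sp _) (by rw [← map_mul, ← map_mul, upSL_comm])).2
    rw [hone, Submodule.mem_span_singleton] at hmem
    obtain ⟨s, rfl⟩ := hmem
    obtain ⟨c, hc⟩ := hδxN v (by rw [f_smul_left, hv, mul_zero])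
    rw [add_mulVec, one_mulVec, smul_smul] at hc
    exact ⟨c * s, by rw [← hc, add_left_comm, add_self_vec, add_zero]⟩
  have hδδ : altForm4 δ (J *ᵥ δ) ≠ 0 := by
    intro h0
    have hbot := (hρ.invariant (Submodule.span F {δ, J *ᵥ δ}) (fun x w hw => ?_) (fun w hw => ?_))
    rcases hbot with h | h
    · have : δ ∈ Submodule.span F ({δ, J *ᵥ δ} : Set V4) := Submodule.subset_span (by simp)
      rw [h, Submodule.mem_bot] at this
      exact hδ0 this
    · have hx : ∀ w, altForm4 δ w = 0 := fun w => by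
        obtain ⟨p, q, rfl⟩ := Submodule.mem_span_pair.mp (h ▸ Submodule.mem_top : w ∈ Submodule.span F ({δ, J *ᵥ δ} : Set V4))
        rw [f_add_right, f_smul_right, f_smul_right, f_self, h0, mul_zero, mul_zero, add_zero]
      exact hδ0 (f_nondeg hx)
    · obtain ⟨p, q, rfl⟩ := Submodule.mem_span_pair.mp hw
      obtain ⟨c, hc⟩ := hN x _ h0
      rw [mulVec_add, mulVec_smul, mulVec_smul, hδW x, hc]
      refine Submodule.mem_span_pair.mpr ⟨p + q * c, q, ?_⟩
      rw [smul_add, smul_smul, add_smul]; abel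
    · obtain ⟨p, q, rfl⟩ := Submodule.mem_span_pair.mp hw
      rw [← hJ, mulVec_add, mulVec_smul, mulVec_smul, hJJ]
      exact Submodule.mem_span_pair.mpr ⟨q, p, add_comm _ _⟩
  -- a normalised pair
  obtain ⟨l₀, y₀, hl₀, hJl₀, hly₀⟩ : ∃ l y : V4, l = δ ∧ (∃ κ : F, J *ᵥ l = κ • y) ∧ altForm4 l y = 1 :=
    ⟨δ, (altForm4 δ (J *ᵥ δ))⁻¹ • (J *ᵥ δ), rfl, ⟨altForm4 δ (J *ᵥ δ), by rw [smul_smul, mul_inv_cancel₀ hδδ, one_smul]⟩,
      by rw [f_smul_right, inv_mul_cancel₀ hδδ]⟩
  obtain ⟨κ₀, hκ₀⟩ := hJl₀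
  have hκ00 : κ₀ ≠ 0 := fun h => hδ0 (by rw [← hl₀, ← hJJ l₀, hκ₀, h, zero_smul, mulVec_zero])
  -- the scaling
  obtain ⟨s, hs⟩ := exists_sqrt κ₀⁻¹
  have hs0 : s ≠ 0 := fun h => by
    rw [h, zero_pow two_ne_zero] at hs; exact inv_ne_zero hκ00 hs.symm
  obtain ⟨l, hl⟩ : ∃ l, l = s • l₀ := ⟨_, rfl⟩
  obtain ⟨y, hy⟩ : ∃ y, y = s⁻¹ • y₀ := ⟨_, rfl⟩
  have hly : altForm4 l y = 1 := by
    rw [hl, hy, f_smul_left, f_smul_right, hly₀, mul_one, mul_inv_cancel₀ hs0]
  have hJl : J *ᵥ l = y := by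
    rw [hl, hy, mulVec_smul, hκ₀, smul_smul]
    congr 1
    field_simp
    rw [hs, inv_mul_cancel₀ hκ00]
  have hJy : J *ᵥ y = l := by rw [← hJl, hJJ]
  have hul : ∀ x, (ρ (upSL x) : M4) *ᵥ l = l := fun x => by rw [hl, mulVec_smul, hl₀, hδW x]
  have hlo : ∀ x v, (ρ (loSL x) : M4) *ᵥ v = J *ᵥ ((ρ (upSL x) : M4) *ᵥ (J *ᵥ v)) := fun x v => by
    rw [← swSL_conj_lo, hJ, rep_two, rep_two, mul_assoc]
  -- the coordinates
  let c : E → F := fun x => altForm4 ((ρ (upSL x) : M4) *ᵥ y) y
  let a : E → V4 := fun x => (ρ (upSL x) : M4) *ᵥ y + y + c x • l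
  have huy : ∀ x, (ρ (upSL x) : M4) *ᵥ y = y + a x + c x • l := fun x => by
    simp only [a]
    rw [show y + ((ρ (upSL x) : M4) *ᵥ y + y + c x • l) + c x • l =
      (ρ (upSL x) : M4) *ᵥ y + (y + y) + (c x • l + c x • l) by abel, add_self_vec, add_self_vec,
      add_zero, add_zero]
  have hla : ∀ x, altForm4 l (a x) = 0 := fun x => by
    have h1 : altForm4 l ((ρ (upSL x) : M4) *ᵥ y) = 1 := by
      conv_lhs => rw [← hul x]
      rw [hf, hly]
    simp [a, f_add_right, f_smul_right, f_self, h1, hly, CharTwo.add_self_eq_zero]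
  have hya : ∀ x, altForm4 y (a x) = 0 := fun x => by
    simp only [a, c, f_add_right, f_smul_right, f_self, add_zero]
    rw [f_comm y l, hly, mul_one, f_comm y, CharTwo.add_self_eq_zero]
  have hum : ∀ x m, altForm4 l m = 0 → altForm4 y m = 0 →
      (ρ (upSL x) : M4) *ᵥ m = m + altForm4 (a x) m • l := by
    intro x m hlm hym
    obtain ⟨k, hk⟩ := hN x m (by
      have : altForm4 δ m = s⁻¹ * altForm4 l m := by
        rw [hl, hl₀, f_smul_left, ← mul_assoc, inv_mul_cancel₀ hs0, one_mul]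
      rw [this, hlm, mul_zero])
    have hδl : k • δ = (k / s) • l := by rw [hl, hl₀, smul_smul, div_mul_cancel₀ _ hs0]
    rw [hk, hδl]
    have h0 := hf (upSL x) m y
    rw [hk, hδl, huy, f_comm m y, hym] at h0
    simp only [f_add_left, f_add_right, f_smul_left, f_smul_right, f_self, hly, hla x, f_comm m l,
      f_comm m y, hlm, hym, mul_zero, zero_add, add_zero, mul_one] at h0
    congr 2
    rw [f_comm (a x) m]
    linear_combination h0 - (altForm4 m (a x)) * two0 (F := F)
  have hlm : ∀ x m, altForm4 l m = 0 → altForm4 y m = 0 →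
      (ρ (loSL x) : M4) *ᵥ m = m + altForm4 (J *ᵥ a x) m • y := by
    intro x m hlm hym
    have e1 : altForm4 l (J *ᵥ m) = 0 := by rw [← hJy, hJf, hym]
    have e2 : altForm4 y (J *ᵥ m) = 0 := by rw [← hJl, hJf, hlm]
    rw [hlo, hum x _ e1 e2, mulVec_add, hJJ, mulVec_smul, hJl]
    congr 2
    conv_lhs => rw [← hJf, hJJ]
  have hll : ∀ x, (ρ (loSL x) : M4) *ᵥ l = l + J *ᵥ a x + c x • y := fun x => by
    rw [hlo, hJl, huy, mulVec_add, mulVec_add, mulVec_smul, hJl, hJy]
  -- the exchange relations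
  have hrel : ∀ x, x ≠ 0 → c x ≠ 0 ∧ c x⁻¹ = (c x)⁻¹ ∧ J *ᵥ a x⁻¹ = (c x)⁻¹ • a x ∧
      (ρ (swSL x) : M4) *ᵥ y = c x • l := by
    intro x hx
    have hW' : (ρ (swSL x) : M4) *ᵥ y ∈ fixU ρ := by
      intro z
      rw [rep_two, show upSL z * swSL x = swSL x * loSL (z / x ^ 2) by
        rw [← swSL_up hx, mul_assoc, ← mul_assoc, ← mul_assoc, swSL_mul_self hx, one_mul], ← rep_two]
      congr 1
      rw [hlo, hJy, hul, hJl]
    rw [hone, Submodule.mem_span_singleton] at hW'
    obtain ⟨k, hk⟩ := hW'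
    have hk' : (ρ (swSL x) : M4) *ᵥ y = (k / s) • l := by
      rw [← hk, hl, hl₀, smul_smul, div_mul_cancel₀ _ hs0]
    set k' := k / s
    have hk0 : k' ≠ 0 := fun h => by
      have := congrArg (fun v => (ρ (swSL x) : M4) *ᵥ v) hk'
      simp only [h, zero_smul, mulVec_zero, rep_two, swSL_mul_self hx, rep_one] at this
      rw [this, f_zero_right] at hly
      exact zero_ne_one hly
    have key : (ρ (loSL x⁻¹) : M4) *ᵥ ((ρ (upSL x) : M4) *ᵥ y) = k' • l := by
      have := congrArg (fun v => (ρ (upSL x) : M4) *ᵥ v) hk'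
      simp only [mulVec_smul, hul, rep_two] at this
      rw [rep_two, ← this, swSL]
      congr 2
      rw [← mul_assoc, ← mul_assoc, up_sq, one_mul]
    rw [huy, mulVec_add, mulVec_add, mulVec_smul, hll, hlm _ _ (hla x) (hya x)] at key
    have hfix : (ρ (loSL x⁻¹) : M4) *ᵥ y = y := by rw [hlo, hJy, hul, hJl]
    rw [hfix] at key
    have hla' : altForm4 l (J *ᵥ a x⁻¹) = 0 := by rw [← hJy, hJf, hya]
    have hya' : altForm4 y (J *ᵥ a x⁻¹) = 0 := by rw [← hJl, hJf, hla]
    have e1 := congrArg (altForm4 y) key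
    simp only [f_add_right, f_smul_right, f_self, hya x, hya', f_comm y l, hly, mul_zero, zero_add,
      add_zero, mul_one] at e1
    have e2 := congrArg (altForm4 l) key
    simp only [f_add_right, f_smul_right, f_self, hla x, hla', hly, mul_zero, zero_add, add_zero,
      mul_one] at e2
    have hc0 : c x ≠ 0 := e1 ▸ hk0
    have hvec : a x + c x • (J *ᵥ a x⁻¹) = 0 := by
      have h0 : (1 + altForm4 (J *ᵥ a x⁻¹) (a x) + c x * c x⁻¹) • y +
          (a x + c x • (J *ᵥ a x⁻¹)) + c x • l = k' • l := by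
        rw [← key]
        simp only [smul_add, smul_smul, add_smul, one_smul]
        abel
      rw [show (1 : F) + altForm4 (J *ᵥ a x⁻¹) (a x) + c x * c x⁻¹ = 0 by linear_combination e2,
        zero_smul, zero_add, ← e1] at h0
      exact add_right_cancel (h0.trans (zero_add _).symm)
    have hJa : J *ᵥ a x⁻¹ = (c x)⁻¹ • a x := by
      rw [add_eq_zero_vec hvec, smul_smul, inv_mul_cancel₀ hc0, one_smul]
    refine ⟨hc0, ?_, hJa, by rw [hk', ← e1]⟩
    rw [hJa, f_smul_left, f_self, mul_zero, add_zero] at e2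
    refine eq_inv_of_mul_eq_one_right (CharTwo.add_eq_zero.mp ?_).symm
    linear_combination e2
  have hc1 : c 1 = 1 := by
    obtain ⟨-, -, -, h⟩ := hrel 1 one_ne_zero
    rw [← hJ, hJy] at h
    have := congrArg (altForm4 y) h
    rwa [f_smul_right, f_comm y l, hly, mul_one, eq_comm] at this
  have ha1 : a 1 ≠ 0 := by
    intro h0
    have hle : Module.finrank F (LinearMap.ker ((altForm4Lin l))) ≤ 2 := by
      refine hd1 ▸ Submodule.finrank_mono ?_
      intro v hv
      rw [mem_ker_iff]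
      obtain ⟨e1, e2⟩ := pair_decomp hly v
      have hv' : altForm4 v l = 0 := by rw [f_comm]; exact hv
      rw [hv', zero_smul, add_zero] at e1 e2
      have hdec : v = (v + altForm4 v y • l) + altForm4 v y • l := by
        rw [add_assoc, add_self_vec, add_zero]
      conv_lhs => rw [hdec, mulVec_add, mulVec_smul, hul, hum 1 _ e1 e2, h0, f_zero_left, zero_smul, add_zero]
      exact hdec.symm
    have h3 : 3 ≤ Module.finrank F (LinearMap.ker (altForm4Lin l)) := by
      have h := (altForm4Lin l).finrank_range_add_finrank_ker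
      have : Module.finrank F (LinearMap.range (altForm4Lin l)) ≤ 1 :=
        (Submodule.finrank_le _).trans (Module.finrank_self F).le
      simp at h
      omega
    omega
  -- the group law and the conjugation law
  have hadd : ∀ x z, a (x + z) = a x + a z ∧ c (x + z) = c x + c z + altForm4 (a x) (a z) := by
    intro x z
    have h : y + a (x + z) + c (x + z) • l =
        y + (a x + a z) + (c x + c z + altForm4 (a x) (a z)) • l := by
      rw [← huy, upSL_add, ← rep_two, huy z, mulVec_add, mulVec_add, mulVec_smul, hul, huy x,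
        hum x _ (hla z) (hya z)]
      simp only [add_smul]
      abel
    have hc := congrArg (altForm4 y) h
    simp only [f_add_right, f_smul_right, f_self, hya, f_comm y l, hly, mul_one, zero_add, add_zero] at hc
    rw [hc] at h
    exact ⟨add_left_cancel (add_right_cancel h), hc⟩
  have hconj : ∀ x z, x ≠ 0 → z ≠ 0 →
      a (x ^ 2 / z) = (c x / c z) • (a z + (altForm4 (a x) (a z) / c x) • a x) ∧
        c (x ^ 2 / z) = c x ^ 2 / c z := by
    intro x z hx hz
    obtain ⟨hcx, hcx', hax, hwx⟩ := hrel x hx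
    obtain ⟨hcz, hcz', haz, -⟩ := hrel z hz
    have hwl : (ρ (swSL x) : M4) *ᵥ l = (c x)⁻¹ • y := by
      have := congrArg (fun v => (c x)⁻¹ • ((ρ (swSL x) : M4) *ᵥ v)) hwx
      simp only [mulVec_smul, rep_two, swSL_mul_self hx, rep_one, smul_smul, inv_mul_cancel₀ hcx,
        one_smul] at this
      exact this.symm
    have hwm : (ρ (swSL x) : M4) *ᵥ a z = a z + (altForm4 (a x) (a z) / c x) • a x := by
      have hfy : (ρ (loSL x⁻¹) : M4) *ᵥ y = y := by rw [hlo, hJy, hul, hJl]
      have e : (ρ (loSL x⁻¹) : M4) *ᵥ (a z + altForm4 (a x) (a z) • l) =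
          a z + (altForm4 (a x) (a z) / c x) • a x + altForm4 (a x) (a z) • l := by
        rw [mulVec_add, mulVec_smul, hll, hlm _ _ (hla z) (hya z), hax, hcx', f_smul_left]
        ext i
        simp
        linear_combination (norm := skip) (0 : F) * two0 (F := F)
        ring_nf
        simp [two0]
      rw [swSL, ← rep_two, ← rep_two, hum x _ (hla z) (hya z), e, mulVec_add, mulVec_add, mulVec_smul,
        mulVec_smul, hul, hum x _ (hla z) (hya z), hum x _ (hla x) (hya x), f_self, zero_smul, add_zero]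
      ext i
      simp
      linear_combination (norm := skip) (0 : F) * two0 (F := F)
      ring_nf
      simp [two0]
    have h : (ρ (upSL (x ^ 2 / z)) : M4) *ᵥ y = y + ((c x / c z) • (a z + (altForm4 (a x) (a z) / c x) • a x)) +
        (c x ^ 2 / c z) • l := by
      rw [div_eq_mul_inv (x ^ 2) z, ← swSL_lo hx, ← rep_two, hwx, mulVec_smul, ← rep_two, hll, haz, hcz',
        mulVec_add, mulVec_add, mulVec_smul, mulVec_smul, hwl, hwm, hwx]
      ext i
      simp
      field_simp
    rw [huy] at h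
    have hc := congrArg (altForm4 y) h
    simp only [f_add_right, f_smul_right, f_self, hya, f_comm y l, hly, mul_one, mul_zero, zero_add,
      add_zero] at hc
    rw [hc] at h
    exact ⟨add_left_cancel (add_right_cancel h), hc⟩
  -- the quadratic form with given values at four vectors
  have hvals : ∀ (w : V4), altForm4 l w = 0 → altForm4 y w = 0 → altForm4 (a 1) w = 1 → ∀ r : F,
      ∃ Q : V4 → F, (∀ (k : F) v, Q (k • v) = k ^ 2 * Q v) ∧
        (∀ u v, Q (u + v) = Q u + Q v + altForm4 u v) ∧ Q l = 0 ∧ Q y = 0 ∧ Q (a 1) = 1 ∧ Q w = r := by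
    intro w hw1 hw2 hw3 r
    let Q₀ : V4 → F := fun v => v 0 * v 3 + v 1 * v 2
    obtain ⟨r1, e1⟩ := exists_sqrt (Q₀ l)
    obtain ⟨r2, e2⟩ := exists_sqrt (Q₀ y)
    obtain ⟨r3, e3⟩ := exists_sqrt (Q₀ (a 1) + 1)
    obtain ⟨r4, e4⟩ := exists_sqrt (Q₀ w + r)
    set b : V4 := r1 • y + r2 • l + r3 • w + r4 • a 1
    have hbl : altForm4 b l = r1 := by
      simp [b, f_add_left, f_smul_left, f_self, f_comm y l, hly, f_comm w l, hw1, f_comm (a 1) l, hla]
    have hby : altForm4 b y = r2 := by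
      simp [b, f_add_left, f_smul_left, f_self, hly, f_comm w y, hw2, f_comm (a 1) y, hya]
    have hba : altForm4 b (a 1) = r3 := by
      simp [b, f_add_left, f_smul_left, f_self, hya, hla, f_comm w (a 1), hw3]
    have hbw : altForm4 b w = r4 := by
      simp [b, f_add_left, f_smul_left, f_self, hw1, hw2, hw3]
    refine ⟨fun v => Q₀ v + altForm4 b v ^ 2, fun k v => ?_, fun u v => ?_, ?_, ?_, ?_, ?_⟩
    · simp [Q₀, f_smul_right]; ring
    · simp only [Q₀, f_add_right, Pi.add_apply]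
      simp only [altForm4]
      linear_combination (norm := skip) (0 : F) * two0 (F := F)
      ring_nf
      simp [two0]
    · simp only [hbl, e1, CharTwo.add_self_eq_zero]
    · simp only [hby, e2, CharTwo.add_self_eq_zero]
    · simp only [hba, e3]; rw [← add_assoc, CharTwo.add_self_eq_zero, zero_add]
    · simp only [hbw, e4]; rw [← add_assoc, CharTwo.add_self_eq_zero, zero_add]
  -- a complement vector of the first
  obtain ⟨w₀, hw₀1, hw₀2, hw₀3⟩ : ∃ w, altForm4 l w = 0 ∧ altForm4 y w = 0 ∧ altForm4 (a 1) w = 1 := by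
    obtain ⟨v, hv⟩ := exists_pair ha1
    refine ⟨(altForm4 (a 1) v)⁻¹ • (v + (altForm4 v y • l + altForm4 v l • y)), ?_, ?_, ?_⟩
    · rw [f_smul_right, (pair_decomp hly v).1, mul_zero]
    · rw [f_smul_right, (pair_decomp hly v).2, mul_zero]
    · rw [f_smul_right, f_add_right, f_add_right, f_smul_right, f_smul_right, f_comm (a 1) l,
        f_comm (a 1) y, hla, hya, mul_zero, mul_zero, add_zero, add_zero, inv_mul_cancel₀ hv]
  -- the generator
  obtain ⟨ω, hω⟩ := IsCyclic.exists_generator (α := Eˣ)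
  have hω0 : (ω : E) ≠ 0 := ω.ne_zero
  set α := altForm4 (a ω) w₀
  set β := altForm4 (a 1) (a ω)
  obtain ⟨hmd1, hmd2⟩ : (∀ m, altForm4 l m = 0 → altForm4 y m = 0 →
      m = altForm4 m w₀ • a 1 + altForm4 (a 1) m • w₀) ∧ True := by
    refine ⟨fun m h1 h2 => add_eq_zero_vec ?_, trivial⟩
    refine eq_zero_of_pairs hly hw₀3 (hla 1) hw₀1 (hya 1) hw₀2 ?_ ?_ ?_ ?_
    · simp [f_add_right, f_smul_right, h1, hla, hw₀1]
    · simp [f_add_right, f_smul_right, h2, hya, hw₀2]
    · simp [f_add_right, f_smul_right, f_self, hw₀3, CharTwo.add_self_eq_zero]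
    · simp [f_add_right, f_smul_right, f_self, f_comm w₀ (a 1), hw₀3, f_comm w₀ m, CharTwo.add_self_eq_zero]
  have haω : a ω = α • a 1 + β • w₀ := hmd1 _ (hla _) (hya _)
  obtain ⟨r, hr⟩ : ∃ r : F, β ≠ 0 → α ^ 2 + β ^ 2 * r + α * β = c ω := by
    refine ⟨(c ω + α ^ 2 + α * β) / β ^ 2, fun hβ => ?_⟩
    field_simp
    linear_combination (α ^ 2 + α * β) * two0 (F := F)
  obtain ⟨Q, hQs, hQadd, hQl, hQy, hQa1, hQw⟩ := hvals w₀ hw₀1 hw₀2 hw₀3 r
  have hQ0 : Q 0 = 0 := by simpa using hQs 0 0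
  have ha0 : a 0 = 0 ∧ c 0 = 0 := by
    constructor <;> simp [a, c, upSL_zero, rep_one, f_self, add_self_vec]
  let G : Set E := {z | Q (a z) = c z}
  have G1 : (1 : E) ∈ G := by show Q (a 1) = c 1; rw [hQa1, hc1]
  have G0 : (0 : E) ∈ G := by show Q (a 0) = c 0; rw [ha0.1, ha0.2, hQ0]
  have Gadd : ∀ x ∈ G, ∀ z ∈ G, x + z ∈ G := by
    intro x hx z hz
    show Q (a (x + z)) = c (x + z)
    rw [(hadd x z).1, (hadd x z).2, hQadd, hx, hz]
  have Gdiv : ∀ x ∈ G, ∀ z ∈ G, x ^ 2 / z ∈ G := by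
    intro x hx z hz
    rcases eq_or_ne x 0 with rfl | hx0
    · simpa using G0
    rcases eq_or_ne z 0 with rfl | hz0
    · simpa using G0
    obtain ⟨hcx, -⟩ := hrel x hx0
    obtain ⟨hcz, -⟩ := hrel z hz0
    show Q (a (x ^ 2 / z)) = c (x ^ 2 / z)
    rw [(hconj x z hx0 hz0).1, (hconj x z hx0 hz0).2, hQs, hQadd, hQs, hx, hz, f_smul_right,
      f_comm (a z) (a x)]
    field_simp
    linear_combination (altForm4 (a x) (a z) ^ 2) * two0 (F := F)
  have Gfield : ∀ x ∈ G, ∀ z ∈ G, x * z ∈ G := by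
    have hsq : ∀ x ∈ G, x ^ 2 ∈ G := fun x hx => by simpa using Gdiv x hx 1 G1
    have hinv : ∀ x ∈ G, x⁻¹ ∈ G := fun x hx => by simpa using Gdiv 1 G1 x hx
    have hroot : ∀ x ∈ G, ∃ u ∈ G, u ^ 2 = x := by
      intro x hx
      have hinj : Function.Injective fun u : G => (⟨(u : E) ^ 2, hsq _ u.2⟩ : G) := fun u v h =>
        Subtype.ext (sq_inj (F := E) (congrArg Subtype.val h))
      obtain ⟨⟨u, hu⟩, hu'⟩ := (Finite.injective_iff_surjective.mp hinj) ⟨x, hx⟩
      exact ⟨u, hu, congrArg Subtype.val hu'⟩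
    intro x hx z hz
    obtain ⟨u, hu, rfl⟩ := hroot x hx
    simpa using Gdiv u hu _ (hinv z hz)
  have Gω : (ω : E) ∈ G := by
    by_cases hβ : β = 0
    · have hω2 : ((ω : E) ^ 2) ∈ G := by
        have h := hconj ω 1 hω0 one_ne_zero
        rw [div_one] at h
        show Q (a ((ω : E) ^ 2)) = c ((ω : E) ^ 2)
        rw [h.1, h.2, hc1, div_one, div_one, haω, hβ, zero_smul, add_zero, f_smul_left, f_self,
          mul_zero, zero_div, zero_smul, add_zero, hQs, hQa1, mul_one]
      have hev : Even (Fintype.card E) := by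
        obtain ⟨n, -, hn⟩ := FiniteField.card E 2
        rw [hn]; exact Nat.even_pow.mpr ⟨even_two, n.ne_zero⟩
      obtain ⟨k, hk⟩ := hev
      have : ∀ n : ℕ, ((ω : E) ^ 2) ^ n ∈ G := by
        intro n
        induction n with
        | zero => simpa using G1
        | succ n ih => rw [pow_succ]; exact Gfield _ ih _ hω2
      have h2 := this k
      rwa [← pow_mul, show 2 * k = Fintype.card E by omega, FiniteField.pow_card] at h2
    · show Q (a ω) = c ω
      rw [haω, hQadd, hQs, hQs, hQa1, hQw, f_smul_left, f_smul_right, hw₀3, mul_one, mul_one, hr hβ]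
  have hG : ∀ z, z ∈ G := by
    intro z
    rcases eq_or_ne z 0 with rfl | hz
    · exact G0
    obtain ⟨n, hn⟩ := (mem_powers_iff_mem_zpowers (G := Eˣ)).mpr (hω (Units.mk0 z hz))
    rw [show z = (ω : E) ^ n by rw [← Units.val_pow_eq_pow_val]; exact (congrArg Units.val hn).symm]
    clear hn
    induction n with
    | zero => simpa using G1
    | succ n ih => rw [pow_succ]; exact Gfield _ ih _ Gω
  -- invariance
  have hQinv : ∀ x v, Q ((ρ (upSL x) : M4) *ᵥ v) = Q v ∧ Q ((ρ (loSL x) : M4) *ᵥ v) = Q v := by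
    intro x v
    obtain ⟨m, p, q, hv, e1, e2⟩ : ∃ (m : V4) (p q : F), v = m + (p • l + q • y) ∧
        altForm4 l m = 0 ∧ altForm4 y m = 0 :=
      ⟨_, _, _, by rw [add_assoc, add_self_vec, add_zero], pair_decomp hly v⟩
    constructor
    · rw [hv, mulVec_add, mulVec_add, mulVec_smul, mulVec_smul, hul, huy, hum x m e1 e2]
      simp only [hQadd, hQs, hQl, hQy, f_add_left, f_add_right, f_smul_left, f_smul_right, f_self,
        f_comm m l, f_comm m y, e1, e2, hla, hya, hly, f_comm y l, f_comm (a x) l, f_comm (a x) y,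
        f_comm m (a x)]
      have hGx : Q (a x) = c x := hG x
      linear_combination (norm := skip) (q ^ 2) * hGx
      ring_nf
      simp [two0]
    · have hfy : (ρ (loSL x) : M4) *ᵥ y = y := by rw [hlo, hJy, hul, hJl]
      have hQJ : Q (J *ᵥ a x) = c x := by
        rcases eq_or_ne x 0 with rfl | hx
        · rw [ha0.1, mulVec_zero, hQ0, ha0.2]
        obtain ⟨hcx, hcx', hax, -⟩ := hrel x⁻¹ (inv_ne_zero hx)
        rw [inv_inv] at hax hcx'
        rw [hax, hQs, (hG x⁻¹ : Q (a x⁻¹) = c x⁻¹), hcx']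
        field_simp
      have hla' : altForm4 l (J *ᵥ a x) = 0 := by rw [← hJy, hJf, hya]
      have hya' : altForm4 y (J *ᵥ a x) = 0 := by rw [← hJl, hJf, hla]
      rw [hv, mulVec_add, mulVec_add, mulVec_smul, mulVec_smul, hfy, hll, hlm x m e1 e2]
      simp only [hQadd, hQs, hQl, hQy, f_add_left, f_add_right, f_smul_left, f_smul_right, f_self,
        f_comm m l, f_comm m y, e1, e2, hla', hya', hly, f_comm y l, f_comm (J *ᵥ a x) l,
        f_comm (J *ᵥ a x) y, hQJ, f_comm m (J *ᵥ a x)]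
      linear_combination (norm := skip) (0 : F) * two0 (F := F)
      ring_nf
      simp [two0]
  refine ⟨Q, ⟨hQs, ?_, ?_⟩, ?_⟩
  · have hp : QuadraticMap.polar Q = altForm4 := by
      funext u v
      rw [QuadraticMap.polar, hQadd]; ring
    rw [hp]
    exact ⟨f_add_left, f_smul_left, fun v x y => f_add_right v x y, f_smul_right⟩
  · have hp : QuadraticMap.polar Q = altForm4 := by
      funext u v
      rw [QuadraticMap.polar, hQadd]; ring
    rw [hp]
    intro v hv
    obtain ⟨x, hx⟩ := exists_pair hv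
    exact ⟨⟨x, by rwa [f_comm]⟩, ⟨x, hx⟩⟩
  · rintro _ ⟨_, ⟨g, rfl⟩, rfl⟩
    let H : Subgroup (Matrix.SpecialLinearGroup (Fin 2) E) :=
      { carrier := {g | ∀ v, Q ((ρ g : M4) *ᵥ v) = Q v}
        one_mem' := fun v => by rw [rep_one]
        mul_mem' := fun {a b} ha hb v => by rw [← rep_two, ha, hb]
        inv_mem' := fun {a} ha v => by
          have := ha ((ρ a⁻¹ : M4) *ᵥ v)
          rw [rep_two, mul_inv_cancel, rep_one] at this
          exact this.symm }
    have := closure_up_lo H (fun x v => (hQinv x v).1) (fun x v => (hQinv x v).2)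
    exact (this ▸ Subgroup.mem_top g : g ∈ H)

/-- Such a group fixes a quadratic form. -/
theorem Rep.exists_quad [Fintype E] [Finite F] (hρ : Rep ρ) :
    ∃ Q : V4 → F, IsNondegenerateQuadraticForm Q ∧ FixesQuadForm (matrixSet ρ.range) Q :=
  hρ.quad hρ.not_two

end Cfsg.Agent.H97.SpEven
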