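import Cfsg.Agent.H97.SpEven.Plane
import Cfsg.Agent.H56.CTwoAb.Small
import Cfsg.Agent.S0494

/-!
Facts about small projective special linear groups.
-/

set_option autoImplicit false
set_option linter.unusedSectionVars false
set_option linter.style.haveILetI false
set_option linter.unusedSimpArgs false

namespace Cfsg.Agent.H97.SpEven

open Matrix Cfsg.Agent.Linear Cfsg.Agent.Linear.Dickson

/-- In characteristic two the special and projective special groups of degree two agree. -/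
noncomputable def slEquiv (F : Type*) [Field F] [Fintype F] [CharP F 2] :
    Matrix.SpecialLinearGroup (Fin 2) F ≃* Matrix.ProjectiveSpecialLinearGroup (Fin 2) F :=
  MulEquiv.ofBijective proj ⟨proj_inj, fun x => QuotientGroup.mk_surjective x⟩

theorem two_sq {F : Type*} [Field F] [Fintype F] {p : ℕ} [Fact p.Prime] (hF : Fintype.card F = p)
    (h8 : p % 8 = 1 ∨ p % 8 = 7) : ∃ a : F, a ^ 2 = 2 := by
  haveI : CharP F p := charP_of_card_eq_prime hF
  obtain ⟨b, hb⟩ := (ZMod.exists_sq_eq_two_iff (p := p) (by omega)).mpr h8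
  refine ⟨ZMod.castHom dvd_rfl F b, ?_⟩
  rw [sq, ← map_mul, ← hb, map_ofNat]

theorem prime_element {F : Type*} [Field F] [Fintype F] {p : ℕ} (hp : p.Prime) (hF : Fintype.card F = p)
    (h7 : 7 ≤ p) {k : ℕ} (hk : p = 2 ^ k + 1 ∨ p + 1 = 2 ^ k) :
    ∃ g h : Matrix.ProjectiveSpecialLinearGroup (Fin 2) F, g ^ p = 1 ∧ g ≠ 1 ∧ h * g * h⁻¹ = g ^ 2 := by
  haveI : Fact p.Prime := ⟨hp⟩
  haveI : CharP F p := charP_of_card_eq_prime hF
  have h8 : p % 8 = 1 ∨ p % 8 = 7 := by
    have hk3 : 3 ≤ k := by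
      by_contra hlt
      have : 2 ^ k ≤ 2 ^ 2 := Nat.pow_le_pow_right (by omega) (by omega)
      omega
    obtain ⟨j, rfl⟩ : ∃ j, k = j + 3 := ⟨k - 3, by omega⟩
    rw [pow_add] at hk
    omega
  obtain ⟨a, ha⟩ := two_sq hF h8
  have ha0 : a ≠ 0 := by
    intro h
    rw [h, zero_pow two_ne_zero] at ha
    have h2 : p ∣ 2 := (CharP.cast_eq_zero_iff F p 2).mp (by exact_mod_cast ha.symm)
    have := Nat.le_of_dvd (by omega) h2
    omega
  have hpow : ∀ n : ℕ, (upSL (1 : F)) ^ n = upSL (n : F) := by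
    intro n
    induction n with
    | zero => rw [pow_zero, Nat.cast_zero, upSL_zero]
    | succ n ih => rw [pow_succ, ih, ← upSL_add, Nat.cast_succ]
  let d : Matrix.SpecialLinearGroup (Fin 2) F := ⟨!![a, 0; 0, a⁻¹], by simp [Matrix.det_fin_two_of, ha0]⟩
  refine ⟨proj (upSL 1), proj d, ?_, ?_, ?_⟩
  · rw [← map_pow, hpow, CharP.cast_eq_zero, upSL_zero, map_one]
  · intro h
    rw [← map_one proj] at h
    rcases proj_eq_iff.mp h with e | e
    · have := congrArg (fun z : Matrix.SpecialLinearGroup (Fin 2) F => (z : Matrix (Fin 2) (Fin 2) F) 0 1) e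
      simp [upSL_coe] at this
    · have := congrArg (fun z : Matrix.SpecialLinearGroup (Fin 2) F => (z : Matrix (Fin 2) (Fin 2) F) 0 1) e
      simp [upSL_coe] at this
  · rw [← map_pow, hpow, ← map_inv, ← map_mul, ← map_mul]
    congr 1
    rw [mul_inv_eq_iff_eq_mul]
    have hd : (d : Matrix (Fin 2) (Fin 2) F) = !![a, 0; 0, a⁻¹] := rfl
    apply SL_ext_two <;> rw [SL_mul_entries, SL_mul_entries] <;> simp [upSL_coe, hd]
    field_simp
    linear_combination ha

theorem seven_element {F : Type*} [Field F] [Fintype F] [CharP F 2] :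
    ∃ g h : Matrix.ProjectiveSpecialLinearGroup (Fin 3) F, g ^ 7 = 1 ∧ g ≠ 1 ∧ h * g * h⁻¹ = g ^ 2 := by
  have h2 : (2 : F) = 0 := CharTwo.two_eq_zero
  let C : Matrix.SpecialLinearGroup (Fin 3) F := ⟨!![0, 0, 1; 1, 0, 1; 0, 1, 0], by simp [Matrix.det_fin_three]⟩
  let D : Matrix.SpecialLinearGroup (Fin 3) F := ⟨!![1, 0, 0; 0, 0, 1; 0, 1, 1], by
    simp [Matrix.det_fin_three, CharTwo.neg_eq]⟩
  let π : Matrix.SpecialLinearGroup (Fin 3) F →* Matrix.ProjectiveSpecialLinearGroup (Fin 3) F :=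
    QuotientGroup.mk' _
  have hC : (C : Matrix (Fin 3) (Fin 3) F) = !![0, 0, 1; 1, 0, 1; 0, 1, 0] := rfl
  have hD : (D : Matrix (Fin 3) (Fin 3) F) = !![1, 0, 0; 0, 0, 1; 0, 1, 1] := rfl
  refine ⟨π C, π D, ?_, ?_, ?_⟩
  · rw [← map_pow, ← map_one π]
    congr 1
    apply Matrix.SpecialLinearGroup.ext
    intro i j
    rw [Matrix.SpecialLinearGroup.coe_pow, Matrix.SpecialLinearGroup.coe_one, hC]
    simp only [pow_succ, pow_zero, one_mul]
    fin_cases i <;> fin_cases j <;>
      simp [Matrix.mul_apply, Fin.sum_univ_three, CharTwo.add_self_eq_zero]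
  · intro h
    have hm : C ∈ Subgroup.center (Matrix.SpecialLinearGroup (Fin 3) F) := (QuotientGroup.eq_one_iff C).mp h
    obtain ⟨r, -, hr⟩ := Matrix.SpecialLinearGroup.mem_center_iff.mp hm
    have h1 := congrFun (congrFun hr 1) 0
    rw [hC] at h1
    simp at h1
  · rw [← map_pow, ← map_inv, ← map_mul, ← map_mul]
    congr 1
    rw [mul_inv_eq_iff_eq_mul, pow_two]
    apply Matrix.SpecialLinearGroup.ext
    intro i j
    rw [Matrix.SpecialLinearGroup.coe_mul, Matrix.SpecialLinearGroup.coe_mul, Matrix.SpecialLinearGroup.coe_mul, hC, hD]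
    fin_cases i <;> fin_cases j <;>
      simp [Matrix.mul_apply, Fin.sum_univ_three, CharTwo.add_self_eq_zero]

theorem char_two_of_card {F : Type*} [Field F] [Fintype F] {n : ℕ} (hF : Fintype.card F = 2 ^ n) : CharP F 2 := by
  obtain ⟨p, hp⟩ := CharP.exists F
  haveI := hp
  obtain ⟨k, hpp, hk⟩ := FiniteField.card F p
  have h2 : p ∣ 2 ^ n := hF ▸ hk ▸ dvd_pow_self p k.ne_zero
  rwa [← (Nat.prime_dvd_prime_iff_eq hpp Nat.prime_two).mp (hpp.dvd_of_dvd_pow h2)]

theorem card_five_to_four {G : Type*} [Group G] [Finite G] [IsSimpleGroup G] {F : Type} [Field F] [Fintype F]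
    (hF : Fintype.card F = 5) (e : G ≃* Matrix.ProjectiveSpecialLinearGroup (Fin 2) F) :
    Nonempty (G ≃* Matrix.ProjectiveSpecialLinearGroup (Fin 2) (GaloisField 2 2)) := by
  haveI : Fintype (GaloisField 2 2) := Fintype.ofFinite _
  have hK : Fintype.card (GaloisField 2 2) = 4 := by
    rw [← Nat.card_eq_fintype_card, GaloisField.card 2 2 (by norm_num)]; norm_num
  haveI : IsSimpleGroup (Matrix.ProjectiveSpecialLinearGroup (Fin 2) (GaloisField 2 2)) :=
    isSimpleGroup_PSL_fin le_rfl fun _ => by rw [Nat.card_eq_fintype_card, hK]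
  have h1 : Nat.card G = 60 := by
    rw [Nat.card_congr e.toEquiv]
    have := H56.CTwoAb.card_psl_two_odd (F := F) (by omega)
    rw [hF] at this; omega
  have h2 : Nat.card (Matrix.ProjectiveSpecialLinearGroup (Fin 2) (GaloisField 2 2)) = 60 := by
    rw [H56.CTwoAb.card_psl_two_even (by omega), hK]; norm_num
  obtain ⟨e1⟩ := S0494.result (G := G) h1
  obtain ⟨e2⟩ := S0494.result (G := Matrix.ProjectiveSpecialLinearGroup (Fin 2) (GaloisField 2 2)) h2
  exact ⟨e1.trans e2.symm⟩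

theorem not_card_three {G : Type*} [Group G] [Finite G] [IsSimpleGroup G] (hG : ∃ a b : G, a * b ≠ b * a)
    {F : Type} [Field F] [Fintype F] (hF : Fintype.card F = 3)
    (e : G ≃* Matrix.ProjectiveSpecialLinearGroup (Fin 2) F) : False := by
  have h1 : Nat.card G = 12 := by
    rw [Nat.card_congr e.toEquiv]
    have := H56.CTwoAb.card_psl_two_odd (F := F) (by omega)
    rw [hF] at this; omega
  have hs := Unitary.isSolvable_of_card_dvd_24 h1 (by norm_num)
  obtain ⟨a, b, hab⟩ := hG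
  exact hab (IsSimpleGroup.comm_iff_isSolvable.mpr hs a b)

end Cfsg.Agent.H97.SpEven
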