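import Cfsg.Agent.H97.SpEven.Eigen
import Cfsg.Agent.Linear.Mitchell.Traces
import Cfsg.Agent.Suzuki.ClassSquare
import Cfsg.Agent.H86.PrimeGraph.SzCongr

/-!
A Suzuki group in dimension four, not realised over a smaller field: the fields have the same order.
-/

set_option autoImplicit false
set_option linter.unusedSectionVars false
set_option linter.style.haveILetI false

namespace Cfsg.Agent.H97.SpEven

open Matrix
open Cfsg.Geo (matrixSet ActsAbsolutelyIrreducibly RealisableOver)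

variable {F : Type*} [Field F] [CharP F 2]

local notation "M4" => Matrix (Fin 4) (Fin 4) F
local notation "G4" => GL (Fin 4) F

theorem trace_matrix_pow (A : M4) (k : ℕ) : (A ^ 2 ^ k).trace = A.trace ^ 2 ^ k := by
  induction k with
  | zero => simp
  | succ k ih => rw [pow_succ, pow_mul, pow_two, trace_sq, ih, ← pow_mul]

/-- The elements fixed by a power of the Frobenius map. -/
def fixField (F : Type*) [Field F] [CharP F 2] (N : ℕ) : Subfield F where
  carrier := {x | x ^ 2 ^ N = x}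
  zero_mem' := zero_pow (by positivity)
  one_mem' := one_pow _
  add_mem' {a b} ha hb := by
    show (a + b) ^ 2 ^ N = a + b
    rw [add_pow_char_pow]; exact congrArg₂ (· + ·) ha hb
  neg_mem' {a} ha := by rwa [CharTwo.neg_eq]
  mul_mem' {a b} ha hb := by
    show (a * b) ^ 2 ^ N = a * b
    rw [mul_pow]; exact congrArg₂ (· * ·) ha hb
  inv_mem' a ha := by
    show a⁻¹ ^ 2 ^ N = a⁻¹
    rw [inv_pow]; exact congrArg _ ha

theorem sz_case [Fintype F] {P : Subgroup G4}
    (habs : ActsAbsolutelyIrreducibly (matrixSet P))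
    (hreal : ∀ F₀ : Subfield F, F₀ ≠ ⊤ → ¬ RealisableOver F₀ (matrixSet P)) (hsz : Cfsg.Lie.IsoSuzuki P)
    {n : ℕ} (hn : Fintype.card F = 2 ^ n) (hn1 : 1 ≤ n)
    (hdvd : Nat.card P ∣ 2 ^ (4 * n) * ((2 ^ (2 * n) - 1) * (2 ^ (4 * n) - 1))) :
    ∃ m : ℕ, 1 ≤ m ∧ Fintype.card F = 2 ^ (2 * m + 1) ∧
      Nonempty (P ≃* Cfsg.Lie.Sz F (2 ^ (m + 1))) := by
  classical
  obtain ⟨E, iE, iEf, m, hm, hE, ⟨e⟩⟩ := hsz
  haveI : Suzuki.SzField E m := ⟨hE, hm⟩
  haveI : CharP E 2 := by
    obtain ⟨p, hp⟩ := CharP.exists E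
    haveI := hp
    obtain ⟨k, hpp, hk⟩ := FiniteField.card E p
    have h2 : p ∣ 2 ^ (2 * m + 1) := hE ▸ hk ▸ dvd_pow_self p k.ne_zero
    rwa [← (Nat.prime_dvd_prime_iff_eq hpp Nat.prime_two).mp (hpp.dvd_of_dvd_pow h2)]
  let i := (Suzuki.lieEquiv (F := E) m).trans e.symm
  let ψ : Cfsg.Sz E m →* G4 := P.subtype.comp i.toMonoidHom
  set N := 2 * m + 1 with hN
  -- the traces lie in the fixed field
  have htr : ∀ g : Cfsg.Sz E m, (ψ g : M4).trace ∈ fixField F N := by
    intro g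
    rcases Suzuki.dichotomy m g with ⟨j, hj⟩ | hss
    · have h1 : ψ g ^ 2 ^ j = 1 := by rw [← map_pow, ← hj, pow_orderOf_eq_one, map_one]
      have h2 := trace_matrix_pow (ψ g : M4) j
      rw [← Units.val_pow_eq_pow_val, h1, Units.val_one, Matrix.trace_one, Fintype.card_fin] at h2
      have h0 : (ψ g : M4).trace = 0 := eq_zero_of_pow_eq_zero (n := 2 ^ j) (h2.symm.trans (by
        push_cast
        linear_combination 2 * two0 (F := F)))
      rw [h0]; exact (fixField F N).zero_mem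
    · have hcard : ∀ x : E, x ^ 2 ^ N = x := fun x => by rw [hN, ← hE, FiniteField.pow_card]
      have htra : Suzuki.tra m (g ^ 2 ^ N) = Suzuki.tra m g := by
        show Matrix.trace (((g ^ 2 ^ N : Cfsg.Sz E m).1 : Matrix (Fin 4) (Fin 4) E)) = _
        rw [SubmonoidClass.coe_pow, Matrix.SpecialLinearGroup.coe_pow, trace_matrix_pow, hcard]
        rfl
      obtain ⟨c, hc⟩ := isConj_iff.mp (Suzuki.isConj_of_tra m hss htra)
      show (ψ g : M4).trace ^ 2 ^ N = (ψ g : M4).trace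
      rw [← trace_matrix_pow, ← Units.val_pow_eq_pow_val, ← map_pow, ← hc, map_mul, map_mul, map_inv,
        Units.val_mul, Units.val_mul, Matrix.trace_mul_cycle, ← Units.val_mul, inv_mul_cancel,
        Units.val_one, Matrix.one_mul]
  have htop : fixField F N = ⊤ := by
    by_contra hne
    refine hreal _ hne (Linear.Mitchell.realisableOver_of_traces habs _ fun g hg => ?_)
    have h := htr (i.symm ⟨g, hg⟩)
    show ((g : G4) : M4).trace ∈ fixField F N
    have e' : ψ (i.symm ⟨g, hg⟩) = g := by simp [ψ]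
    rwa [e'] at h
  -- the degrees
  have hdiv : n ∣ N := by
    obtain ⟨z, hz⟩ := IsCyclic.exists_generator (α := Fˣ)
    have hoz : orderOf z = 2 ^ n - 1 := by
      rw [orderOf_eq_card_of_forall_mem_zpowers hz, Nat.card_eq_fintype_card, Fintype.card_units, hn]
    have hzN : z ^ (2 ^ N - 1) = 1 := by
      have h : (z : F) ^ 2 ^ N = (z : F) := (htop ▸ Subfield.mem_top (z : F) : (z : F) ∈ fixField F N)
      refine Units.ext (mul_right_cancel₀ z.ne_zero ?_)
      rw [Units.val_one, one_mul, Units.val_pow_eq_pow_val, ← pow_succ, Nat.sub_add_cancel Nat.one_le_two_pow, h]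
    have hd : 2 ^ n - 1 ∣ 2 ^ N - 1 := hoz ▸ orderOf_dvd_of_pow_eq_one hzN
    have hg := Nat.pow_sub_one_gcd_pow_sub_one 2 n N
    rw [Nat.gcd_eq_left hd] at hg
    have h1 : (2 : ℕ) ^ n = 2 ^ Nat.gcd n N := by
      have := Nat.one_le_two_pow (n := n)
      have := Nat.one_le_two_pow (n := Nat.gcd n N)
      omega
    exact Nat.pow_right_injective le_rfl h1 ▸ Nat.gcd_dvd_right n N
  have hle : 2 * N ≤ 4 * n := by
    have hcardP : Nat.card P = Fintype.card E ^ 2 * (Fintype.card E - 1) * (Fintype.card E ^ 2 + 1) := by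
      rw [← Nat.card_congr i.toEquiv, Suzuki.card_Sz, Nat.card_eq_fintype_card]
    rw [hE] at hcardP
    have h2 : 2 ^ (2 * N) ∣ 2 ^ (4 * n) * ((2 ^ (2 * n) - 1) * (2 ^ (4 * n) - 1)) := by
      refine Dvd.dvd.trans ⟨(2 ^ N - 1) * ((2 ^ N) ^ 2 + 1), ?_⟩ hdvd
      rw [hcardP, ← pow_mul, mul_comm N 2, mul_assoc]
    have hodd : ∀ k, 1 ≤ k → Odd (2 ^ k - 1) := fun k hk =>
      Nat.Even.sub_odd Nat.one_le_two_pow (Nat.even_pow.mpr ⟨even_two, by omega⟩) odd_one
    have hcop : Nat.Coprime (2 ^ (2 * N)) ((2 ^ (2 * n) - 1) * (2 ^ (4 * n) - 1)) :=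
      Nat.Coprime.pow_left _ (Nat.coprime_two_left.mpr ((hodd _ (by omega)).mul (hodd _ (by omega))))
    exact (Nat.pow_dvd_pow_iff_le_right (by norm_num)).mp (hcop.dvd_of_dvd_mul_right h2)
  have hnN : n = N := by
    obtain ⟨k, hk⟩ := hdiv
    have : k ≠ 0 := fun h => by rw [h, mul_zero] at hk; omega
    rcases Nat.lt_or_ge k 2 with h | h
    · have hk1 : k = 1 := by omega
      rw [hk1, mul_one] at hk; exact hk.symm
    · exfalso
      have hk2 : k = 2 := by nlinarith
      rw [hk2] at hk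
      omega
  refine ⟨m, hm, by rw [hn, hnN], ?_⟩
  have hF : Fintype.card F = 2 ^ (2 * m + 1) := by rw [hn, hnN]
  haveI : Suzuki.SzField F m := ⟨hF, hm⟩
  let φ : E ≃+* F := FiniteField.ringEquivOfCardEq (hE.trans hF.symm)
  exact ⟨i.symm.trans ((H86.PrimeGraph.szCongr m φ).trans (Suzuki.lieEquiv (F := F) m))⟩

end Cfsg.Agent.H97.SpEven
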