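import Cfsg.Agent.H97.SpEven.StarCase
import Cfsg.Agent.H97.SpEven.SLTwo
import Cfsg.Agent.H97.SpEven.AltSix
import Cfsg.Agent.H97.SpEven.Small
import Cfsg.Agent.H97.SpEven.SzCase
import Cfsg.Agent.H27.SixPoints
import Cfsg.Agent.H70.Eppo.Simple
import Cfsg.Agent.S0205

/-!
The simple subgroups of the symplectic group of dimension four in characteristic two, acting absolutely
irreducibly, not realised over a smaller field, without a quadratic form, not the whole group: Suzuki groups.
-/

set_option autoImplicit false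
set_option linter.unusedSectionVars false
set_option linter.style.haveILetI false

namespace Cfsg.Agent.H97.SpEven

open Matrix
open Cfsg.Lie (altForm4)
open Cfsg.Geo (matrixSet ActsAbsolutelyIrreducibly RealisableOver IsNondegenerateQuadraticForm FixesQuadForm)

variable {F : Type*} [Field F] [CharP F 2] [Fintype F]

local notation "V4" => (Fin 4 → F)
local notation "M4" => Matrix (Fin 4) (Fin 4) F
local notation "G4" => GL (Fin 4) F

theorem range_of_equiv {P : Subgroup (GL (Fin 4) F)} {G : Type*} [Group G] (e : G ≃* P) :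
    (P.subtype.comp e.toMonoidHom).range = P := by
  rw [MonoidHom.range_comp, MonoidHom.range_eq_top.mpr e.surjective, ← MonoidHom.range_eq_map,
    Subgroup.range_subtype]

theorem isoSuzuki_of_hyps {P : Subgroup G4} [IsSimpleGroup P] (sp : P ≤ Lie.Sp4 F)
    (hnc : ∃ a b : P, a * b ≠ b * a) (hq : ∃ c : F, c ≠ 0 ∧ c ≠ 1)
    (habs : ActsAbsolutelyIrreducibly (matrixSet P))
    (hreal : ∀ F₀ : Subfield F, F₀ ≠ ⊤ → ¬ RealisableOver F₀ (matrixSet P))
    (hquad : ¬ ∃ Q : V4 → F, IsNondegenerateQuadraticForm Q ∧ FixesQuadForm (matrixSet P) Q)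
    (hbig : ¬ ∀ v : V4, v ≠ 0 → tv v ∈ P) : Cfsg.Lie.IsoSuzuki P := by
  classical
  haveI : Fact (Nat.Prime 2) := ⟨Nat.prime_two⟩
  have heven : Even (Nat.card P) := by
    by_contra hodd
    obtain ⟨a, b, hab⟩ := hnc
    have hs : Group.IsSolvable P := S0205.result (Nat.not_even_iff_odd.mp hodd)
    exact hab (IsSimpleGroup.comm_iff_isSolvable.mpr hs a b)
  -- no transvection, no root element
  have hnotv : ∀ v : V4, v ≠ 0 → tv v ∉ P := by
    intro v hv hvP
    rcases tv_main sp habs.1 ⟨v, hv, hvP⟩ hq with h | ⟨F₀, h1, h2⟩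
    · exact hbig fun w hw => (h w hw).2
    · exact hreal F₀ h1 h2
  have hc2 : ∀ t : G4, t ∈ P → t ≠ 1 → t * t = 1 → IsC2 t := by
    intro t htP h1 h2
    rcases involution_cases (sp htP) h1 h2 with ⟨v, hv, rfl⟩ | ⟨p, hp, hst⟩ | h
    · exact absurd htP (hnotv v hv)
    · rcases root_case sp habs hq htP hp hst with ⟨v, hv, hvP⟩ | ⟨F₀, h1', h2'⟩
      · exact absurd hvP (hnotv v hv)
      · exact absurd h2' (hreal F₀ h1')
    · exact h
  have hC : H65.CIT.CIT P := by
    intro t ht
    have ht1 : (t : G4) ≠ 1 := fun h => by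
      have h' : t = 1 := Subtype.ext h
      rw [h', orderOf_one] at ht
      omega
    have htt : (t : G4) * t = 1 := by
      have := pow_orderOf_eq_one t
      rw [ht, pow_two] at this
      exact congrArg Subtype.val this
    obtain ⟨-, -, δ, -, -, -, hg⟩ := hc2 t t.2 ht1 htt
    intro x
    refine ⟨2, Subtype.ext (Subtype.ext ?_)⟩
    have hx : (x : P) * t = t * (x : P) := H65.CIT.mem_cent.mp x.2
    exact (hg _ (sp (x : P).2) (congrArg Subtype.val hx)).1
  have hpow2 : ∀ (E : Type) [Field E] [Fintype E] (n : ℕ), Fintype.card E = 2 ^ n →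
      ∀ _e : P ≃* Matrix.ProjectiveSpecialLinearGroup (Fin 2) E, False := by
    intro E _ _ n hn e
    haveI := char_two_of_card hn
    let e' : Matrix.SpecialLinearGroup (Fin 2) E ≃* P := (slEquiv E).trans e.symm
    have hrange := range_of_equiv e'
    have hρ : Rep (P.subtype.comp e'.toMonoidHom) := by
      refine ⟨fun g => sp (e' g).2, by rw [hrange]; exact habs, fun x hx => hc2 _ (e' _).2 ?_ ?_⟩
      · intro h
        have h' : e' (Linear.upSL x) = 1 := Subtype.ext h
        exact upSL_ne_one hx (e'.map_eq_one_iff.mp h')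
      · show ((e' (Linear.upSL x) : P) : G4) * (e' (Linear.upSL x) : P) = 1
        rw [← Subgroup.coe_mul, ← map_mul, upSL_mul_self, map_one, Subgroup.coe_one]
    obtain ⟨Q, h1, h2⟩ := hρ.exists_quad
    rw [hrange] at h2
    exact hquad ⟨Q, h1, h2⟩
  rcases H70.Eppo.isSuzuki_iso_cases hnc hC heven with ⟨E, iE, iEf, hE, ⟨e⟩⟩ | ⟨E, iE, iEf, hE, ⟨e⟩⟩ | h
  · exfalso
    rcases hE with h9 | ⟨n, hn⟩ | ⟨hp, k, hk⟩
    · obtain ⟨a⟩ := H27.SixPoints.psl_two_nine' (F := E) h9
      let e' : alternatingGroup (Fin 6) ≃* P := a.symm.trans e.symm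
      have hrange := range_of_equiv e'
      have htr := alt_six_traces hq (ρ := P.subtype.comp e'.toMonoidHom)
        (P.subtype_injective.comp e'.injective) (fun g => sp (e' g).2) (by rw [hrange]; exact habs.1)
        (fun g h1 h2 => hc2 _ (e' g).2
          (fun h => h1 (e'.map_eq_one_iff.mp (Subtype.ext h)))
          (by
            show ((e' g : P) : G4) * (e' g : P) = 1
            rw [← Subgroup.coe_mul, ← map_mul, h2, map_one, Subgroup.coe_one]))
      have hne : twoField F ≠ ⊤ := fun h => by
        obtain ⟨c, hc0, hc1⟩ := hq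
        have : c ∈ twoField F := h ▸ Subfield.mem_top c
        exact this.elim hc0 hc1
      refine hreal _ hne (Linear.Mitchell.realisableOver_of_traces habs _ fun x hx => ?_)
      have := htr (e'.symm ⟨x, hx⟩)
      simpa [twoField] using this
    · exact hpow2 E n hn e
    · rcases Nat.lt_or_ge (Fintype.card E) 7 with h7 | h7
      · have h2 := hp.two_le
        obtain h | h | h : Fintype.card E = 2 ∨ Fintype.card E = 3 ∨ Fintype.card E = 5 := by
          have h4 : Fintype.card E ≠ 4 := fun h => by rw [h] at hp; norm_num at hp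
          have h6 : Fintype.card E ≠ 6 := fun h => by rw [h] at hp; norm_num at hp
          omega
        · exact hpow2 E 1 (by rw [h, pow_one]) e
        · exact not_card_three hnc h e
        · obtain ⟨e2⟩ := card_five_to_four h e
          haveI : Fintype (GaloisField 2 2) := Fintype.ofFinite _
          exact hpow2 (GaloisField 2 2) 2
            (by rw [← Nat.card_eq_fintype_card, GaloisField.card 2 2 (by norm_num)]) e2
      · obtain ⟨g, h, hg, hg1, hgh⟩ := prime_element hp rfl h7 hk
        refine no_big_prime (g := ((e.symm g : P) : G4)) (sp (e.symm g).2) hp h7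
          (by rw [← Subgroup.coe_pow, ← map_pow, hg, map_one, Subgroup.coe_one]) ?_
          (k := ((e.symm h : P) : G4)) ?_
        · intro h'
          exact hg1 (e.symm.map_eq_one_iff.mp (Subtype.ext h'))
        · rw [← Subgroup.coe_inv, ← Subgroup.coe_mul, ← Subgroup.coe_mul, ← Subgroup.coe_pow, ← map_inv,
            ← map_mul, ← map_mul, ← map_pow, hgh]
  · exfalso
    haveI := char_two_of_card (n := 2) (hE.trans (by norm_num))
    obtain ⟨g, h, hg, hg1, hgh⟩ := seven_element (F := E)
    refine no_big_prime (g := ((e.symm g : P) : G4)) (sp (e.symm g).2) (p := 7) (by norm_num) le_rfl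
      (by rw [← Subgroup.coe_pow, ← map_pow, hg, map_one, Subgroup.coe_one]) ?_
      (k := ((e.symm h : P) : G4)) ?_
    · intro h'
      exact hg1 (e.symm.map_eq_one_iff.mp (Subtype.ext h'))
    · rw [← Subgroup.coe_inv, ← Subgroup.coe_mul, ← Subgroup.coe_mul, ← Subgroup.coe_pow, ← map_inv,
        ← map_mul, ← map_mul, ← map_pow, hgh]
  · exact h

end Cfsg.Agent.H97.SpEven
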