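import Cfsg.Agent.H97.SpEven.Line

/-!
Transvection groups: the form values on the vectors bound the field of realisation; with all scalars
the group contains every transvection.
-/

set_option autoImplicit false
set_option linter.unusedSectionVars false
set_option linter.style.haveILetI false

namespace Cfsg.Agent.H97.SpEven

open Matrix
open Cfsg.Lie (altForm4)
open Cfsg.Geo (matrixSet ActsIrreducibly RealisableOver)

variable {F : Type*} [Field F] [CharP F 2]

local notation "V4" => (Fin 4 → F)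
local notation "M4" => Matrix (Fin 4) (Fin 4) F
local notation "G4" => GL (Fin 4) F

theorem realisable_of_values {P : Subgroup (GL (Fin 4) F)} (hsp : P ≤ Lie.Sp4 F)
    (hspan : Submodule.span F (Dset P) = ⊤) (F₀ : Subfield F)
    (hval : ∀ d ∈ Dset P, ∀ e ∈ Dset P, altForm4 d e ∈ F₀) : RealisableOver F₀ (matrixSet P) := by
  classical
  -- a basis among the vectors
  obtain ⟨b, hbD, hbspan, hli⟩ := exists_linearIndependent F (Dset P)
  rw [hspan] at hbspan
  have : Fintype b := hli.setFinite.fintype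
  let Bb : Module.Basis b F V4 := Module.Basis.mk hli (by rw [Subtype.range_coe_subtype, Set.ofPred_mem_eq, hbspan])
  have hcard : Fintype.card b = 4 := by
    rw [← Module.finrank_eq_card_basis Bb]; simp
  let eqv : Fin 4 ≃ b := (Fintype.equivFinOfCardEq hcard).symm
  let v : Fin 4 → V4 := fun i => (eqv i : V4)
  let B4 : Module.Basis (Fin 4) F V4 := Bb.reindex eqv.symm
  have hB4 : ∀ i, B4 i = v i := fun i => by simp [B4, Bb, v]
  let Q : M4 := Matrix.of fun r i => v i r
  have hQ : IsUnit Q := Matrix.linearIndependent_cols_iff_isUnit.mp (by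
    have : Q.col = B4 := funext fun i => by rw [hB4]; rfl
    rw [this]; exact B4.linearIndependent)
  have hGram : ∀ i, ∀ x : V4, (Qᵀ * suzukiForm F) i ⬝ᵥ x = altForm4 (v i) x := fun i x => by
    simp [Q, altForm4, suzukiForm, dotProduct, Matrix.mul_apply, Fin.sum_univ_four]
    ring
  let Gr : M4 := Qᵀ * suzukiForm F * Q
  have hGr : ∀ i j, Gr i j = altForm4 (v i) (v j) := fun i j => by
    rw [← hGram]; simp [Gr, Q, Matrix.mul_apply, dotProduct]
  let Gr₀ : Matrix (Fin 4) (Fin 4) F₀ :=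
    Matrix.of fun i j => ⟨altForm4 (v i) (v j), hval _ (hbD (eqv i).2) _ (hbD (eqv j).2)⟩
  have hGr₀ : Gr₀.map F₀.subtype = Gr := by ext i j; rw [hGr]; rfl
  have hGrdet : Gr.det ≠ 0 := by
    simp only [Gr, Matrix.det_mul, Matrix.det_transpose]
    have hQd : Q.det ≠ 0 := ((Matrix.isUnit_iff_isUnit_det Q).mp hQ).ne_zero
    have hJ : (suzukiForm F).det ≠ 0 := fun h => by
      have e : suzukiForm F * suzukiForm F = 1 := by
        ext i j
        fin_cases i <;> fin_cases j <;> simp [suzukiForm, Matrix.mul_apply, Fin.sum_univ_four]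
      have := congrArg Matrix.det e
      rw [Matrix.det_mul, h, mul_zero, Matrix.det_one] at this
      exact zero_ne_one this
    exact mul_ne_zero (mul_ne_zero hQd hJ) hQd
  have hGinv : ∀ i j, Gr⁻¹ i j ∈ F₀ := fun i j => by
    rw [Matrix.inv_def, Matrix.smul_apply, smul_eq_mul, Ring.inverse_eq_inv', ← hGr₀]
    refine F₀.mul_mem (F₀.inv_mem ?_) ?_
    · rw [← RingHom.mapMatrix_apply, ← RingHom.map_det]; exact (Gr₀.det).2
    · rw [← RingHom.mapMatrix_apply, ← RingHom.map_adjugate]; exact (Gr₀.adjugate i j).2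
  obtain ⟨Qu, hQu⟩ := hQ
  refine ⟨Qu⁻¹, ?_⟩
  rintro _ ⟨g, hg, rfl⟩ i j
  rw [inv_inv, hQu, Matrix.mul_assoc]
  -- the coordinates of the image vectors
  have hcoord : ((Qu⁻¹ : G4) : M4) = Gr⁻¹ * (Qᵀ * suzukiForm F) := by
    have h1 : Gr⁻¹ * (Qᵀ * suzukiForm F) * (Qu : M4) = 1 := by
      rw [hQu, Matrix.mul_assoc, Matrix.nonsing_inv_mul _ (Ne.isUnit hGrdet)]
    calc ((Qu⁻¹ : G4) : M4) = (Gr⁻¹ * (Qᵀ * suzukiForm F) * (Qu : M4)) * ((Qu⁻¹ : G4) : M4) := by
          rw [h1, Matrix.one_mul]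
      _ = _ := by rw [Matrix.mul_assoc, ← Units.val_mul, mul_inv_cancel, Units.val_one, Matrix.mul_one]
  rw [hcoord, Matrix.mul_assoc, Matrix.mul_apply]
  refine F₀.sum_mem fun k _ => F₀.mul_mem (hGinv i k) ?_
  have : (Qᵀ * suzukiForm F * ((g : M4) * Q)) k j = altForm4 (v k) ((g : M4) *ᵥ v j) := by
    rw [← hGram, Matrix.mul_apply]
    rfl
  rw [this]
  exact hval _ (hbD (eqv k).2) _ (Dset_map hsp hg (hbD (eqv j).2))

variable {P : Subgroup (GL (Fin 4) F)}

/-- A vector orthogonal to two orthogonal hyperbolic pairs is zero. -/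
theorem eq_zero_of_four {d e s t w : V4} (hde : altForm4 d e ≠ 0) (hst : altForm4 s t ≠ 0)
    (hds : altForm4 d s = 0) (hes : altForm4 e s = 0) (hdt : altForm4 d t = 0) (het : altForm4 e t = 0)
    (h1 : altForm4 d w = 0) (h2 : altForm4 e w = 0) (h3 : altForm4 s w = 0) (h4 : altForm4 t w = 0) :
    w = 0 := by
  classical
  have hli : LinearIndependent F ![d, e, s, t] := by
    rw [Fintype.linearIndependent_iff]
    intro g hg
    have hF : ∀ u : V4, altForm4 u (g 0 • d + g 1 • e + g 2 • s + g 3 • t) = 0 := fun u => by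
      simp [Fin.sum_univ_four] at hg
      rw [hg, f_zero_right]
    have kd := hF e
    have ke := hF d
    have ks := hF t
    have kt := hF s
    simp only [f_add_right, f_smul_right, f_self, hes, het, hds, hdt, f_comm t d, f_comm t e,
      f_comm s d, f_comm s e, f_comm e d, f_comm t s, mul_zero, add_zero, zero_add, mul_eq_zero] at kd ke ks kt
    intro i
    fin_cases i
    · exact kd.resolve_right hde
    · exact ke.resolve_right hde
    · exact ks.resolve_right hst
    · exact kt.resolve_right hst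
  have htop := hli.span_eq_top_of_card_eq_finrank (by simp)
  refine eq_zero_of_perp_span htop ?_
  rintro _ ⟨i, rfl⟩
  fin_cases i
  · show altForm4 w d = 0; rwa [f_comm]
  · show altForm4 w e = 0; rwa [f_comm]
  · show altForm4 w s = 0; rwa [f_comm]
  · show altForm4 w t = 0; rwa [f_comm]

/-- With all scalars every vector is a transvection vector. -/
theorem Setting.all_vectors [Finite F] (hS : Setting P) (hq : ∃ c : F, c ≠ 0 ∧ c ≠ 1)
    (hall : ∀ d ∈ Dset P, ∀ c : F, c ≠ 0 → c • d ∈ Dset P) {x : V4} (hx : x ≠ 0) : x ∈ Dset P := by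
  -- lines through two non-orthogonal vectors
  have hline : ∀ d ∈ Dset P, ∀ e ∈ Dset P, altForm4 d e ≠ 0 → ∀ a b : F, (a ≠ 0 ∨ b ≠ 0) →
      a • d + b • e ∈ Dset P := by
    intro d hd e he hde a b hab
    rcases eq_or_ne b 0 with rfl | hb
    · rw [zero_smul, add_zero]
      exact hall d hd a (hab.resolve_right fun h => h rfl)
    rcases eq_or_ne a 0 with rfl | ha
    · rw [zero_smul, zero_add]; exact hall e he b hb
    haveI : Fintype F := Fintype.ofFinite F
    obtain ⟨c, hc⟩ := exists_sqrt (F := F) (a / (b * altForm4 d e))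
    have hc0 : c ≠ 0 := fun h => by
      rw [h, zero_pow two_ne_zero] at hc
      exact div_ne_zero ha (mul_ne_zero hb hde) hc.symm
    have h1 := hall _ (Dset_tv_apply hS.sp (hall d hd c hc0) he) b hb
    rw [f_smul_left, smul_add, smul_smul, smul_smul] at h1
    have hval : b * (c * altForm4 d e * c) = a := by
      have : c ^ 2 * (b * altForm4 d e) = a := by rw [hc, div_mul_cancel₀ _ (mul_ne_zero hb hde)]
      linear_combination this
    rw [mul_assoc b, hval] at h1
    rwa [add_comm]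
  obtain ⟨d, hd⟩ := hS.ne
  obtain ⟨e, he, hde⟩ := hS.exists_nonorth hd
  -- the plane and the components
  have hdec : ∀ y : V4, ∃ π σ : V4, y = π + σ ∧ (∃ a b : F, π = a • d + b • e) ∧
      altForm4 d σ = 0 ∧ altForm4 e σ = 0 := by
    intro y
    refine ⟨(altForm4 e y / altForm4 d e) • d + (altForm4 d y / altForm4 d e) • e,
      y - ((altForm4 e y / altForm4 d e) • d + (altForm4 d y / altForm4 d e) • e), by abel, ⟨_, _, rfl⟩, ?_, ?_⟩
    · rw [f_comm, f_sub_left, f_add_left, f_smul_left, f_smul_left, f_self, mul_zero, zero_add,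
        f_comm e d, div_mul_cancel₀ _ hde, f_comm y d, sub_self]
    · rw [f_comm, f_sub_left, f_add_left, f_smul_left, f_smul_left, f_self, mul_zero, add_zero,
        div_mul_cancel₀ _ hde, f_comm y e, sub_self]
  have hPl : ∀ π, (∃ a b : F, π = a • d + b • e) → π ≠ 0 → π ∈ Dset P := by
    rintro _ ⟨a, b, rfl⟩ h
    refine hline d hd e he hde a b ?_
    by_contra hab
    push Not at hab
    exact h (by rw [hab.1, hab.2, zero_smul, zero_smul, add_zero])
  have horth : ∀ π σ, (∃ a b : F, π = a • d + b • e) → altForm4 d σ = 0 → altForm4 e σ = 0 →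
      altForm4 π σ = 0 := by
    rintro _ σ ⟨a, b, rfl⟩ h1 h2
    rw [f_add_left, f_smul_left, f_smul_left, h1, h2, mul_zero, mul_zero, add_zero]
  have hcomb : ∀ π π' : V4, (∃ a b : F, π = a • d + b • e) → (∃ a b : F, π' = a • d + b • e) →
      ∀ c c' : F, ∃ a b : F, c • π + c' • π' = a • d + b • e := by
    rintro _ _ ⟨a, b, rfl⟩ ⟨a', b', rfl⟩ c c'
    exact ⟨c * a + c' * a', c * b + c' * b', by simp only [smul_add, smul_smul, add_smul]; abel⟩
  -- mixed vectors: the plane part is arbitrary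
  have hmix1 : ∀ π π' σ : V4, (∃ a b : F, π = a • d + b • e) → (∃ a b : F, π' = a • d + b • e) →
      altForm4 d σ = 0 → altForm4 e σ = 0 → π + σ ∈ Dset P → altForm4 π π' ≠ 0 →
      π' + σ ∈ Dset P := by
    intro π π' σ hπ hπ' h1 h2 hx hne
    have hd' : altForm4 (π + σ) (π + π') ≠ 0 := by
      obtain ⟨a, b, hab⟩ := hcomb π π' hπ hπ' 1 1
      rw [one_smul, one_smul] at hab
      rw [f_add_left, f_comm σ, horth _ σ ⟨a, b, hab⟩ h1 h2, add_zero, f_add_right, f_self, zero_add]
      exact hne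
    have hpp : π + π' ∈ Dset P := by
      obtain ⟨a, b, hab⟩ := hcomb π π' hπ hπ' 1 1
      rw [one_smul, one_smul] at hab
      exact hPl _ ⟨a, b, hab⟩ fun h => hne (by rw [add_eq_zero_vec h, f_self])
    have := hline _ hx _ hpp hd' 1 1 (Or.inl one_ne_zero)
    rw [one_smul, one_smul, add_comm π σ, add_assoc, ← add_assoc π π, add_self_vec, zero_add,
      add_comm σ] at this
    exact this
  have hmix : ∀ π π' σ : V4, (∃ a b : F, π = a • d + b • e) → (∃ a b : F, π' = a • d + b • e) →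
      altForm4 d σ = 0 → altForm4 e σ = 0 → π + σ ∈ Dset P → π ≠ 0 → π' ≠ 0 →
      π' + σ ∈ Dset P := by
    intro π π' σ hπ hπ' h1 h2 hx hπ0 hπ'0
    by_cases hne : altForm4 π π' = 0
    swap
    · exact hmix1 π π' σ hπ hπ' h1 h2 hx hne
    -- some vector of the plane pairs with both
    obtain ⟨π'', hπ'', ha, hb⟩ : ∃ π'', (∃ a b : F, π'' = a • d + b • e) ∧ altForm4 π π'' ≠ 0 ∧
        altForm4 π'' π' ≠ 0 := by
      have pair : ∀ τ, (∃ a b : F, τ = a • d + b • e) → τ ≠ 0 →
          altForm4 τ d ≠ 0 ∨ altForm4 τ e ≠ 0 := by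
        rintro _ ⟨a, b, rfl⟩ h
        by_contra hcon
        push Not at hcon
        obtain ⟨k1, k2⟩ := hcon
        rw [f_add_left, f_smul_left, f_smul_left, f_self, mul_zero, zero_add, f_comm e d,
          mul_eq_zero] at k1
        rw [f_add_left, f_smul_left, f_smul_left, f_self, mul_zero, add_zero, mul_eq_zero] at k2
        exact h (by rw [k1.resolve_right hde, k2.resolve_right hde, zero_smul, zero_smul, add_zero])
      have hdPl : ∃ a b : F, d = a • d + b • e := ⟨1, 0, by simp⟩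
      have hePl : ∃ a b : F, e = a • d + b • e := ⟨0, 1, by simp⟩
      have hdePl : ∃ a b : F, d + e = a • d + b • e := ⟨1, 1, by simp⟩
      by_cases hd1 : altForm4 π d = 0
      · have h1' := (pair π hπ hπ0).resolve_left (not_not_intro hd1)
        by_cases he2 : altForm4 π' e = 0
        · have h2' := (pair π' hπ' hπ'0).resolve_right (not_not_intro he2)
          exact ⟨d + e, hdePl, by rw [f_add_right, hd1, zero_add]; exact h1',
            by rw [f_comm, f_add_right, he2, add_zero]; exact h2'⟩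
        · exact ⟨e, hePl, h1', by rwa [f_comm]⟩
      · by_cases hd2 : altForm4 π' d = 0
        · have h2' := (pair π' hπ' hπ'0).resolve_left (not_not_intro hd2)
          by_cases he1 : altForm4 π e = 0
          · exact ⟨d + e, hdePl, by rw [f_add_right, he1, add_zero]; exact hd1,
              by rw [f_comm, f_add_right, hd2, zero_add]; exact h2'⟩
          · exact ⟨e, hePl, he1, by rwa [f_comm]⟩
        · exact ⟨d, hdPl, hd1, by rwa [f_comm]⟩
    exact hmix1 π'' π' σ hπ'' hπ' h1 h2 (hmix1 π π'' σ hπ hπ'' h1 h2 hx ha) hb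
  -- a vector outside the plane and its complement
  obtain ⟨y, hy, hy1, hy2⟩ : ∃ y ∈ Dset P, (altForm4 d y ≠ 0 ∨ altForm4 e y ≠ 0) ∧
      ¬ ∃ a b : F, y = a • d + b • e := by
    by_contra hcon
    push Not at hcon
    set S := {u | u ∈ Dset P ∧ ∃ a b : F, u = a • d + b • e}
    have htop := hS.span_eq_top S (fun u hu => hu.1) ⟨d, hd, 1, 0, by simp⟩ (by
      intro u hu huS s hs
      by_cases h : altForm4 d u ≠ 0 ∨ altForm4 e u ≠ 0
      · obtain ⟨a, b, hab⟩ := hcon u hu h
        exact absurd ⟨hu, a, b, hab⟩ huS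
      · push Not at h
        obtain ⟨a, b, rfl⟩ := hs.2
        rw [f_add_right, f_smul_right, f_smul_right, f_comm u d, f_comm u e, h.1, h.2, mul_zero,
          mul_zero, add_zero])
    have hle : Submodule.span F S ≤ Submodule.span F ({d, e} : Set V4) := Submodule.span_le.mpr (by
      rintro u ⟨-, a, b, rfl⟩
      exact Submodule.add_mem _ (Submodule.smul_mem _ _ (Submodule.subset_span (Set.mem_insert _ _)))
        (Submodule.smul_mem _ _ (Submodule.subset_span (Set.mem_insert_of_mem _ rfl))))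
    rw [htop] at hle
    have h4 : Module.finrank F (Submodule.span F ({d, e} : Set V4)) = 4 := by
      rw [top_le_iff.mp hle, finrank_top]; simp
    classical
    have h2 : (Set.range ![d, e]).finrank F ≤ 2 := finrank_range_le_card ![d, e]
    rw [Matrix.range_cons, Matrix.range_cons, Matrix.range_empty, Set.union_empty,
      Set.singleton_union, Set.finrank, h4] at h2
    omega
  obtain ⟨π₀, σ₀, hy_eq, hπ₀, hσ1, hσ2⟩ := hdec y
  have hπ₀0 : π₀ ≠ 0 := fun h => by
    rw [h, zero_add] at hy_eq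
    subst hy_eq
    rcases hy1 with h' | h'
    · exact h' hσ1
    · exact h' hσ2
  have hσ₀0 : σ₀ ≠ 0 := fun h => by
    rw [h, add_zero] at hy_eq
    exact hy2 (hy_eq ▸ hπ₀)
  have hanyσ₀ : ∀ π, (∃ a b : F, π = a • d + b • e) → π ≠ 0 → π + σ₀ ∈ Dset P := fun π hπ h =>
    hmix π₀ π σ₀ hπ₀ hπ hσ1 hσ2 (hy_eq ▸ hy) hπ₀0 h
  -- a second vector whose complement part pairs with the first
  have key : ∀ σ₁ π₁ : V4, (∃ a b : F, π₁ = a • d + b • e) → altForm4 d σ₁ = 0 → altForm4 e σ₁ = 0 →
      altForm4 σ₀ σ₁ ≠ 0 → π₁ + σ₁ ∈ Dset P → π₁ ≠ 0 → x ∈ Dset P := by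
    intro σ₁ π₁ hπ₁ hτ1 hτ2 hσσ hz hπ₁0
    have hany₁ : ∀ π, (∃ a b : F, π = a • d + b • e) → π ≠ 0 → π + σ₁ ∈ Dset P := fun π hπ h =>
      hmix π₁ π σ₁ hπ₁ hπ hτ1 hτ2 hz hπ₁0 h
    have hcross : ∀ π π', (∃ a b : F, π = a • d + b • e) → (∃ a b : F, π' = a • d + b • e) →
        altForm4 π π' = 0 → altForm4 (π + σ₀) (π' + σ₁) ≠ 0 := by
      intro π π' hπ hπ' h0
      rw [f_add_left, f_add_right, f_add_right, h0, horth _ _ hπ hτ1 hτ2, f_comm σ₀ π',
        horth _ _ hπ' hσ1 hσ2, zero_add, zero_add, zero_add]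
      exact hσσ
    have hpure : ∀ a b : F, a ≠ 0 → b ≠ 0 → a • σ₀ + b • σ₁ ∈ Dset P := by
      intro a b ha hb
      have hdd : (∃ a' b' : F, (a / b) • d = a' • d + b' • e) := ⟨a / b, 0, by simp⟩
      have hdP : (∃ a' b' : F, d = a' • d + b' • e) := ⟨1, 0, by simp⟩
      have h := hline _ (hanyσ₀ d hdP hd.1) _ (hany₁ _ hdd (smul_ne_zero (div_ne_zero ha hb) hd.1))
        (hcross _ _ hdP hdd (by rw [f_smul_right, f_self, mul_zero])) a b (Or.inl ha)
      rwa [smul_add, smul_add, smul_smul, mul_div_cancel₀ a hb, add_add_add_comm, add_self_vec,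
        zero_add] at h
    obtain ⟨c, hc0, hc1⟩ := hq
    have hs1 := hpure 1 1 one_ne_zero one_ne_zero
    have hs2 := hpure 1 c one_ne_zero hc0
    rw [one_smul, one_smul] at hs1
    rw [one_smul] at hs2
    have hc10 : c + 1 ≠ 0 := fun h => hc1 (CharTwo.add_eq_zero.mp h)
    have hss : altForm4 (σ₀ + σ₁) (σ₀ + c • σ₁) ≠ 0 := by
      rw [f_add_left, f_add_right, f_add_right, f_smul_right, f_smul_right, f_self, f_self,
        f_comm σ₁ σ₀, zero_add, mul_zero, add_zero]
      intro h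
      exact mul_ne_zero hc10 hσσ (by linear_combination h)
    -- coordinates in the complement
    have hperp : ∀ σ, altForm4 d σ = 0 → altForm4 e σ = 0 → σ ≠ 0 →
        altForm4 σ₀ σ ≠ 0 ∨ altForm4 σ₁ σ ≠ 0 := by
      intro σ k1 k2 hne
      by_contra hcon
      push Not at hcon
      have : σ = 0 := by
        refine f_nondeg fun y => ?_
        obtain ⟨π, τ, rfl, hπ, m1, m2⟩ := hdec y
        rw [f_add_right, f_comm σ π, horth _ _ hπ k1 k2, zero_add]
        -- the complement is spanned by the two parts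
        have hτ : ∀ w, altForm4 d w = 0 → altForm4 e w = 0 → altForm4 σ₀ w = 0 → altForm4 σ₁ w = 0 → w = 0 := by
          intro w w1 w2 w3 w4
          exact eq_zero_of_four hde hσσ hσ1 hσ2 hτ1 hτ2 w1 w2 w3 w4
        rw [hτ σ k1 k2 hcon.1 hcon.2, f_zero_left]
      exact hne this
    have hcomplD : ∀ σ, altForm4 d σ = 0 → altForm4 e σ = 0 → σ ≠ 0 → σ ∈ Dset P := by
      intro σ k1 k2 hne
      have hdet : altForm4 σ₀ σ₁ ≠ 0 := hσσ
      set u := altForm4 σ₁ σ / altForm4 σ₀ σ₁ with hu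
      set v := altForm4 σ₀ σ / altForm4 σ₀ σ₁ with hv
      have hσ : σ = u • σ₀ + v • σ₁ := by
        refine add_eq_zero_vec (eq_zero_of_four hde hσσ hσ1 hσ2 hτ1 hτ2 ?_ ?_ ?_ ?_)
        · simp [f_add_right, f_smul_right, k1, hσ1, hτ1]
        · simp [f_add_right, f_smul_right, k2, hσ2, hτ2]
        · rw [f_add_right, f_add_right, f_smul_right, f_smul_right, f_self, mul_zero, zero_add, hv,
            div_mul_cancel₀ _ hdet]
          exact CharTwo.add_self_eq_zero _
        · rw [f_add_right, f_add_right, f_smul_right, f_smul_right, f_self, mul_zero, add_zero, hu,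
            f_comm σ₁ σ₀, div_mul_cancel₀ _ hdet]
          exact CharTwo.add_self_eq_zero _
      obtain ⟨α, β, hαβ, hab⟩ : ∃ α β : F, σ = α • (σ₀ + σ₁) + β • (σ₀ + c • σ₁) ∧ (α ≠ 0 ∨ β ≠ 0) := by
        refine ⟨u + (u + v) / (c + 1), (u + v) / (c + 1), ?_, ?_⟩
        · conv_lhs => rw [hσ]
          simp only [smul_add, smul_smul]
          rw [add_add_add_comm, ← add_smul, ← add_smul]
          congr 2
          · rw [add_assoc, CharTwo.add_self_eq_zero, add_zero]
          · field_simp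
            linear_combination (-u * c - u) * CharTwo.two_eq_zero (R := F)
        · by_contra hcon
          push Not at hcon
          have h1 : u = 0 := by simpa [hcon.2] using hcon.1
          have h2 : v = 0 := by simpa [h1, hc10] using hcon.2
          exact hne (by rw [hσ, h1, h2, zero_smul, zero_smul, add_zero])
      exact hαβ ▸ hline _ hs1 _ hs2 hss α β hab
    obtain ⟨π, σ, rfl, hπ, k1, k2⟩ := hdec x
    rcases eq_or_ne σ 0 with rfl | hσ0
    · rw [add_zero] at hx ⊢
      exact hPl π hπ hx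
    rcases eq_or_ne π 0 with rfl | hπ0
    · rw [zero_add]; exact hcomplD σ k1 k2 hσ0
    -- move the complement part
    have move : ∀ τ, altForm4 d τ = 0 → altForm4 e τ = 0 → π + τ ∈ Dset P → altForm4 τ σ ≠ 0 →
        π + σ ∈ Dset P := by
      intro τ m1 m2 hτD hne
      have hD : τ + σ ∈ Dset P := hcomplD _ (by rw [f_add_right, m1, k1, add_zero])
        (by rw [f_add_right, m2, k2, add_zero]) fun h => hne (by rw [add_eq_zero_vec h, f_self])
      have hne' : altForm4 (π + τ) (τ + σ) ≠ 0 := by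
        rw [f_add_left, f_add_right, f_add_right, f_self, horth _ _ hπ m1 m2, horth _ _ hπ k1 k2,
          zero_add, zero_add, zero_add]
        exact hne
      have h := hline _ hτD _ hD hne' 1 1 (Or.inl one_ne_zero)
      rwa [one_smul, one_smul, add_assoc, ← add_assoc τ τ, add_self_vec, zero_add] at h
    rcases hperp σ k1 k2 hσ0 with h | h
    · exact move σ₀ hσ1 hσ2 (hanyσ₀ π hπ hπ0) h
    · exact move σ₁ hτ1 hτ2 (hany₁ π hπ hπ0) h
  obtain ⟨z, hz, π₁, σ₁, hz_eq, hπ₁, hτ1, hτ2, hσσ⟩ : ∃ z ∈ Dset P, ∃ π₁ σ₁, z = π₁ + σ₁ ∧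
      (∃ a b : F, π₁ = a • d + b • e) ∧ altForm4 d σ₁ = 0 ∧ altForm4 e σ₁ = 0 ∧
      altForm4 σ₀ σ₁ ≠ 0 := by
    by_contra hcon
    push Not at hcon
    refine hσ₀0 (eq_zero_of_perp_span hS.span_Dset fun z hz => ?_)
    obtain ⟨π₁, σ₁, hz_eq, hπ₁, hτ1, hτ2⟩ := hdec z
    rw [hz_eq, f_add_right, hcon z hz π₁ σ₁ hz_eq hπ₁ hτ1 hτ2, add_zero, f_comm]
    exact horth _ _ hπ₁ hσ1 hσ2
  rw [hz_eq] at hz
  by_cases h : π₁ = 0
  · rw [h, zero_add] at hz
    have hdP : (∃ a' b' : F, d = a' • d + b' • e) := ⟨1, 0, by simp⟩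
    have hne : altForm4 (d + σ₀) σ₁ ≠ 0 := by rwa [f_add_left, hτ1, zero_add]
    have h2 := hline _ (hanyσ₀ d hdP hd.1) _ hz hne 1 1 (Or.inl one_ne_zero)
    rw [one_smul, one_smul, add_assoc] at h2
    exact key (σ₀ + σ₁) d hdP (by rw [f_add_right, hσ1, hτ1, add_zero])
      (by rw [f_add_right, hσ2, hτ2, add_zero]) (by rwa [f_add_right, f_self, zero_add]) h2 hd.1
  · exact key σ₁ π₁ hπ₁ hτ1 hτ2 hσσ hz h

end Cfsg.Agent.H97.SpEven
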