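import Cfsg.Agent.H97.SpEven.Basic
import Cfsg.Agent.H97.SpEven.Plane

/-!
The duality `g ↦ g*` of the symplectic four-space in characteristic two.
-/

set_option autoImplicit false
set_option linter.unusedSectionVars false
set_option linter.unusedSimpArgs false

namespace Cfsg.Agent.H97.SpEven

open Matrix
open Cfsg.Lie (altForm4 star4 pairOf)
open Cfsg.Agent.Suzuki (plucker mem_Sp4_iff form_right)

variable {F : Type*} [Field F] [CharP F 2]

local notation "V4" => (Fin 4 → F)
local notation "M4" => Matrix (Fin 4) (Fin 4) F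
local notation "G4" => GL (Fin 4) F

theorem two0 : (2 : F) = 0 := CharTwo.two_eq_zero

/-- `π(g v ∧ g u) = g* π(v ∧ u)` on isotropic pairs. -/
theorem star_plucker {g : G4} (hg : g ∈ Lie.Sp4 F) {v u : V4} (hvu : altForm4 v u = 0) :
    plucker ((g : M4) *ᵥ v) ((g : M4) *ᵥ u) = star4 (g : M4) *ᵥ plucker v u := by
  have hJ : ∀ k l, ((g : M4) * suzukiForm F * (g : M4).transpose) k l = suzukiForm F k l :=
    fun k l => by rw [form_right (mem_Sp4_iff.mp hg)]
  have a01 := hJ 0 1
  have a02 := hJ 0 2
  have a13 := hJ 1 3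
  have a23 := hJ 2 3
  simp only [Matrix.mul_apply, Matrix.transpose_apply, Fin.sum_univ_four, suzukiForm] at a01 a02 a13 a23
  simp at a01 a02 a13 a23
  simp [altForm4] at hvu
  funext p
  fin_cases p <;>
    simp [plucker, star4, pairOf, Matrix.mulVec, dotProduct, Fin.sum_univ_four, CharTwo.sub_eq_add]
  · linear_combination (norm := skip) ((g : M4) 0 2 * (g : M4) 1 1 + (g : M4) 0 1 * (g : M4) 1 2) * hvu +
      (v 0 * u 3 + v 3 * u 0) * a01
    ring_nf
    simp [two0]
  · linear_combination (norm := skip) ((g : M4) 0 2 * (g : M4) 2 1 + (g : M4) 0 1 * (g : M4) 2 2) * hvu +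
      (v 0 * u 3 + v 3 * u 0) * a02
    ring_nf
    simp [two0]
  · linear_combination (norm := skip) ((g : M4) 1 2 * (g : M4) 3 1 + (g : M4) 1 1 * (g : M4) 3 2) * hvu +
      (v 0 * u 3 + v 3 * u 0) * a13
    ring_nf
    simp [two0]
  · linear_combination (norm := skip) ((g : M4) 2 2 * (g : M4) 3 1 + (g : M4) 2 1 * (g : M4) 3 2) * hvu +
      (v 0 * u 3 + v 3 * u 0) * a23
    ring_nf
    simp [two0]

/-- The pairing of two isotropic lines. -/
theorem f_plucker {v u v' u' : V4} (h : altForm4 v u = 0) (h' : altForm4 v' u' = 0) :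
    altForm4 (plucker v u) (plucker v' u') =
      altForm4 v v' * altForm4 u u' + altForm4 v u' * altForm4 u v' := by
  simp only [altForm4] at h h' ⊢
  simp [plucker, pairOf, CharTwo.sub_eq_add]
  linear_combination (norm := skip) (v 0 * u 3 + v 3 * u 0) * h' + (v' 1 * u' 2 + v' 2 * u' 1) * h
  ring_nf
  simp [two0]

/-- Two lines through a point: the pairing returns the squared point. -/
theorem plucker_plucker {v u u' : V4} (h : altForm4 v u = 0) (h' : altForm4 v u' = 0) :
    plucker (plucker v u) (plucker v u') = fun k => altForm4 u u' * v k ^ 2 := by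
  simp only [altForm4] at h h' ⊢
  funext k
  fin_cases k <;> simp [plucker, pairOf, CharTwo.sub_eq_add]
  · linear_combination (norm := skip) (v 0 * u' 0) * h + (v 0 * u 0) * h'
    ring_nf
    simp [two0]
  · linear_combination (norm := skip) (v 1 * u' 1) * h + (v 1 * u 1) * h'
    ring_nf
    simp [two0]
  · linear_combination (norm := skip) (v 2 * u' 2) * h + (v 2 * u 2) * h'
    ring_nf
    simp [two0]
  · linear_combination (norm := skip) (v 3 * u' 3) * h + (v 3 * u 3) * h'
    ring_nf
    simp [two0]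

/-- The isotropic pair of a coordinate vector. -/
theorem plucker_basis (p : Fin 4) :
    altForm4 (Pi.single (pairOf p).1 (1 : F) : V4) (Pi.single (pairOf p).2 (1 : F)) = 0 ∧
      plucker (Pi.single (pairOf p).1 (1 : F) : V4) (Pi.single (pairOf p).2 (1 : F)) = Pi.single p 1 := by
  fin_cases p <;> refine ⟨by simp [altForm4, pairOf], ?_⟩ <;> funext k <;> fin_cases k <;>
    simp [plucker, pairOf, CharTwo.sub_eq_add]

theorem col_eq (A : M4) (j : Fin 4) : A *ᵥ Pi.single j (1 : F) = fun i => A i j := by
  simp [Matrix.mulVec_single_one]; rfl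

theorem star_mul {g h : G4} (hg : g ∈ Lie.Sp4 F) (hh : h ∈ Lie.Sp4 F) :
    star4 ((g * h : G4) : M4) = star4 (g : M4) * star4 (h : M4) := by
  refine Matrix.ext_of_mulVec_single fun p => ?_
  obtain ⟨h0, hp⟩ := plucker_basis (F := F) p
  have h1 := (f_map hh (Pi.single (pairOf p).1 (1 : F)) (Pi.single (pairOf p).2 (1 : F))).trans h0
  rw [← hp, ← star_plucker ((Lie.Sp4 F).mul_mem hg hh) h0, ← mulVec_mulVec, ← star_plucker hh h0,
    ← star_plucker hg h1, Units.val_mul, mulVec_mulVec, mulVec_mulVec]

theorem star_one : star4 (1 : M4) = 1 := by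
  ext p r
  fin_cases p <;> fin_cases r <;> simp [star4, pairOf, CharTwo.sub_eq_add, Matrix.one_apply]

theorem f_star {g : G4} (hg : g ∈ Lie.Sp4 F) (x y : V4) :
    altForm4 (star4 (g : M4) *ᵥ x) (star4 (g : M4) *ᵥ y) = altForm4 x y := by
  have hb : ∀ p r : Fin 4, altForm4 (star4 (g : M4) *ᵥ Pi.single p (1 : F)) (star4 (g : M4) *ᵥ Pi.single r (1 : F)) =
      altForm4 (Pi.single p (1 : F) : V4) (Pi.single r (1 : F)) := by
    intro p r
    obtain ⟨h0, hp⟩ := plucker_basis (F := F) p
    obtain ⟨k0, hr⟩ := plucker_basis (F := F) r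
    rw [← hp, ← hr, ← star_plucker hg h0, ← star_plucker hg k0, f_plucker ((f_map hg _ _).trans h0)
      ((f_map hg _ _).trans k0), f_plucker h0 k0, f_map hg, f_map hg, f_map hg, f_map hg]
  have hlin : ∀ y : V4, y = y 0 • Pi.single 0 (1 : F) + y 1 • Pi.single 1 (1 : F) +
      y 2 • Pi.single 2 (1 : F) + y 3 • Pi.single 3 (1 : F) := fun y => by
    funext i; fin_cases i <;> simp
  rw [hlin x, hlin y]
  simp only [mulVec_add, mulVec_smul, f_add_left, f_add_right, f_smul_left, f_smul_right, hb]

/-- The duality as a homomorphism. -/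
def starHom : Lie.Sp4 F →* G4 :=
  MonoidHom.toHomUnits
    { toFun := fun g => star4 ((g : G4) : M4)
      map_one' := star_one
      map_mul' := fun g h => star_mul g.2 h.2 }

theorem starHom_coe (g : Lie.Sp4 F) : (starHom g : M4) = star4 ((g : G4) : M4) := rfl

theorem starHom_mem (g : Lie.Sp4 F) : starHom g ∈ Lie.Sp4 F := fun x y => f_star g.2 x y

/-- The square of the duality is the Frobenius map. -/
theorem star_star {g : G4} (hg : g ∈ Lie.Sp4 F) : star4 (star4 (g : M4)) = (g : M4).map (· ^ 2) := by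
  refine Matrix.ext_of_mulVec_single fun i => ?_
  obtain ⟨u, u', h, h', hsum⟩ : ∃ u u' : V4, altForm4 (Pi.single i (1 : F)) u = 0 ∧
      altForm4 (Pi.single i (1 : F)) u' = 0 ∧ altForm4 u u' = 1 := by
    fin_cases i
    · exact ⟨Pi.single 1 1, Pi.single 2 1, by simp [altForm4], by simp [altForm4], by simp [altForm4]⟩
    · exact ⟨Pi.single 0 1, Pi.single 3 1, by simp [altForm4], by simp [altForm4], by simp [altForm4]⟩
    · exact ⟨Pi.single 0 1, Pi.single 3 1, by simp [altForm4], by simp [altForm4], by simp [altForm4]⟩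
    · exact ⟨Pi.single 1 1, Pi.single 2 1, by simp [altForm4], by simp [altForm4], by simp [altForm4]⟩
  have hπ : altForm4 (plucker (Pi.single i (1 : F)) u) (plucker (Pi.single i (1 : F)) u') = 0 := by
    rw [f_plucker h h', f_self, zero_mul, h', zero_mul, zero_add]
  have hsq : (Pi.single i (1 : F) : V4) = plucker (plucker (Pi.single i (1 : F)) u) (plucker (Pi.single i (1 : F)) u') := by
    rw [plucker_plucker h h']
    funext k
    by_cases hk : k = i
    · subst hk; simp [hsum]
    · simp [Pi.single_eq_of_ne hk]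
  conv_lhs => rw [hsq]
  have key := star_plucker (starHom_mem ⟨g, hg⟩) hπ
  rw [starHom_coe] at key
  rw [← key, ← star_plucker hg h, ← star_plucker hg h',
    plucker_plucker ((f_map hg _ _).trans h) ((f_map hg _ _).trans h'), f_map hg, hsum, col_eq, col_eq]
  funext k
  simp

theorem star_eq_one {g : G4} (hg : g ∈ Lie.Sp4 F) (h : star4 (g : M4) = 1) : g = 1 := by
  have h2 := star_star hg
  rw [h, star_one] at h2
  refine Units.ext (Matrix.ext fun i j => ?_)
  have h3 : ((g : M4) i j) ^ 2 = (1 : M4) i j := by rw [h2, Matrix.map_apply]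
  by_cases hij : i = j
  · subst hij
    rw [Matrix.one_apply_eq] at h3
    have h4 : ((g : M4) i i + 1) ^ 2 = 0 := by
      linear_combination h3 + ((g : M4) i i + 1) * two0 (F := F)
    rw [Units.val_one, Matrix.one_apply_eq]
    exact CharTwo.add_eq_zero.mp (eq_zero_of_pow_eq_zero h4)
  · rw [Matrix.one_apply_ne hij] at h3
    rw [Units.val_one, Matrix.one_apply_ne hij]
    exact eq_zero_of_pow_eq_zero h3

theorem starHom_injective : Function.Injective (starHom (F := F)) := by
  rw [injective_iff_map_eq_one]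
  intro g hg
  exact Subtype.ext (star_eq_one g.2 (congrArg Units.val hg))

theorem det_one_add (A : M4) : (1 + A).det = 1 + A.trace + (A 0 0 * A 1 1 - A 0 1 * A 1 0) +
    (A 0 0 * A 2 2 - A 0 2 * A 2 0) + (A 0 0 * A 3 3 - A 0 3 * A 3 0) +
    (A 1 1 * A 2 2 - A 1 2 * A 2 1) + (A 1 1 * A 3 3 - A 1 3 * A 3 1) +
    (A 2 2 * A 3 3 - A 2 3 * A 3 2) + A.adjugate.trace + A.det := by
  simp [Matrix.trace, Fin.sum_univ_four, Matrix.adjugate_fin_succ_eq_det_submatrix, Matrix.det_succ_row_zero,
    Fin.sum_univ_succ, Matrix.one_apply, Fin.succAbove]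
  ring

/-- The trace of the dual is the value of the characteristic polynomial at one. -/
theorem trace_star {h : G4} (hh : h ∈ Lie.Sp4 F) :
    (star4 (h : M4)).trace = ((h : M4) + 1).det := by
  have hc := mem_Sp4_iff.mp hh
  have hr := form_right hc
  have hJ : suzukiForm F * suzukiForm F = 1 := by
    ext i j; fin_cases i <;> fin_cases j <;> simp [suzukiForm]
  have hdet : (h : M4).det = 1 := by
    have h1 := congrArg Matrix.det hc
    rw [Matrix.det_mul, Matrix.det_mul, Matrix.det_transpose] at h1
    have hJd : (suzukiForm F).det ≠ 0 := fun h0 => by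
      have := congrArg Matrix.det hJ
      rw [Matrix.det_mul, h0, mul_zero, Matrix.det_one] at this
      exact zero_ne_one this
    have h2 : (h : M4).det ^ 2 = 1 := by
      have h3 : (h : M4).det * (h : M4).det * (suzukiForm F).det = 1 * (suzukiForm F).det := by
        linear_combination h1
      rw [sq]; exact mul_right_cancel₀ hJd h3
    have h4 : ((h : M4).det + 1) ^ 2 = 0 := by
      linear_combination h2 + ((h : M4).det + 1) * two0 (F := F)
    exact CharTwo.add_eq_zero.mp (eq_zero_of_pow_eq_zero h4)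
  have hadj : (h : M4).adjugate = suzukiForm F * (h : M4).transpose * suzukiForm F := by
    have h1 : (suzukiForm F * (h : M4).transpose * suzukiForm F) * (h : M4) = 1 := by
      rw [Matrix.mul_assoc, Matrix.mul_assoc, ← Matrix.mul_assoc (h : M4).transpose, hc, hJ]
    calc (h : M4).adjugate = suzukiForm F * (h : M4).transpose * suzukiForm F *
          ((h : M4) * (h : M4).adjugate) := by rw [← Matrix.mul_assoc, h1, Matrix.one_mul]
      _ = _ := by rw [Matrix.mul_adjugate, hdet, one_smul, Matrix.mul_one]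
  have htr : (h : M4).adjugate.trace = (h : M4).trace := by
    rw [hadj, Matrix.mul_assoc, Matrix.trace_mul_comm, Matrix.mul_assoc, hJ, Matrix.mul_one,
      Matrix.trace_transpose]
  rw [add_comm ((h : M4)), det_one_add, htr, hdet]
  have c12 := congrFun (congrFun hc 1) 2
  have r03 := congrFun (congrFun hr 0) 3
  simp only [Matrix.mul_apply, Matrix.transpose_apply, Fin.sum_univ_four, suzukiForm] at c12 r03
  simp at c12 r03
  simp [star4, pairOf, Matrix.trace, Fin.sum_univ_four, CharTwo.sub_eq_add]
  linear_combination (norm := skip) c12 + r03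
  ring_nf
  simp [two0]

end Cfsg.Agent.H97.SpEven
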