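import Cfsg.Agent.H97.SpEven.TvTwo

/-!
A simple irreducible symplectic group with a transvection: all transvections or a smaller field.
-/

set_option autoImplicit false
set_option linter.unusedSectionVars false

namespace Cfsg.Agent.H97.SpEven

open Matrix
open Cfsg.Lie (altForm4)
open Cfsg.Geo (matrixSet ActsIrreducibly RealisableOver)

variable {F : Type*} [Field F] [CharP F 2]

local notation "V4" => (Fin 4 → F)
local notation "G4" => GL (Fin 4) F

/-- The field of two elements inside a field of characteristic two. -/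
def twoField (F : Type*) [Field F] [CharP F 2] : Subfield F where
  carrier := {x | x = 0 ∨ x = 1}
  zero_mem' := Or.inl rfl
  one_mem' := Or.inr rfl
  add_mem' := by rintro a b (rfl | rfl) (rfl | rfl) <;> simp [CharTwo.add_self_eq_zero]
  neg_mem' {a} ha := by rwa [CharTwo.neg_eq]
  mul_mem' := by rintro a b (rfl | rfl) (rfl | rfl) <;> simp
  inv_mem' := by rintro a (rfl | rfl) <;> simp

theorem tv_main [Finite F] {P : Subgroup G4} [IsSimpleGroup P] (sp : P ≤ Lie.Sp4 F)
    (irr : ActsIrreducibly (matrixSet P)) (ne : (Dset P).Nonempty) (hq : ∃ c : F, c ≠ 0 ∧ c ≠ 1) :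
    (∀ v : V4, v ≠ 0 → v ∈ Dset P) ∨
      ∃ F₀ : Subfield F, F₀ ≠ ⊤ ∧ RealisableOver F₀ (matrixSet P) := by
  classical
  haveI : Fintype F := Fintype.ofFinite F
  have hS := Setting.of_simple sp irr ne
  obtain ⟨d₀, hd₀⟩ := hS.ne
  by_cases h3 : 2 < Nat.card (hS.field hd₀)
  · by_cases htop : hS.field hd₀ = ⊤
    · refine Or.inl fun v hv => hS.all_vectors hq (fun d hd c hc => ⟨smul_ne_zero hc hd.1, ?_⟩) hv
      have h : c ∈ scal P d₀ := (htop ▸ Subfield.mem_top c : c ∈ hS.field hd₀)
      rw [hS.scal_eq hd₀ hd] at h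
      exact h
    · refine Or.inr ⟨_, htop, realisable_of_values sp hS.span_Dset _ fun d hd e he => ?_⟩
      have heq : hS.field hd = hS.field hd₀ :=
        SetLike.ext fun c => by show c ∈ scal P d ↔ c ∈ scal P d₀; rw [hS.scal_eq hd hd₀]
      exact heq ▸ hS.form_mem_field hd he (heq ▸ h3)
  · have hA : OneScalar P := by
      intro d hd c hc
      by_contra hc1
      have hc0 : c ≠ 0 := fun h => hc.1 (by rw [h, zero_smul])
      have hcF : c ∈ hS.field hd₀ := by
        show c ∈ scal P d₀
        rw [hS.scal_eq hd₀ hd]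
        exact hc.2
      refine h3 ?_
      let g : Fin 3 → hS.field hd₀ := ![0, 1, ⟨c, hcF⟩]
      have hg : Function.Injective g := by
        intro i j h
        have h' := congrArg Subtype.val h
        fin_cases i <;> fin_cases j <;> simp [g, hc0, hc1, Ne.symm hc0, Ne.symm hc1] at h' ⊢
      have := Nat.card_le_card_of_injective g hg
      rw [Nat.card_eq_fintype_card, Fintype.card_fin] at this
      omega
    refine Or.inr ⟨twoField F, fun h => ?_, realisable_of_values sp hS.span_Dset _
      (values_of_oneScalar hS hA)⟩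
    obtain ⟨c, hc0, hc1⟩ := hq
    have : c ∈ twoField F := h ▸ Subfield.mem_top c
    exact this.elim hc0 hc1

end Cfsg.Agent.H97.SpEven
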