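import Cfsg.Agent.H97.SpEven.Involution
import Cfsg.Agent.H97.SpEven.TvMain
import Cfsg.Agent.Linear.Mitchell.Traces

/-!
A simple group containing the dual of a transvection is realised over a proper subfield.
-/

set_option autoImplicit false
set_option linter.unusedSectionVars false
set_option linter.style.haveILetI false

namespace Cfsg.Agent.H97.SpEven

open Matrix
open Cfsg.Lie (altForm4 star4)
open Cfsg.Geo (matrixSet ActsIrreducibly ActsAbsolutelyIrreducibly RealisableOver)

variable {F : Type*} [Field F] [CharP F 2]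

local notation "V4" => (Fin 4 → F)
local notation "M4" => Matrix (Fin 4) (Fin 4) F
local notation "G4" => GL (Fin 4) F

theorem star_inj_eq {g h : G4} (hg : g ∈ Lie.Sp4 F) (hh : h ∈ Lie.Sp4 F)
    (e : star4 (g : M4) = star4 (h : M4)) : g = h :=
  congrArg Subtype.val (starHom_injective (a₁ := ⟨g, hg⟩) (a₂ := ⟨h, hh⟩) (Units.ext e))

/-- The parameters of a root element. -/
theorem exists_root [Finite F] (p : V4) : ∃ a ∈ Lie.Sp4 F, star4 ((a : G4) : M4) = tvMat p := by
  haveI : Fintype F := Fintype.ofFinite F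
  obtain ⟨r, hr⟩ := exists_sqrt (F := F) (p 0 * p 3 + p 1 * p 2)
  set N : M4 := !![r, p 1, p 0, 0; p 2, r, 0, p 0; p 3, 0, r, p 1; 0, p 3, p 2, r]
  have hNN : (1 + N) * (1 + N) = 1 := by
    ext i j
    fin_cases i <;> fin_cases j <;>
      simp [N, Matrix.mul_apply, Fin.sum_univ_four, Matrix.one_apply] <;>
      first
      | (linear_combination (norm := (ring_nf; simp [two0]; done)) hr)
      | (linear_combination (norm := (ring_nf; simp [two0]; done)) (0 : F) * hr)
  have hp : p = ![p 0, p 1, p 2, p 3] := by funext i; fin_cases i <;> rfl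
  refine ⟨⟨1 + N, 1 + N, hNN, hNN⟩, Suzuki.mem_Sp4_iff.mpr ?_,
    hp ▸ star_root _ _ _ _ _ r hr rfl⟩
  show (1 + N)ᵀ * suzukiForm F * (1 + N) = suzukiForm F
  ext i j
  fin_cases i <;> fin_cases j <;>
    simp [N, suzukiForm, Matrix.mul_apply, Fin.sum_univ_four, Matrix.one_apply, Matrix.transpose_apply] <;>
    first
      | (linear_combination (norm := (ring_nf; simp [two0]; done)) hr)
      | (linear_combination (norm := (ring_nf; simp [two0]; done)) (0 : F) * hr)

theorem det_map_mem (F₀ : Subfield F) {A : M4} {B : G4}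
    (h : ∀ i j, ((B : M4) * A * ((B⁻¹ : G4) : M4)) i j ∈ F₀) : (A + 1).det ∈ F₀ := by
  let A₀ : Matrix (Fin 4) (Fin 4) F₀ := Matrix.of fun i j => ⟨_, h i j⟩
  have e : (B : M4) * (A + 1) * ((B⁻¹ : G4) : M4) = (A₀ + 1).map F₀.subtype := by
    rw [Matrix.map_add _ (map_add _), Matrix.map_one _ (map_zero _) (map_one _), Matrix.mul_add,
      Matrix.add_mul, Matrix.mul_one, ← Units.val_mul B, mul_inv_cancel, Units.val_one]
    rfl
  rw [← Matrix.det_units_conj B (A + 1), e, ← RingHom.mapMatrix_apply, ← RingHom.map_det]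
  exact (A₀ + 1).det.2

theorem exists_perp {U : Submodule F V4} (h : U ≠ ⊤) :
    ∃ z : V4, z ≠ 0 ∧ ∀ x ∈ U, altForm4 z x = 0 := by
  obtain ⟨φ, hφ, hle⟩ := Submodule.exists_le_ker_of_lt_top _ (lt_top_iff_ne_top.mpr h)
  set z : V4 := ![φ (Pi.single 3 1), φ (Pi.single 2 1), φ (Pi.single 1 1), φ (Pi.single 0 1)]
  have hz : ∀ x, altForm4 z x = φ x := fun x => by
    conv_rhs => rw [vec_eq x]
    simp [z, altForm4]
    ring
  exact ⟨z, fun h0 => hφ (LinearMap.ext fun x => by rw [← hz, h0, f_zero_left]; rfl),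
    fun x hx => by rw [hz]; exact LinearMap.mem_ker.mp (hle hx)⟩

/-- The dual group has no fixed point. -/
theorem star_not_fixed [Finite F] {P : Subgroup G4} (sp : P ≤ Lie.Sp4 F)
    (irr : ActsIrreducibly (matrixSet P)) {p : V4} (hp : p ≠ 0) :
    ¬ ∀ g ∈ P, star4 (g : M4) *ᵥ p = p := by
  intro hfix
  obtain ⟨a, ha, hap⟩ := exists_root p
  have hcomm : ∀ g ∈ P, g * a = a * g := by
    intro g hg
    refine star_inj_eq (mul_mem (sp hg) ha) (mul_mem ha (sp hg)) ?_
    have h1 := tv_conj (starHom_mem ⟨g, sp hg⟩) p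
    rw [starHom_coe, hfix g hg, mul_inv_eq_iff_eq_mul] at h1
    rw [star_mul (sp hg) ha, star_mul ha (sp hg), hap]
    exact congrArg Units.val h1
  have ha1 : a ≠ 1 := fun h => by
    rw [h, Units.val_one, star_one] at hap
    exact tv_ne_one hp (Units.ext hap.symm)
  have ha2 : a * a = 1 := star_inj_eq (mul_mem ha ha) (one_mem _) (by
    rw [star_mul ha ha, hap, Units.val_one, star_one, tvMat_mul_self])
  set N : M4 := (a : M4) + 1
  rcases irr (LinearMap.ker N.mulVecLin) (by
      rintro _ ⟨g, hg, rfl⟩ _ ⟨x, hx, rfl⟩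
      have hx' : N *ᵥ x = 0 := hx
      rw [Matrix.toLin'_apply]
      show N *ᵥ ((g : M4) *ᵥ x) = 0
      have hNg : N * (g : M4) = (g : M4) * N := by
        simp only [N, add_mul, mul_add, one_mul, mul_one, ← Units.val_mul, hcomm g hg]
      rw [mulVec_mulVec, hNg, ← mulVec_mulVec, hx', mulVec_zero]) with hbot | htop
  · have hinj := LinearMap.ker_eq_bot.mp hbot
    refine ha1 (gl_ext fun x => ?_)
    rw [Units.val_one, one_mulVec]
    refine add_eq_zero_vec (hinj (a₂ := 0) ?_)
    rw [map_zero]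
    show N *ᵥ ((a : M4) *ᵥ x + x) = 0
    have haa : (a : M4) * (a : M4) = 1 := by rw [← Units.val_mul, ha2, Units.val_one]
    rw [mulVec_add]
    simp only [N, mulVec_mulVec, add_mul, one_mul, haa, add_mulVec, one_mulVec]
    rw [add_comm x, add_self_vec]
  · refine ha1 (gl_ext fun x => ?_)
    rw [Units.val_one, one_mulVec]
    refine add_eq_zero_vec ?_
    have : x ∈ LinearMap.ker N.mulVecLin := htop ▸ Submodule.mem_top
    simpa [N, add_mulVec] using this

/-- A root element in the group: a smaller field or all transvections. -/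
theorem root_case [Finite F] {P : Subgroup G4} [IsSimpleGroup P] (sp : P ≤ Lie.Sp4 F)
    (habs : ActsAbsolutelyIrreducibly (matrixSet P)) (hq : ∃ c : F, c ≠ 0 ∧ c ≠ 1)
    {t : G4} (htP : t ∈ P) {p : V4} (hp : p ≠ 0) (ht : star4 (t : M4) = tvMat p) :
    (∃ v : V4, v ≠ 0 ∧ tv v ∈ P) ∨ ∃ F₀ : Subfield F, F₀ ≠ ⊤ ∧ RealisableOver F₀ (matrixSet P) := by
  classical
  let S : P →* G4 := starHom.comp (Subgroup.inclusion sp)
  have hScoe : ∀ g : P, (S g : M4) = star4 ((g : G4) : M4) := fun g => rfl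
  set P' := S.range
  have hSinj : Function.Injective S := starHom_injective.comp (Subgroup.inclusion_injective sp)
  haveI : IsSimpleGroup P' := MulEquiv.isSimpleGroup (MonoidHom.ofInjective hSinj).symm
  have sp' : P' ≤ Lie.Sp4 F := by rintro _ ⟨g, rfl⟩; exact starHom_mem _
  have htv : S ⟨t, htP⟩ = tv p := Units.ext ht
  have hne : (Dset P').Nonempty := ⟨p, hp, htv ▸ ⟨_, rfl⟩⟩
  have irr' : ActsIrreducibly (matrixSet P') := by
    intro U hU
    by_contra hcon
    push Not at hcon
    obtain ⟨hU0, hU1⟩ := hcon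
    have hinv : ∀ g ∈ P', ∀ x ∈ U, (g : M4) *ᵥ x ∈ U := fun g hg x hx => by
      have := hU _ ⟨g, hg, rfl⟩ ⟨x, hx, rfl⟩
      rwa [Matrix.toLin'_apply] at this
    -- an invariant space fixed pointwise by the transvection is fixed by all
    have hfix : ∀ W : Submodule F V4, W ≠ ⊥ → (∀ g ∈ P', ∀ x ∈ W, (g : M4) *ᵥ x ∈ W) →
        (∀ x ∈ W, altForm4 p x = 0) → False := by
      intro W hW hWinv hperp
      let Kf : Subgroup P' :=
        { carrier := {g | ∀ x ∈ W, ((g : G4) : M4) *ᵥ x = x}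
          one_mem' := fun x _ => by simp
          mul_mem' := fun {g h} hg hh x hx => by
            rw [Subgroup.coe_mul, Units.val_mul, ← mulVec_mulVec, hh x hx, hg x hx]
          inv_mem' := fun {g} hg x hx => by
            conv_lhs => rw [← hg x hx]
            rw [Subgroup.coe_inv]
            exact mulVec_inv (g : G4) x }
      have hn : Kf.Normal := ⟨fun g hg h x hx => by
        rw [Subgroup.coe_mul, Subgroup.coe_mul, Subgroup.coe_inv, Units.val_mul, Units.val_mul,
          ← mulVec_mulVec, ← mulVec_mulVec, hg _ (hWinv _ (P'.inv_mem h.2) x hx), mulVec_inv']⟩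
      rcases hn.eq_bot_or_eq_top with hb | htop
      · have hm : (⟨S ⟨t, htP⟩, ⟨_, rfl⟩⟩ : P') ∈ Kf := fun x hx => by
          show (S ⟨t, htP⟩ : M4) *ᵥ x = x
          rw [htv]
          exact tv_fix (hperp x hx)
        rw [hb, Subgroup.mem_bot] at hm
        exact tv_ne_one hp (htv.symm.trans (congrArg Subtype.val hm))
      · obtain ⟨w, hwW, hw0⟩ := W.ne_bot_iff.mp hW
        refine star_not_fixed sp habs.1 hw0 fun g hg => ?_
        have : (⟨S ⟨g, hg⟩, ⟨_, rfl⟩⟩ : P') ∈ Kf := htop ▸ Subgroup.mem_top _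
        exact this w hwW
    by_cases hpU : ∀ x ∈ U, altForm4 p x = 0
    · exact hfix U hU0 hinv hpU
    -- otherwise the vector is in the space
    push Not at hpU
    obtain ⟨x, hx, hpx⟩ := hpU
    have hpmem : p ∈ U := by
      have h1 := hinv _ (htv ▸ ⟨⟨t, htP⟩, rfl⟩ : tv p ∈ P') x hx
      rw [tv_apply] at h1
      have h2 := U.smul_mem (altForm4 p x)⁻¹ (U.sub_mem h1 hx)
      rwa [add_sub_cancel_left, smul_smul, inv_mul_cancel₀ hpx, one_smul] at h2
    obtain ⟨z, hz0, hz⟩ := exists_perp hU1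
    let W : Submodule F V4 :=
      { carrier := {y | ∀ x ∈ U, altForm4 y x = 0}
        zero_mem' := fun x _ => f_zero_left x
        add_mem' := fun {a b} ha hb x hx => by rw [f_add_left, ha x hx, hb x hx, add_zero]
        smul_mem' := fun c a ha x hx => by rw [f_smul_left, ha x hx, mul_zero] }
    refine hfix W (fun h => hz0 ?_) ?_ (fun y hy => by rw [f_comm]; exact hy p hpmem)
    · have : z ∈ W := hz
      rwa [h, Submodule.mem_bot] at this
    · intro g hg y hy w hw
      rw [f_comm, f_map_inv (sp' hg), f_comm]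
      exact hy _ (hinv _ (P'.inv_mem hg) w hw)
  rcases tv_main sp' irr' hne hq with hall | ⟨F₀, hF₀, B, hB⟩
  · -- all transvections in the dual group: all root elements in the group
    left
    have hroot : ∀ q : V4, q ≠ 0 → ∀ a ∈ Lie.Sp4 F, star4 ((a : G4) : M4) = tvMat q → a ∈ P := by
      intro q hq0 a ha haq
      obtain ⟨g, hg⟩ := (hall q hq0).2
      have : (g : G4) = a := star_inj_eq (sp g.2) ha (by rw [← hScoe, hg, haq]; rfl)
      exact this ▸ g.2
    obtain ⟨a₀, ha₀, e₀⟩ := exists_root (Pi.single 0 (1 : F) : V4)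
    obtain ⟨a₁, ha₁, e₁⟩ := exists_root (Pi.single 1 (1 : F) : V4)
    obtain ⟨a₂, ha₂, e₂⟩ := exists_root (Pi.single 0 1 + Pi.single 1 (1 : F) : V4)
    refine ⟨Pi.single 0 1, by simp, ?_⟩
    have heq : a₂ * a₀ * a₁ = tv (Pi.single 0 (1 : F) : V4) := by
      refine star_inj_eq (mul_mem (mul_mem ha₂ ha₀) ha₁) (tv_mem _) ?_
      rw [star_mul (mul_mem ha₂ ha₀) ha₁, star_mul ha₂ ha₀, e₀, e₁, e₂]
      show _ = star4 (tvMat _)
      ext i j
      fin_cases i <;> fin_cases j <;>
        simp [star4, Lie.pairOf, tvMat, suzukiForm, vecMulVec, Matrix.mulVec, dotProduct, Fin.sum_univ_four,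
          Matrix.one_apply, Matrix.mul_apply, CharTwo.sub_eq_add, CharTwo.add_self_eq_zero]
    rw [← heq]
    refine P.mul_mem (P.mul_mem (hroot _ ?_ _ ha₂ e₂) (hroot _ (by simp) _ ha₀ e₀)) (hroot _ (by simp) _ ha₁ e₁)
    intro h
    simpa using congrFun h 0
  · refine Or.inr ⟨F₀, hF₀, Linear.Mitchell.realisableOver_of_traces habs F₀ fun g hg => ?_⟩
    haveI : Fintype F := Fintype.ofFinite F
    refine mem_of_sq_mem F₀ ?_
    have hg' := starHom_mem ⟨g, sp hg⟩
    have h2 : ((g : M4).trace) ^ 2 = (star4 (star4 (g : M4))).trace := by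
      rw [star_star (sp hg)]
      simp only [Matrix.trace, Matrix.diag_apply, Matrix.map_apply]
      exact sum_pow_char 2 _ _
    rw [h2]
    have h3 := trace_star hg'
    rw [starHom_coe] at h3
    rw [h3]
    refine det_map_mem F₀ (B := B) ?_
    exact hB _ ⟨S ⟨g, hg⟩, ⟨_, rfl⟩, rfl⟩

end Cfsg.Agent.H97.SpEven
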