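import Cfsg.Agent.H97.SpEven.Many

/-!
One scalar per point: three transvection vectors on a totally isotropic line off an affine line force
all values of the form to be zero or one.
-/

set_option autoImplicit false
set_option linter.unusedSectionVars false
set_option linter.style.haveILetI false
set_option linter.unusedSimpArgs false

namespace Cfsg.Agent.H97.SpEven

open Matrix Cfsg.Agent.Linear Cfsg.Agent.Linear.Dickson
open Cfsg.Lie (altForm4)

variable {F : Type*} [Field F] [CharP F 2] [Fintype F]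

local notation "V4" => (Fin 4 → F)
local notation "M4" => Matrix (Fin 4) (Fin 4) F
local notation "G4" => GL (Fin 4) F
local notation "S2" => Matrix.SpecialLinearGroup (Fin 2) F
local notation "M2" => Matrix (Fin 2) (Fin 2) F

/-- In SL_2 of characteristic two: with a lower involution, the upper parameters are a multiple of a
subfield and its diagonal elements are in the group. -/
theorem upper_scaled_field (L : Subgroup S2) {c x₀ : F} (hc : c ≠ 0) (hx₀ : x₀ ≠ 0)
    (hlo : loSL c ∈ L) (hup : upSL x₀ ∈ L) :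
    ∃ K : Subfield F, (∀ x, upSL x ∈ L ↔ x / x₀ ∈ K) ∧
      ∀ ν ∈ K, ν ≠ 0 → ∃ g ∈ L, (g : M2) 0 0 = ν ∧ (g : M2) 1 0 = 0 ∧ (g : M2) 0 1 = 0 := by
  classical
  -- the exchanging involutions
  have hswap : ∀ x : F, x ≠ 0 → upSL x ∈ L → ∃ g ∈ L, ∃ σ : F, σ ≠ 0 ∧ σ ^ 2 * c = x ∧
      (g : M2) 0 0 = 0 ∧ (g : M2) 1 1 = 0 ∧ (g : M2) 0 1 = σ ∧ (g : M2) 1 0 = σ⁻¹ ∧
      (∀ w, upSL w ∈ L ↔ loSL (w / σ ^ 2) ∈ L) := by
    intro x hx hxL
    set a : S2 := upSL x
    set b : S2 := loSL c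
    have htr : ((a * b : S2) : M2).trace = x * c := trace_up_lo x c
    have ha2 : a * a = 1 := upSL_mul_self x
    have hb2 : b * b = 1 := loSL_mul_self c
    have hconj : ∀ k : ℕ, a * (a * b) ^ k * a = ((a * b) ^ k)⁻¹ := fun k => by
      have h1 : a * (a * b) * a⁻¹ = (a * b)⁻¹ := by
        rw [_root_.mul_inv_rev, inv_eq_of_mul_eq_one_right hb2, ← mul_assoc, ha2, one_mul]
      rw [← inv_pow, ← h1, conj_pow, inv_eq_of_mul_eq_one_right ha2]
    have hodd : Odd (orderOf (a * b)) := by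
      rw [← Nat.not_even_iff_odd]
      rintro ⟨k, hk⟩
      have hpos : 0 < orderOf (a * b) := orderOf_pos _
      set z := (a * b) ^ k
      have hz2 : z * z = 1 := by rw [← pow_add, ← hk, pow_orderOf_eq_one]
      have hza : z * a = a * z := by
        have h := hconj k
        rw [inv_eq_of_mul_eq_one_right hz2] at h
        calc z * a = a * z * a * a := by rw [h]
          _ = a * z := by rw [mul_assoc, ha2, mul_one]
      have hzb : z * b = b * z := by
        have hb' : b = a * (a * b) := by rw [← mul_assoc, ha2, one_mul]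
        calc z * b = z * a * (a * b) := by rw [mul_assoc, ← hb']
          _ = a * ((a * b) * z) := by rw [hza, mul_assoc, (Commute.self_pow (a * b) k).eq]
          _ = b * z := by rw [← mul_assoc, ← hb']
      have e1 := congrArg (fun y : S2 => (y : M2) 0 0) hza
      have e2 := congrArg (fun y : S2 => (y : M2) 0 1) hza
      have e3 := congrArg (fun y : S2 => (y : M2) 0 0) hzb
      simp [SL_mul_entries, a, upSL_coe] at e1 e2
      simp [SL_mul_entries, b, loSL_coe] at e3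
      have h10 : (z : M2) 1 0 = 0 := e1.resolve_left hx
      have h01 : (z : M2) 0 1 = 0 := e3.resolve_right hc
      have h11 : (z : M2) 0 0 = (z : M2) 1 1 := by
        refine mul_right_cancel₀ hx ?_
        linear_combination e2
      have hd := SL_det_two z
      rw [h10, mul_zero, sub_zero, ← h11] at hd
      have h00 : (z : M2) 0 0 = 1 := sq_inj (by rw [sq, hd, one_pow])
      have hz1 : z = 1 := by apply SL_ext_two <;> simp [h10, h01, h00, ← h11]
      have := Nat.le_of_dvd (by omega) (orderOf_dvd_of_pow_eq_one hz1)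
      omega
    obtain ⟨k, hk⟩ := hodd
    set g := (a * b) ^ k * a with hg
    have hgL : g ∈ L := L.mul_mem (L.pow_mem (L.mul_mem hxL hlo) k) hxL
    have hg2 : g * g = 1 := by rw [hg, mul_assoc, ← mul_assoc a, hconj, mul_inv_cancel]
    have hgab : g * a = b * g := by
      have h1 : g * a * g⁻¹ = b := by
        rw [inv_eq_of_mul_eq_one_right hg2, hg]
        calc (a * b) ^ k * a * a * ((a * b) ^ k * a)
            = (a * b) ^ (k + k) * a := by rw [mul_assoc ((a * b) ^ k) a a, ha2, mul_one, ← mul_assoc, pow_add]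
          _ = (a * b)⁻¹ * a := by
              congr 1
              refine eq_inv_of_mul_eq_one_left ?_
              rw [← pow_succ, show k + k + 1 = orderOf (a * b) by omega, pow_orderOf_eq_one]
          _ = b := by rw [_root_.mul_inv_rev, inv_eq_of_mul_eq_one_right hb2, mul_assoc, inv_mul_cancel, mul_one]
      exact mul_inv_eq_iff_eq_mul.mp h1
    have e1 := congrArg (fun y : S2 => (y : M2) 0 0) hgab
    have e3 := congrArg (fun y : S2 => (y : M2) 0 1) hgab
    have e4 := congrArg (fun y : S2 => (y : M2) 1 0) hgab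
    simp [SL_mul_entries, a, b, upSL_coe, loSL_coe] at e1 e3 e4
    have g00 : (g : M2) 0 0 = 0 := e3.resolve_right hx
    have g11 : (g : M2) 1 1 = 0 := by
      have hd2 := congrArg (fun y : S2 => (y : M2) 0 1) hg2
      simp [SL_mul_entries, g00] at hd2
      rcases hd2 with h | h
      · have := SL_det_two g
        rw [g00, h] at this
        simp at this
      · exact h
    have hd := SL_det_two g
    rw [g00, zero_mul, zero_sub, CharTwo.neg_eq] at hd
    have h01 : (g : M2) 0 1 ≠ 0 := fun h => by rw [h, zero_mul] at hd; exact zero_ne_one hd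
    refine ⟨g, hgL, (g : M2) 0 1, h01, ?_, g00, g11, rfl, eq_inv_of_mul_eq_one_right hd, fun w => ?_⟩
    · have h11 := congrArg (fun y : S2 => (y : M2) 1 1) hgab
      simp [SL_mul_entries, a, b, upSL_coe, loSL_coe, g11] at h11
      linear_combination ((g : M2) 0 1) * (-h11) + x * hd
    · have he : g * upSL w * g⁻¹ = loSL (w / ((g : M2) 0 1) ^ 2) := by
        rw [mul_inv_eq_iff_eq_mul]
        apply SL_ext_two <;> simp [SL_mul_entries, upSL_coe, loSL_coe, g00, g11]
        field_simp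
        linear_combination w * hd
      rw [← he]
      exact ⟨fun h => L.mul_mem (L.mul_mem hgL h) (L.inv_mem hgL), fun h => by
        have := L.mul_mem (L.mul_mem (L.inv_mem hgL) h) hgL
        rwa [show g⁻¹ * (g * upSL w * g⁻¹) * g = upSL w by group] at this⟩
  have hdiv : ∀ x y : F, x ≠ 0 → upSL x ∈ L → y ≠ 0 → upSL y ∈ L → ∀ w, upSL w ∈ L → upSL (w * x / y) ∈ L := by
    intro x y hx hxL hy hyL w hw
    obtain ⟨-, -, σ, hσ, hσx, -, -, -, -, hσ'⟩ := hswap x hx hxL
    obtain ⟨-, -, τ, hτ, hτy, -, -, -, -, hτ'⟩ := hswap y hy hyL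
    rw [hσ' (w * x / y)]
    convert (hτ' w).mp hw using 2
    rw [← hσx, ← hτy]
    field_simp
  let K : Subfield F :=
    { carrier := {k | upSL (k * x₀) ∈ L}
      zero_mem' := by simp [upSL_zero, L.one_mem]
      one_mem' := by simpa using hup
      add_mem' := fun {a b} ha hb => by
        show upSL ((a + b) * x₀) ∈ L
        rw [add_mul, upSL_add]; exact L.mul_mem ha hb
      neg_mem' := fun {a} ha => by simpa [CharTwo.neg_eq] using ha
      mul_mem' := fun {a b} ha hb => by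
        rcases eq_or_ne a 0 with rfl | ha0
        · simp [upSL_zero, L.one_mem]
        have := hdiv (a * x₀) x₀ (mul_ne_zero ha0 hx₀) ha hx₀ hup _ hb
        show upSL (a * b * x₀) ∈ L
        convert this using 2
        field_simp
      inv_mem' := fun a ha => by
        rcases eq_or_ne a 0 with rfl | ha0
        · simp [upSL_zero, L.one_mem]
        have := hdiv x₀ (a * x₀) hx₀ hup (mul_ne_zero ha0 hx₀) ha x₀ hup
        show upSL (a⁻¹ * x₀) ∈ L
        convert this using 2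
        field_simp }
  refine ⟨K, fun x => ?_, fun ν hν hν0 => ?_⟩
  · show _ ↔ upSL (x / x₀ * x₀) ∈ L
    rw [div_mul_cancel₀ _ hx₀]
  · have hνx : upSL (ν ^ 2 * x₀) ∈ L := K.pow_mem hν 2
    obtain ⟨g, hgL, σ, hσ, hσx, g00, g11, g01, g10, -⟩ := hswap _ (mul_ne_zero (pow_ne_zero 2 hν0) hx₀) hνx
    obtain ⟨g', hg'L, τ, hτ, hτx, g00', g11', g01', g10', -⟩ := hswap x₀ hx₀ hup
    refine ⟨g * g', L.mul_mem hgL hg'L, ?_, by simp [SL_mul_entries, g11, g00'],
      by simp [SL_mul_entries, g00, g11']⟩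
    simp only [SL_mul_entries, g00, g01, g10', zero_mul, zero_add]
    refine sq_inj (mul_right_cancel₀ hx₀ ?_)
    rw [← hσx, mul_pow]
    nth_rw 1 [← hτx]
    field_simp

variable {P : Subgroup (GL (Fin 4) F)}

/-- Only one multiple of each vector. -/
def OneScalar (P : Subgroup G4) : Prop := ∀ d ∈ Dset P, ∀ c : F, c • d ∈ Dset P → c = 1

/-- The plane of two orthogonal vectors contains everything orthogonal to both. -/
theorem mem_span_of_perp {u v : V4} (huv : altForm4 u v = 0) (hli : LinearIndependent F ![u, v]) :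
    (∀ a b : F, ∃ y, altForm4 u y = a ∧ altForm4 v y = b) ∧
      ∀ w, altForm4 u w = 0 → altForm4 v w = 0 → ∃ a b : F, w = a • u + b • v := by
  classical
  let Φ : V4 →ₗ[F] F × F :=
    { toFun := fun y => (altForm4 u y, altForm4 v y)
      map_add' := fun y z => by simp [f_add_right]
      map_smul' := fun c y => by simp [f_smul_right] }
  have hsurj : LinearMap.range Φ = ⊤ := by
    by_contra hne
    obtain ⟨φ, hφ, hle⟩ := Submodule.exists_le_ker_of_lt_top _ (lt_top_iff_ne_top.mpr hne)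
    have hzero : φ (1, 0) • u + φ (0, 1) • v = 0 := f_nondeg fun y => by
      have h0 : φ (Φ y) = 0 := hle ⟨y, rfl⟩
      have : φ (Φ y) = altForm4 u y * φ (1, 0) + altForm4 v y * φ (0, 1) := by
        have e : Φ y = altForm4 u y • ((1, 0) : F × F) + altForm4 v y • ((0, 1) : F × F) := by
          simp [Φ]
        rw [e, map_add, map_smul, map_smul, smul_eq_mul, smul_eq_mul]
      rw [f_add_left, f_smul_left, f_smul_left]
      linear_combination h0 - this
    obtain ⟨k1, k2⟩ := LinearIndependent.pair_iff.mp hli _ _ hzero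
    refine hφ (LinearMap.ext fun z => ?_)
    have e : z = z.1 • ((1, 0) : F × F) + z.2 • ((0, 1) : F × F) := by simp
    rw [e, map_add, map_smul, map_smul, k1, k2]
    simp
  refine ⟨fun a b => ?_, fun w h1 h2 => ?_⟩
  · obtain ⟨y, hy⟩ := LinearMap.range_eq_top.mp hsurj (a, b)
    exact ⟨y, congrArg Prod.fst hy, congrArg Prod.snd hy⟩
  · have hle : Submodule.span F (Set.range ![u, v]) ≤ LinearMap.ker Φ := by
      rw [Submodule.span_le]
      rintro _ ⟨i, rfl⟩
      fin_cases i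
      · exact LinearMap.mem_ker.mpr (Prod.ext (f_self u) ((f_comm v u).trans huv))
      · exact LinearMap.mem_ker.mpr (Prod.ext huv (f_self v))
    have hk : Module.finrank F (LinearMap.ker Φ) = 2 := by
      have := Φ.finrank_range_add_finrank_ker
      rw [hsurj, finrank_top] at this
      simp at this
      omega
    have heq := Submodule.eq_of_le_of_finrank_le hle (by rw [hk, finrank_span_eq_card hli]; simp)
    have hw : w ∈ LinearMap.ker Φ := LinearMap.mem_ker.mpr (Prod.ext h1 h2)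
    rw [← heq, Matrix.range_cons, Matrix.range_cons, Matrix.range_empty, Set.union_empty,
      Set.singleton_union, Submodule.mem_span_pair] at hw
    obtain ⟨a, b, h⟩ := hw
    exact ⟨a, b, h.symm⟩

theorem li_pair (hA : OneScalar P) {u v : V4} (hu : u ∈ Dset P) (hv : v ∈ Dset P) (hne : u ≠ v) :
    LinearIndependent F ![u, v] := by
  rw [LinearIndependent.pair_iff]
  intro s t h
  by_cases ht : t = 0
  · subst ht
    rw [zero_smul, add_zero, smul_eq_zero] at h
    exact ⟨h.resolve_right hu.1, rfl⟩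
  · exfalso
    have hv' : v = (t⁻¹ * s) • u := by
      have e := add_eq_zero_vec h
      rw [← smul_smul, e, smul_smul, inv_mul_cancel₀ ht, one_smul]
    have hc := hA u hu (t⁻¹ * s) (hv' ▸ hv)
    exact hne (by rw [hv', hc, one_smul])

/-- Data read off from a vector meeting a line with two different values. -/
structure Split (P : Subgroup G4) (u v z : V4) (K : Subfield F) (e r : V4) (μ₀ : F) : Prop where
  he : ∃ a b : F, e = a • u + b • v
  hr : ∃ a b : F, r = a • u + b • v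
  ze : altForm4 z e = 1
  zr : altForm4 z r = 0
  rne : r ≠ 0
  hμ₀ : μ₀ ≠ 0
  card : 2 < Nat.card K
  vals : ∀ t ∈ Dset P, (∃ a b : F, t = a • u + b • v) → altForm4 z t / μ₀ ∈ K
  orbit : ∀ μ ℓ : F, μ • e + ℓ • r ∈ Dset P → ∀ ν ∈ K, ν ≠ 0 → (ν * μ) • e + ℓ • r ∈ Dset P

theorem span_uv_decomp {u v e r : V4} {a b a' b' : F} (hli : LinearIndependent F ![e, r])
    (he : e = a • u + b • v) (hr : r = a' • u + b' • v) :
    ∀ t, (∃ x y : F, t = x • u + y • v) → ∃ x y : F, t = x • e + y • r := by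
  intro t ht
  have hle : Submodule.span F (Set.range ![e, r]) ≤ Submodule.span F ({u, v} : Set V4) := by
    rw [Submodule.span_le]
    rintro _ ⟨i, rfl⟩
    fin_cases i
    · exact Submodule.mem_span_pair.mpr ⟨a, b, he.symm⟩
    · exact Submodule.mem_span_pair.mpr ⟨a', b', hr.symm⟩
  classical
  have h2 : Module.finrank F (Submodule.span F ({u, v} : Set V4)) ≤ 2 := by
    have h : (Set.range ![u, v]).finrank F ≤ 2 := finrank_range_le_card ![u, v]
    rwa [Matrix.range_cons, Matrix.range_cons, Matrix.range_empty, Set.union_empty,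
      Set.singleton_union, Set.finrank] at h
  have heq := Submodule.eq_of_le_of_finrank_le hle (by rw [finrank_span_eq_card hli]; simpa using h2)
  obtain ⟨x, y, rfl⟩ := ht
  have hmem : x • u + y • v ∈ Submodule.span F (Set.range ![e, r]) := by
    rw [heq]; exact Submodule.mem_span_pair.mpr ⟨x, y, rfl⟩
  rw [Matrix.range_cons, Matrix.range_cons, Matrix.range_empty, Set.union_empty, Set.singleton_union,
    Submodule.mem_span_pair] at hmem
  obtain ⟨p, q, h⟩ := hmem
  exact ⟨p, q, h.symm⟩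

theorem exists_split (hS : Setting P) (hA : OneScalar P) {u v : V4} (hu : u ∈ Dset P) (hv : v ∈ Dset P)
    (huv : altForm4 u v = 0) (hne : u ≠ v) {z t t' : V4} (hz : z ∈ Dset P) (ht : t ∈ Dset P)
    (ht' : t' ∈ Dset P) (htW : ∃ a b : F, t = a • u + b • v) (htW' : ∃ a b : F, t' = a • u + b • v)
    (h1 : altForm4 z t ≠ 0) (h2 : altForm4 z t' ≠ 0) (h3 : altForm4 z t ≠ altForm4 z t') :
    ∃ K e r μ₀, Split P u v z K e r μ₀ := by
  classical
  obtain ⟨μ₀, hμdef⟩ : ∃ μ, μ = altForm4 z t := ⟨_, rfl⟩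
  rw [← hμdef] at h1 h3
  obtain ⟨e₀, he₀⟩ : ∃ e₀, e₀ = μ₀⁻¹ • t := ⟨_, rfl⟩
  obtain ⟨r, hrdef⟩ : ∃ r, r = t' + altForm4 z t' • e₀ := ⟨_, rfl⟩
  have ze₀ : altForm4 z e₀ = 1 := by rw [he₀, f_smul_right, ← hμdef, inv_mul_cancel₀ h1]
  have zr : altForm4 z r = 0 := by
    rw [hrdef, f_add_right, f_smul_right, ze₀, mul_one, CharTwo.add_self_eq_zero]
  have hcomb : ∀ (a b : F) (p q : V4), (∃ x y : F, p = x • u + y • v) → (∃ x y : F, q = x • u + y • v) →
      ∃ x y : F, a • p + b • q = x • u + y • v := by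
    rintro a b _ _ ⟨x, y, rfl⟩ ⟨x', y', rfl⟩
    exact ⟨a * x + b * x', a * y + b * y', by simp only [smul_add, smul_smul, add_smul]; abel⟩
  have he₀W : ∃ x y : F, e₀ = x • u + y • v := by
    obtain ⟨x, y, h⟩ := hcomb μ₀⁻¹ 0 t t htW htW
    rw [zero_smul, add_zero] at h
    exact ⟨x, y, he₀.trans h⟩
  have hrW : ∃ x y : F, r = x • u + y • v := by
    obtain ⟨x, y, h⟩ := hcomb 1 (altForm4 z t') t' e₀ htW' he₀W
    rw [one_smul] at h
    exact ⟨x, y, hrdef.trans h⟩
  have hWperp : ∀ p q : V4, (∃ x y : F, p = x • u + y • v) → (∃ x y : F, q = x • u + y • v) →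
      altForm4 p q = 0 := by
    rintro _ _ ⟨x, y, rfl⟩ ⟨x', y', rfl⟩
    simp [f_add_left, f_add_right, f_smul_left, f_smul_right, f_self, huv, f_comm v u]
  have rne : r ≠ 0 := by
    intro h
    have e1 : t' = (altForm4 z t' * μ₀⁻¹) • t := by
      exact (add_eq_zero_vec (hrdef.symm.trans h)).trans (by rw [he₀, smul_smul])
    have := hA t ht _ (e1 ▸ ht')
    exact h3 (by rw [eq_comm]; field_simp at this; exact this)
  have hliW : LinearIndependent F ![u, v] := li_pair hA hu hv hne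
  have hli : LinearIndependent F ![e₀, r] := by
    rw [LinearIndependent.pair_iff]
    intro a b h
    have := congrArg (altForm4 z) h
    rw [f_add_right, f_smul_right, f_smul_right, ze₀, zr, f_zero_right, mul_one, mul_zero, add_zero] at this
    rw [this, zero_smul, zero_add, smul_eq_zero] at h
    exact ⟨this, h.resolve_right rne⟩
  -- coordinates modulo r in the hyperplane orthogonal to r
  have hker : ∀ y : V4, altForm4 r y = 0 → altForm4 z y = 0 → altForm4 y e₀ = 0 → ∃ c : F, y = c • r := by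
    intro y k1 k2 k3
    obtain ⟨a, b, ha⟩ := he₀W
    obtain ⟨a', b', hr'⟩ := hrW
    have hdec := span_uv_decomp hli ha hr'
    obtain ⟨x, y', hu'⟩ := hdec u ⟨1, 0, by simp⟩
    obtain ⟨x2, y2, hv'⟩ := hdec v ⟨0, 1, by simp⟩
    obtain ⟨p, q, rfl⟩ := (mem_span_of_perp huv hliW).2 y
      (by rw [hu', f_add_left, f_smul_left, f_smul_left, f_comm e₀, k3, k1, mul_zero, mul_zero, add_zero])
      (by rw [hv', f_add_left, f_smul_left, f_smul_left, f_comm e₀, k3, k1, mul_zero, mul_zero, add_zero])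
    obtain ⟨X, Y, hXY⟩ := hdec _ ⟨p, q, rfl⟩
    rw [hXY, f_add_right, f_smul_right, f_smul_right, ze₀, zr, mul_one, mul_zero, add_zero] at k2
    exact ⟨Y, by rw [hXY, k2, zero_smul, zero_add]⟩
  have hmod : ∀ y : V4, altForm4 r y = 0 → ∃ c : F, y = altForm4 z y • e₀ + altForm4 y e₀ • z + c • r := by
    intro y hy
    obtain ⟨c, hc⟩ := hker (y + (altForm4 z y • e₀ + altForm4 y e₀ • z))
      (by rw [f_add_right, f_add_right, f_smul_right, f_smul_right, hy, hWperp r e₀ hrW he₀W,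
        f_comm r z, zr, mul_zero, mul_zero, add_zero, add_zero])
      (by rw [f_add_right, f_add_right, f_smul_right, f_smul_right, ze₀, f_self, mul_zero, add_zero,
        mul_one, CharTwo.add_self_eq_zero])
      (by rw [f_add_left, f_add_left, f_smul_left, f_smul_left, f_self, ze₀, mul_zero, zero_add,
        mul_one, CharTwo.add_self_eq_zero])
    refine ⟨c, ?_⟩
    rw [← hc]
    rw [add_comm y, ← add_assoc, add_self_vec, zero_add]
  -- the quotient representation
  let St : Subgroup G4 :=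
    { carrier := {g | g ∈ P ∧ (g : M4) *ᵥ r = r}
      one_mem' := ⟨P.one_mem, by simp⟩
      mul_mem' := fun {g g'} hg hg' => ⟨P.mul_mem hg.1 hg'.1, by
        rw [Units.val_mul, ← mulVec_mulVec, hg'.2, hg.2]⟩
      inv_mem' := fun {g} hg => ⟨P.inv_mem hg.1, by
        conv_lhs => rw [← hg.2]
        exact mulVec_inv g r⟩ }
  let Mf : G4 → M2 := fun g =>
    !![altForm4 z ((g : M4) *ᵥ e₀), altForm4 z ((g : M4) *ᵥ z);
       altForm4 ((g : M4) *ᵥ e₀) e₀, altForm4 ((g : M4) *ᵥ z) e₀]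
  have hperp_map : ∀ g ∈ St, ∀ y : V4, altForm4 r y = 0 → altForm4 r ((g : M4) *ᵥ y) = 0 := by
    intro g hg y hy
    conv_lhs => rw [← hg.2]
    rw [f_map (hS.sp hg.1), hy]
  have hre : altForm4 r e₀ = 0 := hWperp r e₀ hrW he₀W
  have hrz : altForm4 r z = 0 := by rw [f_comm, zr]
  have hMmul : ∀ g ∈ St, ∀ g' ∈ St, Mf (g * g') = Mf g * Mf g' := by
    intro g hg g' hg'
    obtain ⟨c1, hc1⟩ := hmod _ (hperp_map g' hg' e₀ hre)
    obtain ⟨c2, hc2⟩ := hmod _ (hperp_map g' hg' z hrz)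
    have e1 : ((g : M4) * (g' : M4)) *ᵥ e₀ = altForm4 z ((g' : M4) *ᵥ e₀) • ((g : M4) *ᵥ e₀) +
        altForm4 ((g' : M4) *ᵥ e₀) e₀ • ((g : M4) *ᵥ z) + c1 • r := by
      rw [← mulVec_mulVec]
      conv_lhs => rw [hc1]
      rw [mulVec_add, mulVec_add, mulVec_smul, mulVec_smul, mulVec_smul, hg.2]
    have e2 : ((g : M4) * (g' : M4)) *ᵥ z = altForm4 z ((g' : M4) *ᵥ z) • ((g : M4) *ᵥ e₀) +
        altForm4 ((g' : M4) *ᵥ z) e₀ • ((g : M4) *ᵥ z) + c2 • r := by
      rw [← mulVec_mulVec]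
      conv_lhs => rw [hc2]
      rw [mulVec_add, mulVec_add, mulVec_smul, mulVec_smul, mulVec_smul, hg.2]
    ext i j
    fin_cases i <;> fin_cases j <;>
      simp [Mf, Matrix.mul_apply, Fin.sum_univ_two, e1, e2, f_add_left, f_add_right, f_smul_left,
        f_smul_right, zr, hre] <;> ring
  have hM1 : Mf 1 = 1 := by
    ext i j
    fin_cases i <;> fin_cases j <;> simp [Mf, ze₀, f_self]
  have hdet : ∀ g ∈ St, (Mf g).det = 1 := by
    intro g hg
    obtain ⟨c1, hc1⟩ := hmod _ (hperp_map g hg e₀ hre)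
    obtain ⟨c2, hc2⟩ := hmod _ (hperp_map g hg z hrz)
    have h := f_map (hS.sp hg.1) z e₀
    rw [ze₀] at h
    conv_lhs at h => rw [hc1, hc2]
    simp [f_add_left, f_add_right, f_smul_left, f_smul_right, zr, hre, hrz, f_self, ze₀, f_comm e₀ z,
      f_comm e₀ r] at h
    rw [Matrix.det_fin_two]
    simp [Mf, CharTwo.sub_eq_add]
    linear_combination h
  let φ : St →* S2 :=
    { toFun := fun g => ⟨Mf g, hdet _ g.2⟩
      map_one' := Subtype.ext hM1
      map_mul' := fun g g' => Subtype.ext (hMmul _ g.2 _ g'.2) }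
  have hφc : ∀ g : St, (φ g : M2) = Mf (g : G4) := fun _ => rfl
  set L := φ.range with hL
  have htvmem : ∀ p ∈ Dset P, altForm4 p r = 0 → tv p ∈ St := fun p hp h => ⟨hp.2, tv_fix h⟩
  have hφt : ∀ p, ∀ hp : p ∈ Dset P, ∀ hW : (∃ x y : F, p = x • u + y • v),
      φ ⟨tv p, htvmem p hp (hWperp p r hW hrW)⟩ = upSL (altForm4 z p ^ 2) := by
    intro p hp hW
    have hpe : altForm4 p e₀ = 0 := hWperp p e₀ hW he₀W
    apply SL_ext_two <;> simp [hφc, Mf, upSL_coe, tv_apply, f_add_left, f_add_right, f_smul_left,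
      f_smul_right, hpe, ze₀, f_self, f_comm p z, sq]
  have hlo : loSL (1 : F) ∈ L := by
    refine ⟨⟨tv z, htvmem z hz zr⟩, ?_⟩
    apply SL_ext_two <;> simp [hφc, Mf, loSL_coe, tv_apply, f_add_left, f_add_right,
      f_smul_left, f_smul_right, ze₀, f_self]
  have hupW : ∀ p ∈ Dset P, (∃ x y : F, p = x • u + y • v) → upSL (altForm4 z p ^ 2) ∈ L :=
    fun p hp hW => ⟨_, hφt p hp hW⟩
  obtain ⟨K, hK, hdiag⟩ := upper_scaled_field L one_ne_zero (pow_ne_zero 2 h1) hlo (by rw [hμdef]; exact hupW t ht htW)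
  have hvals : ∀ p ∈ Dset P, (∃ a b : F, p = a • u + b • v) → altForm4 z p / μ₀ ∈ K := fun p hp hW =>
    mem_of_sq_mem K (by rw [div_pow]; exact (hK _).mp (hupW p hp hW))
  have hcard : 2 < Nat.card K := by
    let g : Fin 3 → K := ![0, 1, ⟨_, hvals t' ht' htW'⟩]
    have hne0 : altForm4 z t' / μ₀ ≠ 0 := div_ne_zero h2 h1
    have hne1 : altForm4 z t' / μ₀ ≠ 1 := fun h => h3 (div_eq_one_iff_eq h1 |>.mp h).symm
    have hg : Function.Injective g := by
      intro i j h
      have h' := congrArg Subtype.val h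
      fin_cases i <;> fin_cases j <;> simp [g, hne0.symm, hne1.symm, hne0, hne1] at h' ⊢
    have := Nat.card_le_card_of_injective g hg
    rw [Nat.card_eq_fintype_card, Fintype.card_fin] at this
    omega
  -- a torus element and its eigenvector
  obtain ⟨ν₀, hν₀⟩ := IsCyclic.exists_generator (α := Kˣ)
  have hν1 : ((ν₀ : K) : F) ≠ 1 := by
    intro h
    have h1' : ν₀ = 1 := Units.ext (Subtype.ext h)
    have hall : ∀ x : Kˣ, x = 1 := fun x => by simpa [h1', Subgroup.zpowers_one_eq_bot] using hν₀ x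
    obtain ⟨x, hxK, hx0, hx1⟩ := exists_other K hcard
    exact hx1 (congrArg (fun y : Kˣ => ((y : K) : F))
      (hall (Units.mk0 ⟨x, hxK⟩ fun e => hx0 (congrArg Subtype.val e))))
  obtain ⟨g, hgL, g00, g10, g01⟩ := hdiag _ (ν₀ : K).2 (fun h => ν₀.ne_zero (Subtype.ext h))
  obtain ⟨⟨h, hh⟩, rfl⟩ := hgL
  simp [hφc, Mf] at g00 g10
  obtain ⟨δ, hδ⟩ := hmod _ (hperp_map h hh e₀ hre)
  rw [g00, g10, zero_smul, add_zero] at hδ
  set ν : F := ((ν₀ : K) : F)
  have hν1' : ν + 1 ≠ 0 := fun e => hν1 (CharTwo.add_eq_zero.mp e)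
  set e := e₀ + (δ / (ν + 1)) • r with hedef
  have hhe : (h : M4) *ᵥ e = ν • e := by
    rw [hedef, mulVec_add, mulVec_smul, hh.2, hδ, smul_add, smul_smul, add_assoc, ← add_smul]
    congr 2
    field_simp
    linear_combination δ * CharTwo.two_eq_zero (R := F)
  refine ⟨K, e, r, μ₀, ⟨?_, hrW, ?_, zr, rne, h1, hcard, hvals, ?_⟩⟩
  · obtain ⟨x, y, hxy⟩ := hcomb 1 (δ / (ν + 1)) e₀ r he₀W hrW
    rw [one_smul] at hxy
    exact ⟨x, y, hxy⟩
  · rw [hedef, f_add_right, f_smul_right, ze₀, zr, mul_zero, add_zero]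
  · intro μ ℓ hmem κ hκ hκ0
    have hpow : ∀ n : ℕ, (ν ^ n * μ) • e + ℓ • r ∈ Dset P := by
      intro n
      induction n with
      | zero => simpa using hmem
      | succ n ih =>
        have := Dset_map hS.sp hh.1 ih
        rw [mulVec_add, mulVec_smul, mulVec_smul, hhe, hh.2, smul_smul] at this
        convert this using 3
        ring
    obtain ⟨n, hn⟩ := (mem_powers_iff_mem_zpowers (G := Kˣ)).mpr
      (hν₀ (Units.mk0 ⟨κ, hκ⟩ fun e' => hκ0 (congrArg Subtype.val e')))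
    have : ν ^ n = κ := by
      have := congrArg (fun y : Kˣ => ((y : K) : F)) hn
      simpa [ν] using this
    exact this ▸ hpow n

/-- A vector pairing with both basis vectors of the line. -/
theorem exists_generic (hS : Setting P) {e r z : V4} (hz : z ∈ Dset P) (ze : altForm4 z e ≠ 0)
    (zr : altForm4 z r = 0) (rne : r ≠ 0) :
    ∃ d ∈ Dset P, altForm4 d e ≠ 0 ∧ altForm4 d r ≠ 0 := by
  by_contra hcon
  push Not at hcon
  -- hcon : vectors meeting e are orthogonal to r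
  refine rne (eq_zero_of_perp_span hS.span_Dset fun d hd => ?_)
  have hperpB : ∀ b ∈ Dset P, altForm4 b e ≠ 0 → ∀ a ∈ Dset P, altForm4 a r ≠ 0 → altForm4 b a = 0 := by
    intro b hb hbe a ha har
    by_contra hne
    have hae : altForm4 a e = 0 := by
      by_contra h
      exact har (hcon a ha h)
    have h := hcon _ (Dset_tv_apply hS.sp hb ha) (by
      rw [f_add_left, f_smul_left, hae, zero_add]; exact mul_ne_zero hne hbe)
    rw [f_add_left, f_smul_left, hcon b hb hbe, mul_zero, add_zero] at h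
    exact har h
  let p : V4 → Prop := fun x => altForm4 x r = 0 ∧
    (altForm4 x e ≠ 0 ∨ ∃ b ∈ Dset P, altForm4 b e ≠ 0 ∧ altForm4 b x ≠ 0)
  have := hS.connected p hz ⟨zr, Or.inl ze⟩ (by
    rintro x hx y hy hxy ⟨hxr, hx'⟩
    rcases hx' with hxe | ⟨b, hb, hbe, hbx⟩
    · refine ⟨?_, Or.inr ⟨x, hx, hxe, hxy⟩⟩
      by_contra hyr
      exact hxy (hperpB x hx hxe y hy hyr)
    · by_cases hxe : altForm4 x e = 0
      swap
      · refine ⟨?_, Or.inr ⟨x, hx, hxe, hxy⟩⟩
        by_contra hyr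
        exact hxy (hperpB x hx hxe y hy hyr)
      have hb' := Dset_tv_apply hS.sp hx hb
      have hb'e : altForm4 (b + altForm4 x b • x) e ≠ 0 := by
        rwa [f_add_left, f_smul_left, hxe, mul_zero, add_zero]
      refine ⟨?_, ?_⟩
      · by_contra hyr
        have k1 := hperpB _ hb' hb'e y hy hyr
        rw [f_add_left, f_smul_left, hperpB b hb hbe y hy hyr, zero_add] at k1
        exact mul_ne_zero (by rwa [f_comm]) hxy k1
      · by_cases hby : altForm4 b y = 0
        · refine Or.inr ⟨_, hb', hb'e, ?_⟩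
          rw [f_add_left, f_smul_left, hby, zero_add]
          exact mul_ne_zero (by rwa [f_comm]) hxy
        · exact Or.inr ⟨b, hb, hbe, hby⟩) d hd
  rw [f_comm]
  exact this.1

theorem Split.li {u v z e r : V4} {K : Subfield F} {μ₀ : F} (hsp : Split P u v z K e r μ₀) :
    LinearIndependent F ![e, r] := by
  rw [LinearIndependent.pair_iff]
  intro x y h
  have := congrArg (altForm4 z) h
  rw [f_add_right, f_smul_right, f_smul_right, hsp.ze, hsp.zr, f_zero_right, mul_one, mul_zero,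
    add_zero] at this
  rw [this, zero_smul, zero_add, smul_eq_zero] at h
  exact ⟨this, h.resolve_right hsp.rne⟩

theorem Split.coord {u v z e r : V4} {K : Subfield F} {μ₀ : F} (hsp : Split P u v z K e r μ₀) (x y : F) :
    altForm4 z (x • e + y • r) = x := by
  rw [f_add_right, f_smul_right, f_smul_right, hsp.ze, hsp.zr, mul_one, mul_zero, add_zero]

theorem Split.mem_span {u v z e r : V4} {K : Subfield F} {μ₀ : F} (hsp : Split P u v z K e r μ₀) (x y : F) :
    ∃ p q : F, x • e + y • r = p • u + q • v := by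
  obtain ⟨a, b, hea⟩ := hsp.he
  obtain ⟨a', b', hra⟩ := hsp.hr
  exact ⟨x * a + y * a', x * b + y * b', by
    rw [hea, hra]; simp only [smul_add, smul_smul, add_smul]; abel⟩

theorem Split.level_ne (hA : OneScalar P) {u v z e r : V4} {K : Subfield F} {μ₀ : F}
    (hsp : Split P u v z K e r μ₀) {x y : F} (hm : x • e + y • r ∈ Dset P) (hx : x ≠ 0) : y ≠ 0 := by
  intro hy
  subst hy
  obtain ⟨κ, hκK, hκ0, hκ1⟩ := exists_other K hsp.card
  have h' := hsp.orbit x 0 hm κ hκK hκ0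
  rw [zero_smul, add_zero] at hm h'
  exact hκ1 (hA _ hm κ (by rw [smul_smul]; exact h'))

/-- A generic vector splits with the same maximal field. -/
theorem split_generic (hS : Setting P) (hA : OneScalar P) {u v : V4} (hu : u ∈ Dset P) (hv : v ∈ Dset P)
    (huv : altForm4 u v = 0) (hne : u ≠ v) {z e r : V4} {K : Subfield F} {μ₀ : F} (hz : z ∈ Dset P)
    (hsp : Split P u v z K e r μ₀)
    (hmax : ∀ z' K' e' r' μ', z' ∈ Dset P → Split P u v z' K' e' r' μ' → Nat.card K' ≤ Nat.card K)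
    {x₁ y₁ : F} (hm1 : x₁ • e + y₁ • r ∈ Dset P) (hx1 : x₁ ≠ 0) :
    ∃ d ∈ Dset P, ∃ (e' r' : V4) (μ' : F), Split P u v d K e' r' μ' ∧ altForm4 d e ≠ 0 ∧
      altForm4 d r ≠ 0 ∧ x₁ * altForm4 d e / μ' ∈ K ∧ y₁ * altForm4 d r / μ' ∈ K ∧
      ∃ k₁ k₂ : F, k₁ ∈ K ∧ k₂ ∈ K ∧ k₁ ≠ 0 ∧ k₂ ≠ 0 ∧ k₁ ≠ k₂ ∧
        altForm4 d ((k₁ * x₁) • e + y₁ • r) ≠ 0 ∧ altForm4 d ((k₂ * x₁) • e + y₁ • r) ≠ 0 := by
  classical
  obtain ⟨κ, hκK, hκ0, hκ1⟩ := exists_other K hsp.card
  obtain ⟨d, hd, hde, hdr⟩ := exists_generic hS hz (by rw [hsp.ze]; exact one_ne_zero) hsp.zr hsp.rne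
  set p := altForm4 d e with hp
  set q := altForm4 d r with hq
  have hdval : ∀ x y : F, altForm4 d (x • e + y • r) = x * p + y * q := fun x y => by
    rw [f_add_right, f_smul_right, f_smul_right]
  have inj : ∀ s s' : F, s * x₁ * p + y₁ * q = s' * x₁ * p + y₁ * q → s = s' := fun s s' h =>
    mul_right_cancel₀ hx1 (mul_right_cancel₀ hde (add_right_cancel h))
  obtain ⟨k₁, k₂, hk1, hk2, hk10, hk20, hk12, hv1, hv2⟩ : ∃ k₁ k₂ : F, k₁ ∈ K ∧ k₂ ∈ K ∧ k₁ ≠ 0 ∧
      k₂ ≠ 0 ∧ k₁ ≠ k₂ ∧ k₁ * x₁ * p + y₁ * q ≠ 0 ∧ k₂ * x₁ * p + y₁ * q ≠ 0 := by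
    have hκ1' : κ + 1 ≠ 0 := fun h => hκ1 (CharTwo.add_eq_zero.mp h)
    have hκκ : κ ≠ κ + 1 := fun h => by simp at h
    have h1κ : 1 ≠ κ + 1 := fun h => hκ0 (by simpa using h.symm)
    by_cases c1 : (1 : F) * x₁ * p + y₁ * q = 0
    · refine ⟨κ, κ + 1, hκK, K.add_mem hκK K.one_mem, hκ0, hκ1', hκκ, ?_, ?_⟩
      · exact fun h => hκ1 (inj _ _ (h.trans c1.symm))
      · exact fun h => h1κ (inj _ _ (h.trans c1.symm)).symm
    by_cases c2 : κ * x₁ * p + y₁ * q = 0
    · refine ⟨1, κ + 1, K.one_mem, K.add_mem hκK K.one_mem, one_ne_zero, hκ1', h1κ, c1, ?_⟩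
      exact fun h => hκκ (inj _ _ (h.trans c2.symm)).symm
    · exact ⟨1, κ, K.one_mem, hκK, one_ne_zero, hκ0, fun h => hκ1 h.symm, c1, c2⟩
  have hm' : ∀ k ∈ K, k ≠ 0 → (k * x₁) • e + y₁ • r ∈ Dset P := fun k hk hk0 =>
    hsp.orbit _ _ hm1 k hk hk0
  obtain ⟨K', e', r', μ', hsp'⟩ := exists_split hS hA hu hv huv hne hd (hm' k₁ hk1 hk10) (hm' k₂ hk2 hk20)
    (hsp.mem_span _ _) (hsp.mem_span _ _) (by rw [hdval]; exact hv1) (by rw [hdval]; exact hv2)
    (by rw [hdval, hdval]; exact fun h => hk12 (inj _ _ h))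
  have hvK : ∀ k ∈ K, k ≠ 0 → (k * x₁ * p + y₁ * q) / μ' ∈ K' := fun k hk hk0 => by
    rw [← hdval]; exact hsp'.vals _ (hm' k hk hk0) (hsp.mem_span _ _)
  have hscale : ∀ k ∈ K, k * x₁ * p / μ' ∈ K' := by
    intro k hk
    rcases eq_or_ne k 0 with rfl | hk0
    · simp
    obtain ⟨s, hs, hs0, hsk⟩ : ∃ s ∈ K, s ≠ 0 ∧ s ≠ k := by
      by_cases h : k = 1
      · exact ⟨κ, hκK, hκ0, h.symm ▸ hκ1⟩
      · exact ⟨1, K.one_mem, one_ne_zero, Ne.symm h⟩
    have hsk' : s + k ≠ 0 := fun h => hsk (CharTwo.add_eq_zero.mp h)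
    have := K'.add_mem (hvK _ (K.add_mem hs hk) hsk') (hvK s hs hs0)
    convert this using 1
    rw [← add_div]
    congr 1
    linear_combination (-(s * x₁ * p + y₁ * q)) * CharTwo.two_eq_zero (R := F)
  have h1' : x₁ * p / μ' ∈ K' := by simpa using hscale 1 K.one_mem
  have hKK' : ∀ k ∈ K, k ∈ K' := by
    intro k hk
    have hμ' := hsp'.hμ₀
    have := K'.div_mem (hscale k hk) h1'
    convert this using 1
    field_simp
  have hK'K : K' = K := by
    refine SetLike.ext fun k => ⟨fun hk => ?_, hKK' k⟩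
    let ι : K → K' := fun y => ⟨y, hKK' _ y.2⟩
    have hι : Function.Injective ι := fun y y' h => Subtype.ext (congrArg (fun w : K' => (w : F)) h)
    obtain ⟨y, hy⟩ := (hι.bijective_of_nat_card_le (hmax _ _ _ _ _ hd hsp')).2 ⟨k, hk⟩
    rw [show k = (y : F) from (congrArg (fun w : K' => (w : F)) hy).symm]
    exact y.2
  subst hK'K
  refine ⟨d, hd, e', r', μ', hsp', hde, hdr, h1', ?_, k₁, k₂, hk1, hk2, hk10, hk20, hk12,
    by rw [hdval]; exact hv1, by rw [hdval]; exact hv2⟩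
  have := K'.add_mem (hvK k₁ hk1 hk10) (hscale k₁ hk1)
  convert this using 1
  rw [← add_div]
  congr 1
  linear_combination (-(k₁ * x₁ * p)) * CharTwo.two_eq_zero (R := F)

/-- All members off the kernel of a maximal splitting vector have one level. -/
theorem level_unique (hS : Setting P) (hA : OneScalar P) {u v : V4} (hu : u ∈ Dset P) (hv : v ∈ Dset P)
    (huv : altForm4 u v = 0) (hne : u ≠ v) {z e r : V4} {K : Subfield F} {μ₀ : F} (hz : z ∈ Dset P)
    (hsp : Split P u v z K e r μ₀)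
    (hmax : ∀ z' K' e' r' μ', z' ∈ Dset P → Split P u v z' K' e' r' μ' → Nat.card K' ≤ Nat.card K)
    {x₁ y₁ x₂ y₂ : F} (hm1 : x₁ • e + y₁ • r ∈ Dset P) (hm2 : x₂ • e + y₂ • r ∈ Dset P)
    (hx1 : x₁ ≠ 0) (hx2 : x₂ ≠ 0) : y₁ = y₂ := by
  obtain ⟨d, -, e', r', μ', hsp', hde, hdr, hp1, hq1, -⟩ :=
    split_generic hS hA hu hv huv hne hz hsp hmax hm1 hx1
  have hy1 := hsp.level_ne hA hm1 hx1
  have hy2 := hsp.level_ne hA hm2 hx2
  have hμ₀ := hsp.hμ₀
  have hμ' := hsp'.hμ₀
  have hxK : x₂ / x₁ ∈ K := by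
    have k1 := hsp.vals _ hm1 (hsp.mem_span _ _)
    have k2 := hsp.vals _ hm2 (hsp.mem_span _ _)
    rw [hsp.coord] at k1 k2
    have := K.div_mem k2 k1
    convert this using 1
    field_simp
  have hyK : y₂ / y₁ ∈ K := by
    have h0 := hsp'.vals _ hm2 (hsp.mem_span _ _)
    rw [f_add_right, f_smul_right, f_smul_right] at h0
    have := K.div_mem (K.add_mem h0 (K.mul_mem hxK hp1)) hq1
    convert this using 1
    field_simp
    linear_combination (-(x₂ * altForm4 d e)) * CharTwo.two_eq_zero (R := F)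
  set k := (y₂ / y₁) / (x₂ / x₁) with hk
  have hk0 : k ≠ 0 := div_ne_zero (div_ne_zero hy2 hy1) (div_ne_zero hx2 hx1)
  have hmm := hsp.orbit x₂ y₂ hm2 k (K.div_mem hyK hxK) hk0
  have he' : (k * x₂) • e + y₂ • r = (y₂ / y₁) • (x₁ • e + y₁ • r) := by
    rw [smul_add, smul_smul, smul_smul, div_mul_cancel₀ _ hy1]
    congr 2
    rw [hk]
    field_simp
  exact ((div_eq_one_iff_eq hy1).mp (hA _ hm1 _ (he' ▸ hmm))).symm

/-- All non-zero values on a bad triple agree. -/
theorem values_agree (hS : Setting P) (hA : OneScalar P) {u v : V4} {α β : F} (hu : u ∈ Dset P)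
    (hv : v ∈ Dset P) (huv : altForm4 u v = 0) (hne : u ≠ v) (hx : α • u + β • v ∈ Dset P)
    (hbad : α + β ≠ 1) {z t t' : V4} (hz : z ∈ Dset P) (ht : t ∈ Dset P) (ht' : t' ∈ Dset P)
    (htW : ∃ a b : F, t = a • u + b • v) (htW' : ∃ a b : F, t' = a • u + b • v)
    (h1 : altForm4 z t ≠ 0) (h2 : altForm4 z t' ≠ 0) : altForm4 z t = altForm4 z t' := by
  classical
  by_contra h3
  -- a splitting vector with the largest field
  have hex : ∃ n, ∃ z K e r μ₀, z ∈ Dset P ∧ Split P u v z K e r μ₀ ∧ Nat.card K = n := by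
    obtain ⟨K, e, r, μ₀, h⟩ := exists_split hS hA hu hv huv hne hz ht ht' htW htW' h1 h2 h3
    exact ⟨_, z, K, e, r, μ₀, hz, h, rfl⟩
  obtain ⟨z, K, e, r, μ₀, hz, hsp, hmax⟩ : ∃ z K e r μ₀, z ∈ Dset P ∧ Split P u v z K e r μ₀ ∧
      ∀ z' K' e' r' μ', z' ∈ Dset P → Split P u v z' K' e' r' μ' → Nat.card K' ≤ Nat.card K := by
    set B := {n | ∃ z K e r μ₀, z ∈ Dset P ∧ Split P u v z K e r μ₀ ∧ Nat.card K = n}
    have hfin : B.Finite := (Set.finite_le_nat (Nat.card F)).subset (by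
      rintro n ⟨z, K, e, r, μ₀, -, -, rfl⟩
      exact Nat.card_le_card_of_injective _ K.subtype.injective)
    obtain ⟨m, hm, hmax⟩ := hfin.toFinset.exists_max_image id (by
      obtain ⟨n, hn⟩ := hex
      exact ⟨n, hfin.mem_toFinset.mpr hn⟩)
    obtain ⟨z, K, e, r, μ₀, hz, hsp, rfl⟩ := hfin.mem_toFinset.mp hm
    exact ⟨z, K, e, r, μ₀, hz, hsp, fun z' K' e' r' μ' hz' hsp' =>
      hmax _ (hfin.mem_toFinset.mpr ⟨z', K', e', r', μ', hz', hsp', rfl⟩)⟩
  clear h1 h2 h3 htW htW' ht ht' t t' hex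
  obtain ⟨a, b, hea⟩ := hsp.he
  obtain ⟨a', b', hra⟩ := hsp.hr
  have hli := hsp.li
  have hdec := span_uv_decomp hli hea hra
  -- some member has a non-zero coordinate
  obtain ⟨μ₁, ℓ₁, hm1, hμ1⟩ : ∃ μ ℓ : F, μ • e + ℓ • r ∈ Dset P ∧ μ ≠ 0 := by
    by_contra hcon
    push Not at hcon
    obtain ⟨x, y, hxy⟩ := hdec u ⟨1, 0, by simp⟩
    obtain ⟨x', y', hxy'⟩ := hdec v ⟨0, 1, by simp⟩
    have k1 : x = 0 := hcon x y (hxy ▸ hu)
    have k2 : x' = 0 := hcon x' y' (hxy' ▸ hv)
    rw [k1, zero_smul, zero_add] at hxy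
    rw [k2, zero_smul, zero_add] at hxy'
    have hy : y ≠ 0 := fun h => hu.1 (by rw [hxy, h, zero_smul])
    have hv' : v = (y' / y) • u := by rw [hxy, smul_smul, div_mul_cancel₀ _ hy, ← hxy']
    have hc := hA u hu (y' / y) (hv' ▸ hv)
    exact hne (by rw [hv', hc, one_smul])
  have hℓ1 := hsp.level_ne hA hm1 hμ1
  -- every member has the first level
  have hall : ∀ μ ℓ : F, μ • e + ℓ • r ∈ Dset P → ℓ = ℓ₁ := by
    intro μ ℓ hm
    by_cases hμ : μ = 0
    swap
    · exact (level_unique hS hA hu hv huv hne hz hsp hmax hm1 hm hμ1 hμ).symm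
    subst hμ
    obtain ⟨d, hd, e', r', μ', hsp', hde, hdr, -, -, k₁, k₂, hk1, hk2, hk10, hk20, hk12, hv1, hv2⟩ :=
      split_generic hS hA hu hv huv hne hz hsp hmax hm1 hμ1
    obtain ⟨a₂, b₂, hea'⟩ := hsp'.he
    obtain ⟨a₃, b₃, hra'⟩ := hsp'.hr
    have hdec' := span_uv_decomp hsp'.li hea' hra'
    obtain ⟨Xe, Ye, hee⟩ := hdec' e hsp.he
    obtain ⟨Xr, Yr, hrr⟩ := hdec' r hsp.hr
    have hco : ∀ x y : F, x • e + y • r = (x * Xe + y * Xr) • e' + (x * Ye + y * Yr) • r' := by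
      intro x y
      rw [hee, hrr]
      simp only [smul_add, smul_smul, add_smul]
      abel
    have hℓ0 : ℓ ≠ 0 := fun h => hm.1 (by rw [h, zero_smul, zero_smul, add_zero])
    have hv3 : altForm4 d ((0 : F) • e + ℓ • r) ≠ 0 := by
      rw [zero_smul, zero_add, f_smul_right]
      exact mul_ne_zero hℓ0 hdr
    have n1 := hsp.orbit _ _ hm1 k₁ hk1 hk10
    have n2 := hsp.orbit _ _ hm1 k₂ hk2 hk20
    have n3 := hm
    rw [hco, hsp'.coord] at hv1 hv2 hv3
    rw [hco] at n1 n2 n3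
    have y12 := level_unique hS hA hu hv huv hne hd hsp' hmax n1 n2 hv1 hv2
    have y13 := level_unique hS hA hu hv huv hne hd hsp' hmax n1 n3 hv1 hv3
    have hYe : Ye = 0 := by
      have h0 : (k₁ + k₂) * μ₁ * Ye = 0 := by
        linear_combination y12 + (k₂ * μ₁ * Ye) * CharTwo.two_eq_zero (R := F)
      exact (mul_eq_zero.mp h0).resolve_left
        (mul_ne_zero (fun h => hk12 (CharTwo.add_eq_zero.mp h)) hμ1)
    have hYr : Yr ≠ 0 := by
      intro h
      have hXe : Xe ≠ 0 := by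
        intro hX
        rw [hX, hYe, zero_smul, zero_smul, add_zero] at hee
        have h0 := hsp.ze
        rw [hee, f_zero_right] at h0
        exact zero_ne_one h0
      have h0 : Xr • e + Xe • r = 0 := by
        rw [hee, hrr, hYe, h, zero_smul, add_zero, add_zero, smul_smul, smul_smul, mul_comm Xe Xr]
        exact add_self_vec _
      exact hXe (LinearIndependent.pair_iff.mp hli _ _ h0).2
    rw [hYe, mul_zero, zero_add, zero_mul, zero_add] at y13
    exact (mul_right_cancel₀ hYr y13).symm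
  -- so the triple is affine
  obtain ⟨x₁, y₁, e₁⟩ := hdec u ⟨1, 0, by simp⟩
  obtain ⟨x₂, y₂, e₂⟩ := hdec v ⟨0, 1, by simp⟩
  have hy1 := hall x₁ y₁ (e₁ ▸ hu)
  have hy2 := hall x₂ y₂ (e₂ ▸ hv)
  have he3 : α • u + β • v = (α * x₁ + β * x₂) • e + ((α + β) * ℓ₁) • r := by
    rw [e₁, e₂, hy1, hy2]
    simp only [smul_add, smul_smul, add_smul, add_mul]
    abel
  have := hall _ _ (he3 ▸ hx)
  exact hbad (mul_right_cancel₀ hℓ1 (by rw [this, one_mul]))

end Cfsg.Agent.H97.SpEven
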