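import Cfsg.Agent.H97.SpEven.Value
import Cfsg.Agent.S0111
import Cfsg.Agent.S0215

/-!
One scalar per point: a Sylow two-subgroup and transfer leave a triple off an affine line.
-/

set_option autoImplicit false
set_option linter.unusedSectionVars false
set_option linter.unusedSimpArgs false

namespace Cfsg.Agent.H97.SpEven

open Matrix
open Cfsg.Lie (altForm4)
open Cfsg.Geo (matrixSet ActsIrreducibly)

variable {F : Type*} [Field F] [CharP F 2] [Fintype F]

local notation "V4" => (Fin 4 → F)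
local notation "M4" => Matrix (Fin 4) (Fin 4) F
local notation "G4" => GL (Fin 4) F

theorem trace_rank_one (v : V4) :
    (vecMulVec v (suzukiForm F *ᵥ v)).trace = 0 := by
  rw [Matrix.trace_vecMulVec, dotProduct_comm, ← f_eq_dot, f_self]

/-- The product of two non-orthogonal transvections has non-zero trace. -/
theorem trace_tv_mul (d e : V4) :
    ((tv d * tv e : G4) : M4).trace = altForm4 d e ^ 2 := by
  rw [Units.val_mul]
  show (tvMat d * tvMat e).trace = _
  rw [tvMat, tvMat, add_mul, mul_add, mul_add, one_mul, one_mul, mul_one, vecMulVec_mul_vecMulVec,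
    Matrix.trace_add, Matrix.trace_add, Matrix.trace_add, trace_rank_one, trace_rank_one,
    Matrix.trace_one, Matrix.trace_vecMulVec, Fintype.card_fin]
  rw [← f_eq_dot, dotProduct_smul, dotProduct_comm d, ← f_eq_dot, f_comm e d, smul_eq_mul]
  linear_combination 2 * CharTwo.two_eq_zero (R := F)

theorem trace_eq_zero_of_pow {g : G4} {k : ℕ} (hg : g ^ 2 ^ k = 1) : (g : M4).trace = 0 := by
  have hnil : IsNilpotent ((g : M4) - 1) := ⟨2 ^ k, by
    rw [sub_pow_char_pow_of_commute 2 k (Commute.one_right _), one_pow, ← Units.val_pow_eq_pow_val,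
      hg, Units.val_one, sub_self]⟩
  have h0 := (Matrix.isNilpotent_trace_of_isNilpotent hnil).eq_zero
  rw [Matrix.trace_sub, Matrix.trace_one, Fintype.card_fin, sub_eq_zero] at h0
  rw [h0]
  push_cast
  linear_combination 2 * CharTwo.two_eq_zero (R := F)

variable {P : Subgroup (GL (Fin 4) F)}

theorem not_fix (irr : ActsIrreducibly (matrixSet P)) {d : V4} (hd : d ≠ 0) :
    ¬ ∀ g ∈ P, (g : M4) *ᵥ d = d := by
  intro h
  rcases irr (Submodule.span F {d}) (by
      rintro _ ⟨g, hg, rfl⟩ _ ⟨x, hx, rfl⟩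
      obtain ⟨c, rfl⟩ := Submodule.mem_span_singleton.mp hx
      rw [Matrix.toLin'_apply, mulVec_smul, h g hg]
      exact Submodule.smul_mem _ _ (Submodule.mem_span_singleton_self d)) with h0 | h1
  · exact hd (by simpa using h0)
  · have := congrArg (fun U : Submodule F V4 => Module.finrank F U) h1
    rw [finrank_span_singleton hd, finrank_top] at this
    simp at this

/-- A functional to the prime field taking the value one at one. -/
theorem exists_functional : ∃ ψ : F →+ ZMod 2, ψ 1 = 1 := by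
  let _ : Algebra (ZMod 2) F := ZMod.algebra F 2
  by_contra hcon
  push Not at hcon
  refine one_ne_zero (α := F) ((Module.forall_dual_apply_eq_zero_iff (ZMod 2) (1 : F)).mp fun φ => ?_)
  have h := hcon φ.toAddMonoidHom
  have h2 : ∀ x : ZMod 2, x ≠ 1 → x = 0 := by decide
  exact h2 _ h

/-- One scalar per point: all values of the form are zero or one. -/
theorem values_of_oneScalar (hS : Setting P) [IsSimpleGroup P] (hA : OneScalar P) :
    ∀ d ∈ Dset P, ∀ e ∈ Dset P, altForm4 d e = 0 ∨ altForm4 d e = 1 := by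
  classical
  have ho : ∀ x, ∀ hx : x ∈ Dset P, orderOf (⟨tv x, hx.2⟩ : P) = 2 := fun x hx =>
    orderOf_eq_prime (Subtype.ext (by rw [SubmonoidClass.coe_pow, sq]; exact tv_mul_self x))
      fun h => tv_ne_one hx.1 (congrArg Subtype.val h)
  obtain ⟨d₀, hd₀⟩ := hS.ne
  have hZ : IsPGroup 2 (Subgroup.zpowers (⟨tv d₀, hd₀.2⟩ : P)) :=
    IsPGroup.of_card (n := 1) (by rw [Nat.card_zpowers, ho d₀ hd₀, pow_one])
  obtain ⟨Sy, hSy⟩ := hZ.exists_le_sylow
  set T : Set V4 := {x | ∃ hx : x ∈ Dset P, (⟨tv x, hx.2⟩ : P) ∈ (Sy : Subgroup P)}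
  have hT₀ : d₀ ∈ T := ⟨hd₀, hSy (Subgroup.mem_zpowers _)⟩
  have hperp : ∀ x ∈ T, ∀ y ∈ T, altForm4 x y = 0 := by
    rintro x ⟨hx, hxS⟩ y ⟨hy, hyS⟩
    obtain ⟨k, hk⟩ := Sy.isPGroup' ⟨_, (Sy : Subgroup P).mul_mem hxS hyS⟩
    have h1 : (tv x * tv y) ^ 2 ^ k = 1 := congrArg (fun g : (Sy : Subgroup P) => ((g : P) : G4)) hk
    have h2 := trace_eq_zero_of_pow h1
    rw [trace_tv_mul] at h2
    exact pow_eq_zero_iff two_ne_zero |>.mp h2
  have hconj : ∀ (g : P) (x : V4) (hx : x ∈ Dset P),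
      g * (⟨tv x, hx.2⟩ : P) * g⁻¹ = ⟨tv (((g : G4) : M4) *ᵥ x), (Dset_map hS.sp g.2 hx).2⟩ :=
    fun g x hx => Subtype.ext (tv_conj (hS.sp g.2) x)
  have hTinv : ∀ g ∈ (Sy : Subgroup P), ∀ x ∈ T, ((g : G4) : M4) *ᵥ x ∈ T := by
    rintro g hg x ⟨hx, hxS⟩
    refine ⟨Dset_map hS.sp g.2 hx, ?_⟩
    rw [← hconj g x hx]
    exact Subgroup.mul_mem _ (Subgroup.mul_mem _ hg hxS) (Subgroup.inv_mem _ hg)
  -- a single vector
  by_cases hsingle : ∀ x ∈ T, x = d₀
  · exfalso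
    obtain ⟨N, hN, hodd, hcomm⟩ := S0215.result Sy (⟨tv d₀, hd₀.2⟩ : P) (ho d₀ hd₀)
      (hSy (Subgroup.mem_zpowers _)) fun g hg => by
        rw [hconj g d₀ hd₀] at hg ⊢
        exact Subtype.ext (congrArg tv (hsingle _ ⟨Dset_map hS.sp g.2 hd₀, hg⟩))
    rcases hN.eq_bot_or_eq_top with rfl | rfl
    · refine not_fix hS.irr hd₀.1 fun g hg => eq_self_of_conj_tv (hS.sp hg) ?_
      have h := Subgroup.mem_bot.mp (hcomm ⟨g, hg⟩)
      rw [mul_inv_eq_one, mul_inv_eq_iff_eq_mul] at h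
      exact (congrArg Subtype.val h).symm
    · rw [Subgroup.card_top] at hodd
      have h2 : 2 ∣ Nat.card P := ho d₀ hd₀ ▸ orderOf_dvd_natCard _
      exact (Nat.not_even_iff_odd.mpr hodd) (even_iff_two_dvd.mpr h2)
  push Not at hsingle
  obtain ⟨v, hvT, hvne⟩ := hsingle
  have hT₁ : v ∈ T := hvT
  obtain ⟨hv, -⟩ := hvT
  have huv : altForm4 d₀ v = 0 := hperp _ hT₀ _ hT₁
  have hli := li_pair hA hd₀ hv hvne.symm
  obtain ⟨hsurj, hspan⟩ := mem_span_of_perp huv hli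
  -- either a triple off an affine line, or all triples affine
  by_cases haff : ∀ x ∈ T, ∀ a b : F, x = a • d₀ + b • v → a + b = 1
  swap
  · push Not at haff
    obtain ⟨x, ⟨hx, -⟩, a, b, rfl, hab⟩ := haff
    exact values_zero_one hS hA hd₀ hv huv hvne.symm hx hab
  exfalso
  obtain ⟨y, hy1, hy2⟩ := hsurj 1 1
  have hTy : ∀ x ∈ T, altForm4 x y = 1 := by
    intro x hx
    obtain ⟨a, b, hab⟩ := hspan x (hperp _ hT₀ _ hx) (hperp _ hT₁ _ hx)
    rw [hab, f_add_left, f_smul_left, f_smul_left, hy1, hy2, mul_one, mul_one]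
    exact haff x hx a b hab
  -- the homomorphism
  have hmove : ∀ g ∈ (Sy : Subgroup P), ∀ x ∈ T, altForm4 x (((g : G4) : M4) *ᵥ y) = 1 := by
    intro g hg x hx
    rw [f_map_inv (hS.sp g.2)]
    exact hTy _ (hTinv g⁻¹ (Subgroup.inv_mem _ hg) x hx)
  obtain ⟨ψ, hψ⟩ := exists_functional (F := F)
  have hdec : ∀ g ∈ (Sy : Subgroup P), ∃ a b : F, ((g : G4) : M4) *ᵥ y = y + (a • d₀ + b • v) := by
    intro g hg
    obtain ⟨a, b, hab⟩ := hspan (((g : G4) : M4) *ᵥ y + y)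
      (by rw [f_add_right, hmove g hg _ hT₀, hTy _ hT₀, CharTwo.add_self_eq_zero])
      (by rw [f_add_right, hmove g hg _ hT₁, hTy _ hT₁, CharTwo.add_self_eq_zero])
    exact ⟨a, b, by rw [← hab, add_left_comm, add_self_vec, add_zero]⟩
  have hadd : ∀ g ∈ (Sy : Subgroup P), ∀ h ∈ (Sy : Subgroup P),
      altForm4 ((((g * h : P) : G4) : M4) *ᵥ y) y =
        altForm4 (((g : G4) : M4) *ᵥ y) y + altForm4 (((h : G4) : M4) *ᵥ y) y := by
    intro g hg h hh
    obtain ⟨a, b, hab⟩ := hdec h hh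
    rw [Subgroup.coe_mul, Units.val_mul, ← mulVec_mulVec, hab, mulVec_add, mulVec_add, mulVec_smul,
      mulVec_smul, f_add_left, f_add_left, f_smul_left, f_smul_left, hTy _ (hTinv g hg _ hT₀),
      hTy _ (hTinv g hg _ hT₁), f_add_left, f_add_left, f_smul_left, f_smul_left, f_self, hy1, hy2,
      zero_add]
  let φ : P → ZMod 2 := fun g => ψ (altForm4 (((g : G4) : M4) *ᵥ y) y)
  have hφmul : ∀ g ∈ (Sy : Subgroup P), ∀ h ∈ (Sy : Subgroup P), φ (g * h) = φ g + φ h :=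
    fun g hg h hh => by simp only [φ]; rw [hadd g hg h hh, map_add]
  have hφone : φ 1 = 0 := by simp [φ, f_self]
  let Q : Subgroup P :=
    { carrier := {g | g ∈ (Sy : Subgroup P) ∧ φ g = 0}
      one_mem' := ⟨one_mem _, hφone⟩
      mul_mem' := fun {g h} hg hh => ⟨mul_mem hg.1 hh.1, by
        rw [hφmul g hg.1 h hh.1, hg.2, hh.2, add_zero]⟩
      inv_mem' := fun {g} hg => ⟨inv_mem hg.1, by
        have h := hφmul g hg.1 g⁻¹ (inv_mem hg.1)
        rw [mul_inv_cancel, hφone, hg.2, zero_add] at h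
        exact h.symm⟩ }
  have hφT : ∀ x, ∀ hx : x ∈ Dset P, x ∈ T → φ ⟨tv x, hx.2⟩ = 1 := by
    intro x hx hxT
    show ψ (altForm4 ((tv x : M4) *ᵥ y) y) = 1
    rw [tv_apply, hTy x hxT, one_smul, f_add_left, f_self, zero_add, hTy x hxT, hψ]
  set u : P := ⟨tv d₀, hd₀.2⟩
  have huS : u ∈ (Sy : Subgroup P) := hSy (Subgroup.mem_zpowers _)
  have hQi : Q.relIndex (Sy : Subgroup P) = 2 := by
    rw [Subgroup.relIndex, Subgroup.index_eq_two_iff]
    refine ⟨⟨u, huS⟩, fun g => ?_⟩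
    have h1 : φ ((g : P) * u) = φ (g : P) + 1 := by rw [hφmul _ g.2 _ huS, hφT _ hd₀ hT₀]
    have h2 : ∀ t : ZMod 2, Xor (t + 1 = 0) (t = 0) := by
      have h01 : ∀ t : ZMod 2, t = 0 ∨ t = 1 := by decide
      intro t
      rcases h01 t with rfl | rfl
      · exact Or.inr ⟨rfl, by decide⟩
      · exact Or.inl ⟨by decide, by decide⟩
    simp only [Subgroup.mem_subgroupOf, Subgroup.coe_mul]
    show Xor ((g : P) * u ∈ (Sy : Subgroup P) ∧ φ ((g : P) * u) = 0) ((g : P) ∈ (Sy : Subgroup P) ∧ φ (g : P) = 0)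
    rw [h1]
    simpa [mul_mem g.2 huS, g.2] using h2 (φ (g : P))
  rcases S0111.result Sy Q (fun g hg => hg.1) hQi u (ho d₀ hd₀) huS
      (fun h => one_ne_zero ((hφT _ hd₀ hT₀).symm.trans h.2)) with ⟨M, hM, hM2, huM⟩ | ⟨g, hg⟩
  · rcases hM.eq_bot_or_eq_top with rfl | rfl
    · rw [Subgroup.index_bot] at hM2
      have htop : Subgroup.zpowers u = ⊤ := Subgroup.eq_top_of_card_eq _ (by
        rw [Nat.card_zpowers, ho d₀ hd₀, hM2])
      refine not_fix hS.irr hd₀.1 fun g hg => eq_self_of_conj_tv (hS.sp hg) ?_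
      obtain ⟨k, hk⟩ := Subgroup.mem_zpowers_iff.mp (htop ▸ Subgroup.mem_top (⟨g, hg⟩ : P))
      have : (tv d₀) ^ k = g := by simpa [u] using congrArg Subtype.val hk
      rw [← this]
      exact (Commute.self_zpow (tv d₀) k).eq.symm
    · exact huM (Subgroup.mem_top _)
  · rw [hconj g d₀ hd₀] at hg
    exact one_ne_zero ((hφT _ (Dset_map hS.sp g.2 hd₀) ⟨Dset_map hS.sp g.2 hd₀, hg.1⟩).symm.trans hg.2)

end Cfsg.Agent.H97.SpEven
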