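import Cfsg.Agent.H97.SpEven.Triple

/-!
A triple of transvection vectors off an affine line: the form takes the values zero and one only.
-/

set_option autoImplicit false
set_option linter.unusedSectionVars false
set_option linter.unusedSimpArgs false

namespace Cfsg.Agent.H97.SpEven

open Matrix
open Cfsg.Lie (altForm4)

variable {F : Type*} [Field F] [CharP F 2] [Fintype F]

local notation "V4" => (Fin 4 → F)
local notation "G4" => GL (Fin 4) F

variable {P : Subgroup (GL (Fin 4) F)}

/-- Three vectors adding to zero on a totally isotropic line. -/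
structure Tri (P : Subgroup G4) (p q : V4) : Prop where
  hp : p ∈ Dset P
  hq : q ∈ Dset P
  hpq : p + q ∈ Dset P
  perp : altForm4 p q = 0
  ne : p ≠ q

theorem Tri.swap {p q : V4} (h : Tri P p q) : Tri P q p :=
  ⟨h.hq, h.hp, add_comm p q ▸ h.hpq, by rw [f_comm]; exact h.perp, h.ne.symm⟩

theorem Tri.shift {p q : V4} (h : Tri P p q) : Tri P (p + q) q :=
  ⟨h.hpq, h.hq, by rw [add_assoc, add_self_vec, add_zero]; exact h.hp,
    by rw [f_add_left, h.perp, f_self, add_zero],
    fun e => h.hp.1 (by simpa using e)⟩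

theorem one_add_one_ne : (1 : F) + 1 ≠ 1 := by
  rw [CharTwo.add_self_eq_zero]; exact zero_ne_one

/-- The coefficients of a bad triple are one. -/
theorem coeff_one (hS : Setting P) (hA : OneScalar P) {u v : V4} {α β : F} (hu : u ∈ Dset P)
    (hv : v ∈ Dset P) (huv : altForm4 u v = 0) (hne : u ≠ v) (hx : α • u + β • v ∈ Dset P)
    (hbad : α + β ≠ 1) : α = 1 ∧ β = 1 := by
  have hα : α ≠ 0 := fun h => by
    rw [h, zero_smul, zero_add] at hx
    exact hbad (by rw [h, hA v hv β hx, zero_add])
  have hβ : β ≠ 0 := fun h => by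
    rw [h, zero_smul, add_zero] at hx
    exact hbad (by rw [h, hA u hu α hx, add_zero])
  have hu' : ∃ a b : F, u = a • u + b • v := ⟨1, 0, by simp⟩
  have hv' : ∃ a b : F, v = a • u + b • v := ⟨0, 1, by simp⟩
  have hx' : ∃ a b : F, α • u + β • v = a • u + b • v := ⟨α, β, rfl⟩
  have key : ∀ z ∈ Dset P, (altForm4 z v = 0 ∧ (altForm4 z u ≠ 0 → α = 1)) ∨
      (altForm4 z u = 0 ∧ (altForm4 z v ≠ 0 → β = 1)) ∨ (altForm4 z u = altForm4 z v ∧ α = β) := by
    intro z hz
    have hval : altForm4 z (α • u + β • v) = α * altForm4 z u + β * altForm4 z v := by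
      rw [f_add_right, f_smul_right, f_smul_right]
    rcases eq_or_ne (altForm4 z v) 0 with h | h
    · refine Or.inl ⟨h, fun ha => ?_⟩
      have := values_agree hS hA hu hv huv hne hx hbad hz hu hx hu' hx' ha
        (by rw [hval, h, mul_zero, add_zero]; exact mul_ne_zero hα ha)
      rw [hval, h, mul_zero, add_zero] at this
      exact mul_right_cancel₀ ha (by rw [one_mul]; exact this.symm)
    rcases eq_or_ne (altForm4 z u) 0 with h' | h'
    · refine Or.inr (Or.inl ⟨h', fun hb => ?_⟩)
      have := values_agree hS hA hu hv huv hne hx hbad hz hv hx hv' hx' hb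
        (by rw [hval, h', mul_zero, zero_add]; exact mul_ne_zero hβ hb)
      rw [hval, h', mul_zero, zero_add] at this
      exact mul_right_cancel₀ hb (by rw [one_mul]; exact this.symm)
    refine Or.inr (Or.inr ?_)
    have e := values_agree hS hA hu hv huv hne hx hbad hz hu hv hu' hv' h' h
    refine ⟨e, ?_⟩
    by_contra hab
    have h2 : altForm4 z (α • u + β • v) ≠ 0 := by
      rw [hval, ← e, ← add_mul]
      exact mul_ne_zero (fun h0 => hab (CharTwo.add_eq_zero.mp h0)) h'
    have := values_agree hS hA hu hv huv hne hx hbad hz hu hx hu' hx' h' h2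
    rw [hval, ← e, ← add_mul] at this
    exact hbad (mul_right_cancel₀ h' (by rw [one_mul]; exact this.symm))
  by_contra hcon
  by_cases ha1 : α = 1
  · refine hv.1 (eq_zero_of_perp_span hS.span_Dset fun z hz => ?_)
    rw [f_comm]
    rcases key z hz with ⟨h, -⟩ | ⟨-, h⟩ | ⟨-, h⟩
    · exact h
    · by_contra hne'
      exact hcon ⟨ha1, h hne'⟩
    · exact absurd ⟨ha1, h ▸ ha1⟩ hcon
  by_cases hb1 : β = 1
  · refine hu.1 (eq_zero_of_perp_span hS.span_Dset fun z hz => ?_)
    rw [f_comm]
    rcases key z hz with ⟨-, h⟩ | ⟨h, -⟩ | ⟨-, h⟩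
    · by_contra hne'
      exact ha1 (h hne')
    · exact h
    · exact absurd (h.trans hb1) ha1
  refine hne (add_eq_zero_vec (eq_zero_of_perp_span hS.span_Dset fun z hz => ?_))
  rw [f_comm, f_add_right]
  rcases key z hz with ⟨h, h'⟩ | ⟨h, h'⟩ | ⟨h, -⟩
  · by_contra hne'
    exact ha1 (h' fun h0 => hne' (by rw [h, h0, add_zero]))
  · by_contra hne'
    exact hb1 (h' fun h0 => hne' (by rw [h, h0, add_zero]))
  · rw [h, CharTwo.add_self_eq_zero]

/-- Non-zero values on a triple agree. -/
theorem Tri.agree (hS : Setting P) (hA : OneScalar P) {p q : V4} (h : Tri P p q) {z : V4}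
    (hz : z ∈ Dset P) (h1 : altForm4 z p ≠ 0) (h2 : altForm4 z q ≠ 0) :
    altForm4 z p = altForm4 z q :=
  values_agree hS hA h.hp h.hq h.perp h.ne (α := 1) (β := 1) (by simpa using h.hpq)
    (one_add_one_ne) hz h.hp h.hq ⟨1, 0, by simp⟩ ⟨0, 1, by simp⟩ h1 h2

/-- Two vectors of different types: a non-zero product is one. -/
theorem pair_base (hS : Setting P) (hA : OneScalar P) {p q z y : V4} (h : Tri P p q) (hz : z ∈ Dset P)
    (hy : y ∈ Dset P) (hzq : altForm4 z q = 0) (hzp : altForm4 z p ≠ 0) (hyp : altForm4 y p = 0)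
    (hyq : altForm4 y q ≠ 0) (hc : altForm4 z y ≠ 0) :
    altForm4 z y = 1 ∧ altForm4 z p = altForm4 y q := by
  have step : ∀ {p q z y : V4}, Tri P p q → z ∈ Dset P → y ∈ Dset P → altForm4 z q = 0 →
      altForm4 z p ≠ 0 → altForm4 y p = 0 → altForm4 y q ≠ 0 → altForm4 z y ≠ 0 →
      altForm4 z p * altForm4 z y = altForm4 y q := by
    intro p q z y h hz hy hzq hzp hyp hyq hc
    have h' : Tri P (p + altForm4 z p • z) q := by
      refine ⟨Dset_tv_apply hS.sp hz h.hp, h.hq, ?_, ?_, fun e => hzp ?_⟩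
      · have := Dset_tv_apply hS.sp hz h.hpq
        rw [f_add_right, hzq, add_zero] at this
        rwa [add_right_comm]
      · rw [f_add_left, f_smul_left, h.perp, hzq, mul_zero, add_zero]
      · have := congrArg (altForm4 z) e
        rwa [f_add_right, f_smul_right, f_self, mul_zero, add_zero, hzq] at this
    have hval : altForm4 y (p + altForm4 z p • z) = altForm4 z p * altForm4 z y := by
      rw [f_add_right, f_smul_right, hyp, zero_add, f_comm y z]
    have := h'.agree hS hA hy (by rw [hval]; exact mul_ne_zero hzp hc) hyq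
    rwa [hval] at this
  have e1 := step h hz hy hzq hzp hyp hyq hc
  have e2 := step h.swap hy hz hyp hyq hzq hzp (by rwa [f_comm])
  rw [f_comm y z] at e2
  have hsq : altForm4 z y = 1 := sq_inj (mul_left_cancel₀ hzp (by
    rw [one_pow, mul_one, sq, ← mul_assoc, e1, e2]))
  exact ⟨hsq, by rw [hsq, mul_one] at e1; exact e1⟩

theorem pair_types (hS : Setting P) (hA : OneScalar P) {p q z y : V4} (h : Tri P p q) (hz : z ∈ Dset P)
    (hy : y ∈ Dset P) (hzq : altForm4 z q = 0) (hzp : altForm4 z p ≠ 0) (hyp : altForm4 y p = 0)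
    (hyq : altForm4 y q ≠ 0) :
    altForm4 z p = 1 ∧ (altForm4 z y = 0 ∨ altForm4 z y = 1) := by
  set a := altForm4 z p with ha
  set z' := z + altForm4 (p + q) z • (p + q)
  have hcoef : altForm4 (p + q) z = a := by
    rw [f_comm, f_add_right, hzq, add_zero]
  have hz' : z' ∈ Dset P := Dset_tv_apply hS.sp h.hpq hz
  have hz'q : altForm4 z' q = 0 := by
    simp [z', f_add_left, f_smul_left, hzq, h.perp, f_self]
  have hz'p : altForm4 z' p = a := by
    simp [z', f_add_left, f_smul_left, f_self, f_comm q p, h.perp, ← ha]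
  have hz'y : altForm4 z' y = altForm4 z y + a * altForm4 y q := by
    simp [z', hcoef, f_add_left, f_smul_left, f_comm p y, f_comm q y, hyp]
  rcases eq_or_ne (altForm4 z y) 0 with hc | hc
  · obtain ⟨e1, e2⟩ := pair_base hS hA h hz' hy hz'q (hz'p ▸ hzp) hyp hyq
      (by rw [hz'y, hc, zero_add]; exact mul_ne_zero hzp hyq)
    rw [hz'p] at e2
    rw [hz'y, hc, zero_add, ← e2] at e1
    exact ⟨sq_inj (by rw [sq, e1, one_pow]), Or.inl hc⟩
  obtain ⟨e1, e2⟩ := pair_base hS hA h hz hy hzq hzp hyp hyq hc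
  refine ⟨?_, Or.inr e1⟩
  rcases eq_or_ne (altForm4 z' y) 0 with hc' | hc'
  · rw [hz'y, e1, ← e2] at hc'
    exact (sq_inj (by rw [sq, one_pow]; exact (CharTwo.add_eq_zero.mp hc').symm) : a = 1)
  · have e3 := (pair_base hS hA h hz' hy hz'q (hz'p ▸ hzp) hyp hyq hc').1
    rw [hz'y, e1, ← e2, add_eq_left] at e3
    exact absurd (mul_self_eq_zero.mp e3) hzp

theorem type_value (hS : Setting P) (hA : OneScalar P) {p q z : V4} (h : Tri P p q) (hz : z ∈ Dset P)
    (hzq : altForm4 z q = 0) (hzp : altForm4 z p ≠ 0) :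
    altForm4 z p = 1 ∧ ∀ y ∈ Dset P, altForm4 y q ≠ 0 → altForm4 z y = 0 ∨ altForm4 z y = 1 := by
  have key : ∀ y ∈ Dset P, altForm4 y q ≠ 0 →
      altForm4 z p = 1 ∧ (altForm4 z y = 0 ∨ altForm4 z y = 1) := by
    intro y hy hyq
    rcases eq_or_ne (altForm4 y p) 0 with hyp | hyp
    · exact pair_types hS hA h hz hy hzq hzp hyp hyq
    have he := h.agree hS hA hy hyp hyq
    have := pair_types hS hA h.shift hz hy hzq (by rw [f_add_right, hzq, add_zero]; exact hzp)
      (by rw [f_add_right, he, CharTwo.add_self_eq_zero]) hyq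
    rw [f_add_right, hzq, add_zero] at this
    exact this
  obtain ⟨y, hy, hne⟩ := hS.exists_nonorth h.hq
  exact ⟨(key y hy (by rwa [f_comm])).1, fun y hy hyq => (key y hy hyq).2⟩

theorem zero_one_add {a b : F} (ha : a = 0 ∨ a = 1) (hb : b = 0 ∨ b = 1) : a + b = 0 ∨ a + b = 1 := by
  rcases ha with rfl | rfl <;> rcases hb with rfl | rfl <;> simp [CharTwo.add_self_eq_zero]

/-- All values at a vector outside the line. -/
theorem values_off (hS : Setting P) (hA : OneScalar P) {p q z : V4} (h : Tri P p q) (hz : z ∈ Dset P)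
    (hzq : altForm4 z q = 0) (hzp : altForm4 z p ≠ 0) {y : V4} (hy : y ∈ Dset P)
    (hy' : altForm4 y p ≠ 0 ∨ altForm4 y q ≠ 0) : altForm4 z y = 0 ∨ altForm4 z y = 1 := by
  rcases eq_or_ne (altForm4 y q) 0 with hyq | hyq
  swap
  · exact (type_value hS hA h hz hzq hzp).2 y hy hyq
  have hyp : altForm4 y p ≠ 0 := hy'.resolve_right (fun hn => hn hyq)
  have hy1 := (type_value hS hA h hy hyq hyp).1
  obtain ⟨w₀, hw₀, hw₀q⟩ := hS.exists_nonorth h.hq
  -- a vector of another type meeting y
  obtain ⟨w, hw, hwq, hwy⟩ : ∃ w ∈ Dset P, altForm4 w q ≠ 0 ∧ altForm4 w y ≠ 0 := by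
    by_cases hwy : altForm4 w₀ y = 0
    swap
    · exact ⟨w₀, hw₀, by rwa [f_comm], hwy⟩
    by_cases hpw : altForm4 p w₀ = 0
    · refine ⟨_, Dset_tv_apply hS.sp h.hpq hw₀, ?_, ?_⟩
      · rw [f_add_left, f_smul_left, f_add_left p q q, h.perp, f_self, add_zero, mul_zero, add_zero,
          f_comm]
        exact hw₀q
      · rw [f_add_left, f_smul_left, hwy, zero_add, f_add_left p q w₀, hpw, zero_add, f_add_left,
          f_comm p y, f_comm q y, hy1, hyq, add_zero, mul_one]
        exact hw₀q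
    · refine ⟨_, Dset_tv_apply hS.sp h.hp hw₀, ?_, ?_⟩
      · rw [f_add_left, f_smul_left, h.perp, mul_zero, add_zero, f_comm]
        exact hw₀q
      · rw [f_add_left, f_smul_left, hwy, zero_add, f_comm p y, hy1, mul_one]
        exact hpw
  have hwy1 : altForm4 y w = 1 :=
    ((type_value hS hA h hy hyq hyp).2 w hw hwq).resolve_left (by rwa [f_comm])
  have hy2 : y + w ∈ Dset P := by
    have := Dset_tv_apply hS.sp hw hy
    rwa [f_comm, hwy1, one_smul] at this
  have k1 := (type_value hS hA h hz hzq hzp).2 w hw hwq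
  have k2 := (type_value hS hA h hz hzq hzp).2 _ hy2 (by rwa [f_add_left, hyq, zero_add])
  have := zero_one_add k2 k1
  rwa [← f_add_right, add_assoc, add_self_vec, add_zero] at this

/-- A bad triple: all values of the form are zero or one. -/
theorem values_zero_one (hS : Setting P) (hA : OneScalar P) {u v : V4} {α β : F} (hu : u ∈ Dset P)
    (hv : v ∈ Dset P) (huv : altForm4 u v = 0) (hne : u ≠ v) (hx : α • u + β • v ∈ Dset P)
    (hbad : α + β ≠ 1) : ∀ d ∈ Dset P, ∀ e ∈ Dset P, altForm4 d e = 0 ∨ altForm4 d e = 1 := by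
  obtain ⟨rfl, rfl⟩ := coeff_one hS hA hu hv huv hne hx hbad
  rw [one_smul, one_smul] at hx
  have h : Tri P u v := ⟨hu, hv, hx, huv, hne⟩
  -- the vectors of the line
  have hline : ∀ z ∈ Dset P, altForm4 z u = 0 → altForm4 z v = 0 → z = u ∨ z = v ∨ z = u + v := by
    intro z hz h1 h2
    obtain ⟨s, t, rfl⟩ := (mem_span_of_perp huv (li_pair hA hu hv hne)).2 z
      (by rwa [f_comm]) (by rwa [f_comm])
    by_cases hst : s + t = 1
    · by_cases ht : t = 0
      · subst ht
        rw [add_zero] at hst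
        subst hst
        left; simp
      have hs : s = 1 + t := by
        linear_combination hst - t * CharTwo.two_eq_zero (R := F)
      have hz' : (1 : F) • u + t • (u + v) ∈ Dset P := by
        convert hz using 1
        rw [hs, smul_add, add_smul]; abel
      obtain ⟨-, rfl⟩ := coeff_one hS hA hu hx (by rw [f_add_right, f_self, huv, add_zero])
        (fun e => hv.1 (by simpa using e)) hz' (fun e => ht (by simpa using e))
      right; left
      rw [hs, CharTwo.add_self_eq_zero]; simp
    · obtain ⟨rfl, rfl⟩ := coeff_one hS hA hu hv huv hne hz hst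
      right; right; simp
  -- values at the three vectors
  have hone : ∀ z ∈ Dset P, (altForm4 z u = 0 ∨ altForm4 z u = 1) ∧ (altForm4 z v = 0 ∨ altForm4 z v = 1) := by
    intro z hz
    rcases eq_or_ne (altForm4 z v) 0 with h2 | h2
    · refine ⟨?_, Or.inl h2⟩
      rcases eq_or_ne (altForm4 z u) 0 with h1 | h1
      · exact Or.inl h1
      · exact Or.inr (type_value hS hA h hz h2 h1).1
    rcases eq_or_ne (altForm4 z u) 0 with h1 | h1
    · exact ⟨Or.inl h1, Or.inr (type_value hS hA h.swap hz h1 h2).1⟩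
    have he := h.agree hS hA hz h1 h2
    have := (type_value hS hA h.shift.swap hz
      (by rw [f_add_right, he, CharTwo.add_self_eq_zero]) h2).1
    exact ⟨Or.inr (he.trans this), Or.inr this⟩
  intro d hd e he
  by_cases hd0 : altForm4 d u = 0 ∧ altForm4 d v = 0
  · rcases hline d hd hd0.1 hd0.2 with rfl | rfl | rfl
    · rw [f_comm]; exact (hone e he).1
    · rw [f_comm]; exact (hone e he).2
    · rw [f_comm, f_add_right]; exact zero_one_add (hone e he).1 (hone e he).2
  by_cases he0 : altForm4 e u = 0 ∧ altForm4 e v = 0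
  · rcases hline e he he0.1 he0.2 with rfl | rfl | rfl
    · exact (hone d hd).1
    · exact (hone d hd).2
    · rw [f_add_right]; exact zero_one_add (hone d hd).1 (hone d hd).2
  rcases eq_or_ne (altForm4 d v) 0 with h2 | h2
  · refine values_off hS hA h hd h2 (fun h1 => hd0 ⟨h1, h2⟩) he ?_
    by_contra hc
    push Not at hc
    exact he0 hc
  rcases eq_or_ne (altForm4 d u) 0 with h1 | h1
  · refine values_off hS hA h.swap hd h1 h2 he ?_
    by_contra hc
    push Not at hc
    exact he0 ⟨hc.2, hc.1⟩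
  have he' := h.agree hS hA hd h1 h2
  refine values_off hS hA h.shift.swap hd (by rw [f_add_right, he', CharTwo.add_self_eq_zero]) h2 he ?_
  by_contra hc
  push Not at hc
  obtain ⟨hc1, hc2⟩ := hc
  rw [f_add_right, hc1, add_zero] at hc2
  exact he0 ⟨hc2, hc1⟩

end Cfsg.Agent.H97.SpEven
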